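import Cfsg.Agent.H993.RC.TwoDefs_m3
import Cfsg.Agent.H398.RC.FieldSU
import Cfsg.Agent.H810.RC.Core_mg_m3
import Cfsg.Agent.H93.RC.BoxB3_m3
import Cfsg.Agent.H578.RC.Lin_m3
import Cfsg.Agent.LieClassical.SLGen
import Cfsg.Agent.H916.RG.Pair_m3
import Cfsg.Agent.H520.RC.MHom
import Cfsg.Agent.H578.RC.One_m3
import Cfsg.Agent.CpAutU.Fixed
import Cfsg.Agent.S0277
import Cfsg.Agent.ClassicalGeometry.HermOrtho
import Cfsg.Agent.S2334
import Mathlib
import Cfsg.Agent.H568.LinP
import Cfsg.Agent.H568.FieldFix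
import Cfsg.Agent.H568.RowTools_m3
import Cfsg.Agent.H377.RowSplit
import Cfsg.Agent.CpAut.OrthRow
import Cfsg.Agent.FastGrp
import Cfsg.Agent.Prune
set_option linter.all false

section
prune_inst 0x7ff1e8f8bbbc69dedfff7e7fa690cffc3b931fffa6ddf9433fe02bcf0bdf038009c12b8909e000fc1e43621410b87843f97eeeffe06bd87ffffd1ff41ffbee0fe5f7b508519488340fbc0ff603f0778e7f3fffffffffffffffffffffffffffaeffbffffffffd

-- part: H579/RC/CaseTwoFinal
section
prune_inst 0xe05070042140100000000004c2001c42820004002008800000010000048184004d004020ab1020194880000400300048110000800200000000000000011c01800000000480080000020080000000000000000000000000000000000000000000000000000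
set_option linter.all false
open scoped Cfsg.Agent.FastGrp

-- part: H579/RC/CaseTwo
section
/-!
# S3510, family E, box E10 (`CaseTwo`): case A (helper579)

`caseA` : a proper invariant nondegenerate subspace on which the element of order `p` is not the identity.
`caseTwo_of : DecStmt → GDecStmt → SmallStmt → TwoB → CaseTwo`.
-/

set_option autoImplicit false
set_option linter.unusedSectionVars false

namespace Cfsg.Agent.H579.RC

open Matrix Cfsg Cfsg.Agent.LieClassical.HermBasic Cfsg.Agent.LieClassical.HermSiegel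
  Cfsg.Agent.ClassicalGeometry.PSUAutBasic Cfsg.Agent.ClassicalGeometry.PSUAutCount
  Cfsg.Agent.ClassicalGeometry Cfsg.Agent.ClassicalGeometry.HermOrtho Cfsg.Agent.H380.RC Cfsg.Agent.H993.RC

theorem rank_one_aux {K W : Type*} [Field K] [AddCommGroup W] [Module K W] [FiniteDimensional K W]
    (h3 : Module.finrank K W = 3) (D : Module.End K W) (hDD : ∀ v, D (D v) = 0) :
    (∀ v w, D v ≠ 0 → ∃ c : K, D w = c • D v) ∧ ∀ e : W, ∃ w, D w = 0 ∧ ∀ c : K, w ≠ c • e := by
  have hrange : LinearMap.range D ≤ LinearMap.ker D := by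
    rintro _ ⟨v, rfl⟩
    exact LinearMap.mem_ker.2 (hDD v)
  have h1 := LinearMap.finrank_range_add_finrank_ker D
  have h2 := Submodule.finrank_mono hrange
  have hrk : Module.finrank K (LinearMap.range D) ≤ 1 := by omega
  have hker : 2 ≤ Module.finrank K (LinearMap.ker D) := by omega
  constructor
  · intro v w hv
    obtain ⟨g, hg⟩ := finrank_le_one_iff.1 hrk
    obtain ⟨a, ha⟩ := hg ⟨D v, ⟨v, rfl⟩⟩
    obtain ⟨b, hb⟩ := hg ⟨D w, ⟨w, rfl⟩⟩
    have ha' : a • (g : W) = D v := congrArg Subtype.val ha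
    have hb' : b • (g : W) = D w := congrArg Subtype.val hb
    have ha0 : a ≠ 0 := by
      rintro rfl
      rw [zero_smul] at ha'
      exact hv ha'.symm
    refine ⟨b * a⁻¹, ?_⟩
    rw [← ha', ← hb', smul_smul, mul_assoc, inv_mul_cancel₀ ha0, mul_one]
  · intro e
    by_contra hno
    push Not at hno
    have h4 : LinearMap.ker D ≤ Submodule.span K {e} := by
      intro w hw
      obtain ⟨c, hc⟩ := hno w (LinearMap.mem_ker.1 hw)
      rw [hc]
      exact Submodule.smul_mem _ _ (Submodule.mem_span_singleton_self e)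
    have h5 := Submodule.finrank_mono h4
    have h6 : Module.finrank K (Submodule.span K {e}) ≤ 1 := (finrank_span_le_card ({e} : Set W)).trans (by simp)
    omega

section

variable {G Ω : Type} [Group G] [Finite G] [Finite Ω] [Nonempty Ω] [MulAction G Ω] {N : Subgroup G} {F : Type} [Field F]
  [Fintype F] {n q : ℕ} {U : UEnv G Ω N F n q} {ι : Type} [Finite ι] {x : ι → G} {f : ι → (Fin n → F) → (Fin n → F)}
  {r : ι → ℕ} {i₀ : ι}

/-- the context of `CaseTwo` -/
structure CTwo (U : UEnv G Ω N F n q) (x : ι → G) (f : ι → (Fin n → F) → (Fin n → F)) (r : ι → ℕ) (i₀ : ι) : Prop where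
  hU : UFam U x f r
  cov : H106.RC.Cov Ω x
  h42 : ¬ (n = 4 ∧ q = 2)
  lin : ∀ i : ι, Lin (f i)
  h0 : ¬ (r i₀).Coprime q
  ih : H106.RC.IH (Nat.card (PSU n F q))

/-- `A` is proper, invariant, nondegenerate, and `f i₀` is not the identity on `A` -/
structure Bad (q : ℕ) (f : ι → (Fin n → F) → (Fin n → F)) (i₀ : ι) (A : Submodule F (Fin n → F)) : Prop where
  nd : NDeg q A
  st : ∀ i : ι, Stab (f i) A
  ne : ∃ v ∈ A, f i₀ v ≠ v

theorem Bad.two_le (h : CTwo U x f r i₀) {A : Submodule F (Fin n → F)} (hA : Bad q f i₀ A) :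
    2 ≤ Module.finrank F A := by
  by_contra hlt
  have h1 : Module.finrank F A ≤ 1 := by omega
  obtain ⟨g, hg⟩ := finrank_le_one_iff.1 h1
  obtain ⟨v, hv, hv1⟩ := hA.ne
  obtain ⟨c, hc⟩ := hg ⟨_, hA.st i₀ g.1 g.2⟩
  have h2 : f i₀ g.1 = c • g.1 := (congrArg Subtype.val hc).symm
  have h3 := fam_scal h.hU h.lin h.h0 h2
  obtain ⟨d, hd⟩ := hg ⟨v, hv⟩
  have h4 : v = d • g.1 := (congrArg Subtype.val hd).symm
  apply hv1
  rw [h4, h.lin i₀, h3]

/-- (A1) -/
theorem decA (hdec : DecStmt) (hsmall : SmallStmt) (h : CTwo U x f r i₀) {A : Submodule F (Fin n → F)}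
    (hA : Bad q f i₀ A) (hA1 : A ≠ ⊤) (h3 : 3 ≤ Module.finrank F A) (h32 : ¬ (Module.finrank F A = 3 ∧ q = 2)) :
    False := by
  refine hdec U x f r h.hU h.cov ⟨A, hA.nd, hA1, h3, h32, hA.st, ?_, ?_⟩
  · rintro i ⟨c, hc⟩
    by_contra hcop
    have hi : i = i₀ := by
      by_contra hi
      exact hcop (fam_coprime h.hU h.h0 hi)
    subst hi
    obtain ⟨v, hv, hv1⟩ := hA.ne
    exact hv1 (fam_scal h.hU h.lin h.h0 (hc v hv))
  · refine (hsmall U.hF U.hn U.h32 h.ih).1 _ h3 ?_ h32
    have h4 := Submodule.finrank_lt hA1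
    rwa [Module.finrank_fin_fun] at h4

theorem herm_cancel {a b : F} (h : a * b ^ q = 0) (hb : b ≠ 0) : a = 0 :=
  (mul_eq_zero.1 h).resolve_right (pow_ne_zero _ hb)

/-- (A2) -/
theorem decA2 (hdec : DecStmt) (hsmall : SmallStmt) (h : CTwo U x f r i₀) {A : Submodule F (Fin n → F)}
    (hA : Bad q f i₀ A) (h3 : Module.finrank F A = 3) (hq : q = 2) : False := by
  classical
  have hF := U.hF
  have hn := U.hn
  obtain ⟨hp, hchar, k0, hk0⟩ := fam_char h.hU h.h0
  have hr2 : r i₀ = 2 := by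
    have h1 : r i₀ ∣ 2 := by
      rw [hq] at hk0
      rw [hk0]
      apply dvd_pow_self
      rintro rfl
      norm_num at hk0
    exact (Nat.prime_dvd_prime_iff_eq hp Nat.prime_two).1 h1
  have hlft := h.hU.lft
  have hadd : ∀ i v w, f i (v + w) = f i v + f i w := fun i => Ind.map_add (hlft i)
  have hsm : ∀ i (c : F) v, f i (c • v) = c • f i v := h.lin
  have hherm : ∀ i v w, hermForm n F q (f i v) (f i w) = hermForm n F q v w := fun i => lin_herm (hlft i) (h.lin i)
  -- `D = u - 1`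
  let D : Module.End F (Fin n → F) := lmap (hlft i₀) (h.lin i₀) - 1
  have hD : ∀ v, D v = f i₀ v - v := fun v => rfl
  have hDD : ∀ v, D (D v) = 0 := by
    intro v
    have h1 := fam_nil h.hU h.lin h.h0
    rw [hr2, pow_two] at h1
    exact congrArg (fun g : Module.End F (Fin n → F) => g v) h1
  have hDA : ∀ v ∈ A, D v ∈ A := fun v hv => A.sub_mem (hA.st i₀ v hv) hv
  have hDc : ∀ i v, f i (D v) = D (f i v) := by
    intro i v
    rw [hD, hD, Ind.map_sub (hlft i), h.hU.comm]
  obtain ⟨v0, hv0, hv1⟩ := hA.ne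
  obtain ⟨e, he⟩ : ∃ e, e = D v0 := ⟨_, rfl⟩
  have heA : e ∈ A := by rw [he]; exact hDA _ hv0
  have he0 : e ≠ 0 := by rw [he, hD]; exact sub_ne_zero.2 hv1
  have hDe : D e = 0 := by rw [he, hDD]
  -- the range of `D` on `A` is a line
  obtain ⟨hr1, hr2'⟩ := rank_one_aux h3 (D.restrict hDA) (fun v => Subtype.ext ((hDD v :)))
  have hline : ∀ v ∈ A, ∃ c : F, D v = c • e := by
    intro v hv
    obtain ⟨c, hc⟩ := hr1 ⟨v0, hv0⟩ ⟨v, hv⟩ (fun h0 => he0 (he.trans (congrArg Subtype.val h0)))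
    exact ⟨c, by rw [he]; exact congrArg Subtype.val hc⟩
  -- orthogonality
  have hort : ∀ v w, D w = 0 → hermForm n F q (D v) w = 0 := by
    intro v w hw
    rw [hD] at hw
    rw [hD, herm_sub_left]
    nth_rewrite 1 [← sub_eq_zero.1 hw]
    rw [hherm, sub_self]
  -- the plane `K`
  have hK2 : ∃ w0 ∈ A, D w0 = 0 ∧ ∀ c : F, w0 ≠ c • e := by
    obtain ⟨w, hw, hw1⟩ := hr2' ⟨e, heA⟩
    exact ⟨w.1, w.2, congrArg Subtype.val hw, fun c hc => hw1 c (Subtype.ext hc)⟩
  -- coordinates in `K`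
  obtain ⟨w0, hw0A, hw0D, hw0⟩ := hK2
  have hspan : ∀ v ∈ A, D v = 0 → ∃ a b : F, v = a • w0 + b • e := by
    intro v hv hDv
    -- `A = ⟨v0, w0, e⟩`
    have hli : LinearIndependent F ![v0, w0, e] := by
      rw [Fintype.linearIndependent_iff]
      intro g hg
      rw [Fin.sum_univ_three] at hg
      simp only [Matrix.cons_val_zero, Matrix.cons_val_one, Matrix.cons_val_two, Matrix.head_cons, Matrix.tail_cons]
        at hg
      change g 0 • v0 + g 1 • w0 + g 2 • e = 0 at hg
      have h1 := congrArg D hg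
      rw [map_add, map_add, map_smul, map_smul, map_smul, hw0D, hDe, ← he, smul_zero, smul_zero, add_zero, add_zero,
        map_zero] at h1
      have g0 := (smul_eq_zero.1 h1).resolve_right he0
      rw [g0, zero_smul, zero_add] at hg
      have g1 : g 1 = 0 := by
        by_contra hne
        apply hw0 (-((g 1)⁻¹ * g 2))
        rw [← sub_eq_zero]
        have h2 : w0 - -((g 1)⁻¹ * g 2) • e = (g 1)⁻¹ • (g 1 • w0 + g 2 • e) := by
          rw [smul_add, smul_smul, smul_smul, inv_mul_cancel₀ hne, one_smul, neg_smul, sub_neg_eq_add]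
        rw [h2, hg, smul_zero]
      rw [g1, zero_smul, zero_add] at hg
      have g2 := (smul_eq_zero.1 hg).resolve_right he0
      intro i
      fin_cases i
      · exact g0
      · exact g1
      · exact g2
    have hsp : Submodule.span F (Set.range ![v0, w0, e]) = A := by
      apply Submodule.eq_of_le_of_finrank_eq
      · rw [Submodule.span_le]
        rintro _ ⟨i, rfl⟩
        fin_cases i
        · exact hv0
        · exact hw0A
        · exact heA
      · rw [finrank_span_eq_card hli, h3]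
        rfl
    rw [← hsp, Submodule.mem_span_range_iff_exists_fun] at hv
    obtain ⟨g, hg⟩ := hv
    rw [Fin.sum_univ_three] at hg
    change g 0 • v0 + g 1 • w0 + g 2 • e = v at hg
    rw [← hg, map_add, map_add, map_smul, map_smul, map_smul, hw0D, hDe, ← he, smul_zero, smul_zero, add_zero,
      add_zero] at hDv
    rw [(smul_eq_zero.1 hDv).resolve_right he0, zero_smul, zero_add] at hg
    exact ⟨g 1, g 2, hg.symm⟩
  -- the members on `e`
  have hfe : ∀ i, ∃ a : F, f i e = a • e := by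
    intro i
    obtain ⟨a, ha⟩ := hline (f i v0) (hA.st i v0 hv0)
    exact ⟨a, by rw [he, hDc, ha, he]⟩
  -- a common eigenvector
  obtain ⟨w, hwA, hwD, hwe, hwf⟩ : ∃ w ∈ A, D w = 0 ∧ (∀ c : F, w ≠ c • e) ∧ ∀ i, ∃ b : F, f i w = b • w := by
    by_cases hall : ∀ i, ∃ b : F, f i w0 = b • w0
    · exact ⟨w0, hw0A, hw0D, hw0, hall⟩
    push Not at hall
    obtain ⟨j, hj⟩ := hall
    obtain ⟨b, d, hbd⟩ := hspan (f j w0) (hA.st j w0 hw0A) (by rw [← hDc, hw0D, Ind.map_zero (hlft j)])
    obtain ⟨a, ha⟩ := hfe j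
    have hj0 : j ≠ i₀ := by
      rintro rfl
      apply hj 1
      rw [hD] at hw0D
      rw [one_smul, sub_eq_zero.1 hw0D]
    have hab : a ≠ b := by
      rintro rfl
      obtain ⟨k, hk⟩ := h.hU.ord j
      have h2 : ∀ m : ℕ, (f j)^[m] w0 = a ^ m • w0 + (m * a ^ (m - 1) * d) • e := by
        intro m
        induction m with
        | zero => simp
        | succ m ih =>
          rw [Function.iterate_succ_apply', ih, hadd, hsm, hsm, hbd, ha, smul_add, smul_smul,
            smul_smul, smul_smul, add_assoc, ← add_smul, pow_succ]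
          congr 2
          rcases m with _ | m
          · simp
          · rw [Nat.add_sub_cancel, Nat.add_sub_cancel, pow_succ, Nat.cast_add (m + 1) 1, Nat.cast_one]
            ring
      have h3 := h2 (r j ^ k)
      rw [hk] at h3
      have h4 : a ^ r j ^ k = 1 := by
        by_contra hne
        apply hw0 ((1 - a ^ r j ^ k)⁻¹ * (((r j ^ k : ℕ) : F) * a ^ (r j ^ k - 1) * d))
        have h5 : (1 - a ^ r j ^ k) • w0 = (((r j ^ k : ℕ) : F) * a ^ (r j ^ k - 1) * d) • e := by
          rw [sub_smul, one_smul]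
          nth_rewrite 1 [h3]
          abel
        rw [mul_smul, ← h5, smul_smul, inv_mul_cancel₀ (sub_ne_zero.2 (Ne.symm hne)), one_smul]
      rw [h4, one_smul] at h3
      have h5 := (smul_eq_zero.1 (left_eq_add.1 h3)).resolve_right he0
      have ha0 : a ≠ 0 := by
        rintro rfl
        rw [zero_pow (pow_ne_zero _ (h.hU.pf.prime j).ne_zero)] at h4
        exact zero_ne_one h4
      rcases mul_eq_zero.1 h5 with h6 | h6
      · rcases mul_eq_zero.1 h6 with h7 | h7
        · exact coprime_natCast hF (h.hU.pf.prime j) (fam_coprime h.hU h.h0 hj0) h7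
        · exact pow_ne_zero _ ha0 h7
      · apply hj a
        rw [hbd, h6, zero_smul, add_zero]
    have hab' : b - a ≠ 0 := sub_ne_zero.2 (Ne.symm hab)
    obtain ⟨s, hs⟩ : ∃ s, s = (b - a)⁻¹ * d := ⟨_, rfl⟩
    have hs' : d + s * a = b * s := by
      have h1 : (b - a) * s = d := by rw [hs, mul_inv_cancel_left₀ hab']
      linear_combination -h1
    refine ⟨w0 + s • e, A.add_mem hw0A (A.smul_mem _ heA), by rw [map_add, map_smul, hw0D, hDe, smul_zero, add_zero],
      ?_, ?_⟩
    · intro c hc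
      apply hw0 (c - s)
      rw [sub_smul, ← hc]
      abel
    · intro i
      have hfj : f j (w0 + s • e) = b • (w0 + s • e) := by
        rw [hadd, hsm, hbd, ha, smul_add, smul_smul, smul_smul, ← hs', add_smul, add_assoc]
      obtain ⟨β, γ, hβ⟩ := hspan (f i (w0 + s • e)) (hA.st i _ (A.add_mem hw0A (A.smul_mem _ heA)))
        (by rw [← hDc, map_add, map_smul, hw0D, hDe, smul_zero, add_zero, Ind.map_zero (hlft i)])
      have hβ' : f i (w0 + s • e) = β • (w0 + s • e) + (γ - β * s) • e := by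
        rw [hβ, smul_add, smul_smul, sub_smul]
        abel
      have hcm := h.hU.comm j i (w0 + s • e)
      generalize w0 + s • e = z at hfj hβ' hcm ⊢
      rw [hfj, hsm, hβ', hadd, hsm, hsm, hfj, ha] at hcm
      have h1 : ((γ - β * s) * (a - b)) • e = 0 := by
        have h5 : ((γ - β * s) * (a - b)) • e =
            (β • (b • z) + (γ - β * s) • (a • e)) - b • (β • z + (γ - β * s) • e) := by module
        rw [h5, hcm, sub_self]
      have h2 := (smul_eq_zero.1 h1).resolve_right he0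
      have h4 := (mul_eq_zero.1 h2).resolve_right (sub_ne_zero.2 hab)
      exact ⟨β, by rw [hβ', h4, zero_smul, add_zero]⟩
  -- `w` is not singular
  have hee : hermForm n F q e e = 0 := by
    nth_rewrite 1 [he]
    exact hort v0 e hDe
  have hew : hermForm n F q e w = 0 := by
    nth_rewrite 1 [he]
    exact hort v0 w hwD
  have hev : hermForm n F q e v0 ≠ 0 := by
    intro h1
    apply he0
    apply hA.nd e heA
    intro v hv
    -- `v = a v0 + (v - a v0)` with `D (v - a v0) = 0`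
    obtain ⟨c, hc⟩ := hline v hv
    have h2 : D (v - c • v0) = 0 := by rw [map_sub, map_smul, hc, he, sub_self]
    have h4 := hort v0 (v - c • v0) h2
    rw [← he, herm_sub_right hF, herm_smul_right, h1, mul_zero, sub_zero] at h4
    exact h4
  have hww : hermForm n F q w w ≠ 0 := by
    intro h1
    obtain ⟨s, hs⟩ : ∃ s, s = hermForm n F q w v0 * (hermForm n F q e v0)⁻¹ := ⟨_, rfl⟩
    apply hwe s
    rw [← sub_eq_zero]
    apply hA.nd _ (A.sub_mem hwA (A.smul_mem _ heA))
    intro v hv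
    obtain ⟨c, hc⟩ := hline v hv
    have h2 : D (v - c • v0) = 0 := by rw [map_sub, map_smul, hc, he, sub_self]
    obtain ⟨a, b, hab⟩ := hspan _ (A.sub_mem hv (A.smul_mem _ hv0)) h2
    obtain ⟨a', b', hab'⟩ := hspan w hwA hwD
    have ha' : a' ≠ 0 := by
      rintro rfl
      apply hwe b'
      rw [hab', zero_smul, zero_add]
    have hz0 : hermForm n F q (w - s • e) v0 = 0 := by
      rw [herm_sub_left, herm_smul_left, hs, mul_assoc, inv_mul_cancel₀ hev, mul_one, sub_self]
    have hze : hermForm n F q (w - s • e) e = 0 := by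
      rw [herm_sub_left, herm_smul_left, hee, mul_zero, sub_zero]
      exact herm_eq_zero_swap hF hew
    have hzw : hermForm n F q (w - s • e) w = 0 := by
      rw [herm_sub_left, herm_smul_left, hew, mul_zero, sub_zero, h1]
    have hzw0 : hermForm n F q (w - s • e) w0 = 0 := by
      have h4 : w0 = a'⁻¹ • w - (a'⁻¹ * b') • e := by
        rw [hab', smul_add, smul_smul, smul_smul, inv_mul_cancel₀ ha', one_smul]
        abel
      rw [h4, herm_sub_right hF, herm_smul_right, herm_smul_right, hzw, hze, mul_zero, mul_zero, sub_zero]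
    have h5 : v = c • v0 + (a • w0 + b • e) := by rw [← hab]; abel
    rw [h5, herm_add_right hF, herm_add_right hF, herm_smul_right, herm_smul_right, herm_smul_right, hz0, hzw0, hze]
    simp
  -- the complement of `w`
  have hspw : NDeg q (Submodule.span F {w}) := by
    intro v hv hv'
    obtain ⟨c, rfl⟩ := Submodule.mem_span_singleton.1 hv
    have h1 := hv' w (Submodule.mem_span_singleton_self w)
    rw [herm_smul_left] at h1
    rw [(mul_eq_zero.1 h1).resolve_right hww, zero_smul]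
  have hmem : ∀ v, v ∈ hermPerp q ((Submodule.span F {w} : Submodule F (Fin n → F)) : Set (Fin n → F)) ↔
      hermForm n F q v w = 0 := by
    intro v
    rw [mem_hermPerp]
    constructor
    · intro h1
      exact h1 w (Submodule.mem_span_singleton_self w)
    · intro h1 z hz
      obtain ⟨c, rfl⟩ := Submodule.mem_span_singleton.1 hz
      rw [herm_smul_right, h1, mul_zero]
  have hwne : w ≠ 0 := by
    rintro rfl
    exact hwe 0 (by rw [zero_smul])
  have hfin : Module.finrank F (hermPerp q ((Submodule.span F {w} : Submodule F (Fin n → F)) : Set (Fin n → F)) :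
      Submodule F (Fin n → F)) = n - 1 := by
    have h1 := finrank_hermPerp_of_nondeg hF _ hspw
    rw [finrank_span_singleton hwne] at h1
    omega
  have hn5 : 5 ≤ n := by
    have h1 := U.h32
    have h2 := h.h42
    omega
  have hDw : f i₀ w = w := by
    rw [hD] at hwD
    exact sub_eq_zero.1 hwD
  refine decA hdec hsmall h (A := hermPerp q ((Submodule.span F {w} : Submodule F (Fin n → F)) : Set (Fin n → F)))
    ⟨hermPerp_nondeg hF _ hspw, ?_, ?_⟩ ?_ (by omega) (by omega)
  · intro i v hv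
    rw [hmem] at hv ⊢
    obtain ⟨b, hb⟩ := hwf i
    have hb0 : b ≠ 0 := by
      rintro rfl
      rw [zero_smul, ← Ind.map_zero (hlft i)] at hb
      exact hwne (Ind.injective (hlft i) hb)
    have h1 := hherm i v w
    rw [hb, herm_smul_right, hv, mul_comm] at h1
    exact herm_cancel h1 hb0
  · refine ⟨v0 - (hermForm n F q v0 w * (hermForm n F q w w)⁻¹) • w, ?_, ?_⟩
    · rw [hmem, herm_sub_left, herm_smul_left, mul_assoc, inv_mul_cancel₀ hww, mul_one, sub_self]
    · intro h1
      apply hv1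
      rw [Ind.map_sub (hlft i₀), hsm, hDw, sub_left_inj] at h1
      exact h1
  · intro h1
    have h2 : w ∈ hermPerp q ((Submodule.span F {w} : Submodule F (Fin n → F)) : Set (Fin n → F)) := by
      rw [h1]; trivial
    rw [hmem] at h2
    exact hww h2

/-- (A3) -/
theorem decA3 (hgdec : GDecStmt) (h : CTwo U x f r i₀) {A : Submodule F (Fin n → F)}
    (hA : Bad q f i₀ A) (h2 : Module.finrank F A = 2) (hq : 4 ≤ q) : False := by
  have hn := U.hn
  have hA1 : A ≠ ⊤ := by
    rintro rfl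
    rw [finrank_top, Module.finrank_fin_fun] at h2
    omega
  obtain ⟨v0, hv0, hv1⟩ := hA.ne
  obtain ⟨e, heA, he0, hTe, hTv, hee, -, -, hS⟩ := fam_two h.hU h.lin h.h0 h2 hA.st hv0 hv1
  refine hgdec U x f ⟨h.hU.pf.ne, h.hU.lft, h.hU.comm⟩ h.cov A (f i₀) hA.nd hA1 (by omega) (by omega) (by omega)
    (fun i => ⟨h.lin i, hA.st i⟩) ?_ (Ind.map_add (h.hU.lft i₀)) (h.lin i₀) (hA.st i₀)
    (fun v _ w _ => lin_herm (h.hU.lft i₀) (h.lin i₀) v w) ?_ (Or.inr (Or.inr ⟨r i₀, 1, h.hU.pf.prime i₀, 1, ?_⟩))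
  · rintro i ⟨c, hc⟩
    by_cases hi : i = i₀
    · subst hi
      exact absurd (fam_scal h.hU h.lin h.h0 (hc v0 hv0)) hv1
    · exact ⟨r i, h.hU.pf.prime i, fam_coprime h.hU h.h0 hi, h.hU.pf.pow i⟩
  · intro i
    by_cases hi : i = i₀
    · subst hi
      exact ⟨1, 1, fun v _ => by rw [one_smul, Function.iterate_one]⟩
    · obtain ⟨c, hc⟩ := hS i hi
      exact ⟨0, c, fun v hv => by rw [hc v hv]; rfl⟩
  · intro v _
    rw [pow_one, fam_pow h.hU h.lin h.h0, one_smul]

/-- the structure of a bad plane: singular vectors `e`, `v`, `f i₀ e = e`, `f i₀ v = v + e` -/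
theorem plane (h : CTwo U x f r i₀) {A : Submodule F (Fin n → F)}
    (hA : Bad q f i₀ A) (h2 : Module.finrank F A = 2) :
    ∃ e ∈ A, ∃ v ∈ A, e ≠ 0 ∧ hermForm n F q e e = 0 ∧ hermForm n F q v v = 0 ∧ hermForm n F q v e ≠ 0 ∧
      hermForm n F q v e + hermForm n F q v e ^ q = 0 ∧ f i₀ e = e ∧ f i₀ v = v + e ∧
      (∀ w ∈ A, ∃ a b : F, w = a • v + b • e) ∧ ∀ j, j ≠ i₀ → ScalOn (f j) A := by
  have hF := U.hF
  obtain ⟨v0, hv0, hv1⟩ := hA.ne
  obtain ⟨e, heA, he0, hTe, hTv, hee, -, hsp, hS⟩ := fam_two h.hU h.lin h.h0 h2 hA.st hv0 hv1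
  have hγ : hermForm n F q v0 e ≠ 0 := by
    intro h1
    apply he0
    apply hA.nd e heA
    intro w hw
    obtain ⟨a, b, rfl⟩ := hsp w hw
    rw [herm_add_right hF, herm_smul_right, herm_smul_right, herm_eq_zero_swap hF h1, hee]
    simp
  have htr : hermForm n F q v0 e + hermForm n F q v0 e ^ q = 0 := by
    have h1 := lin_herm (h.hU.lft i₀) (h.lin i₀) v0 v0
    rw [hTv, herm_add_left, herm_add_right hF, herm_add_right hF, hee, add_zero, add_assoc, add_eq_left,
      herm_swap hF v0 e] at h1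
    exact h1
  -- make `v` singular
  obtain ⟨s, hs⟩ := exists_sub_pow hF (μ := hermForm n F q v0 v0 * (hermForm n F q v0 e)⁻¹) (by
    have h1 : hermForm n F q v0 e ^ q = - hermForm n F q v0 e := by linear_combination htr
    rw [mul_pow, inv_pow, h1, herm_self_pow hF, inv_neg]
    ring)
  have hg' : hermForm n F q e v0 = - hermForm n F q v0 e := by
    rw [herm_swap hF v0 e]
    linear_combination htr
  have hs' : (s - s ^ q) * hermForm n F q v0 e = hermForm n F q v0 v0 := by
    rw [hs, mul_assoc, inv_mul_cancel₀ hγ, mul_one]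
  refine ⟨e, heA, v0 + s • e, A.add_mem hv0 (A.smul_mem _ heA), he0, hee, ?_, ?_, ?_, hTe, ?_, ?_, hS⟩
  · rw [herm_add_left, herm_add_right hF, herm_add_right hF, herm_smul_left, herm_smul_left, herm_smul_right,
      herm_smul_right, hee, hg']
    linear_combination -hs'
  · rw [herm_add_left, herm_smul_left, hee, mul_zero, add_zero]
    exact hγ
  · rw [herm_add_left, herm_smul_left, hee, mul_zero, add_zero]
    exact htr
  · rw [Ind.map_add (h.hU.lft i₀), h.lin i₀, hTe, hTv]
    abel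
  · intro w hw
    obtain ⟨a, b, rfl⟩ := hsp w hw
    refine ⟨a, b - a * s, ?_⟩
    rw [smul_add, smul_smul, sub_smul]
    abel

/-- (A4a) `f i₀` is a transvection -/
theorem caseRoot (h : CTwo U x f r i₀) {A : Submodule F (Fin n → F)}
    (hA : Bad q f i₀ A) (h2 : Module.finrank F A = 2)
    (hB : ∀ w ∈ hermPerp q (A : Set (Fin n → F)), f i₀ w = w) : False := by
  have hF := U.hF
  obtain ⟨e, heA, v, hvA, he0, hee, hvv, hve, htr, hTe, hTv, hsp, hS⟩ := plane h hA h2
  have hμ : (hermForm n F q v e)⁻¹ + (hermForm n F q v e)⁻¹ ^ q = 0 := by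
    have h1 : hermForm n F q v e ^ q = - hermForm n F q v e := by linear_combination htr
    rw [inv_pow, h1, inv_neg]
    ring
  have hact : ∀ w, f i₀ w = act (transv hF e hee _ hμ) w := by
    intro w
    obtain ⟨a, ha, b, hb, rfl⟩ := exists_add_perp hF A hA.nd w
    obtain ⟨c, d, rfl⟩ := hsp a ha
    rw [act_transv, Ind.map_add (h.hU.lft i₀), Ind.map_add (h.hU.lft i₀), h.lin i₀, h.lin i₀, hTe, hTv, hB b hb,
      herm_add_left, herm_add_left, herm_smul_left, herm_smul_left, hee, mem_hermPerp.1 hb e heA, mul_zero, add_zero,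
      add_zero, mul_comm c, inv_mul_cancel_left₀ hve, smul_add]
    abel
  have hx : x i₀ = U.el (transv hF e hee _ hμ) := by
    have h1 := h.hU.lft i₀
    rw [show f i₀ = act (transv hF e hee _ hμ) from funext hact] at h1
    exact h1.inj (U.lft_el _)
  refine U.root (ι := {j // j ≠ i₀}) (x := fun j => x j) (f := fun j => f j) (r := fun j => r j)
    (fun j => h.hU.pf.prime _) (fun j => fam_coprime h.hU h.h0 j.2) (fun j => h.hU.pf.pow _) (fun j => h.hU.pf.ne _)
    (fun i j => h.hU.pf.comm _ _) (fun j => h.hU.lft _) he0 hee ?_ hμ (inv_ne_zero hve) ?_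
  · intro j
    obtain ⟨c, hc⟩ := hS j j.2
    exact ⟨c, hc e heA⟩
  · intro ω
    obtain ⟨j, hj⟩ := h.cov ω
    by_cases hji : j = i₀
    · left
      rw [← hx, ← hji]
      exact hj
    · exact Or.inr ⟨⟨j, hji⟩, hj⟩

/-- transvections commute with linear isometries for which the centre is an eigenvector -/
theorem act_transv_comm {y : G} {g : (Fin n → F) → (Fin n → F)} (hg : U.Lft y g) (hl : Lin g) {e : Fin n → F}
    (hee : hermForm n F q e e = 0) (he0 : e ≠ 0) {a : F} (ha : g e = a • e) {μ : F} (hμ : μ + μ ^ q = 0)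
    (hnorm : a * a ^ q = 1) (v : Fin n → F) :
    g (act (transv U.hF e hee μ hμ) v) = act (transv U.hF e hee μ hμ) (g v) := by
  rw [act_transv, act_transv, Ind.map_add hg, hl, ha, smul_smul]
  congr 2
  have h1 := lin_herm hg hl v e
  rw [ha, herm_smul_right] at h1
  calc μ * hermForm n F q v e * a = μ * (a ^ q * hermForm n F q (g v) e) * a := by rw [h1]
    _ = μ * hermForm n F q (g v) e * (a * a ^ q) := by ring
    _ = _ := by rw [hnorm, mul_one]

/-- (A4b) `n = 4`, `q = 3` -/
theorem case43 (h : CTwo U x f r i₀) (hq : q = 3) {A : Submodule F (Fin n → F)}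
    (hA : Bad q f i₀ A) (h2 : Module.finrank F A = 2)
    (hB : Bad q f i₀ (hermPerp q (A : Set (Fin n → F))))
    (h2' : Module.finrank F (hermPerp q (A : Set (Fin n → F)) : Submodule F (Fin n → F)) = 2) : False := by
  classical
  have hF := U.hF
  have hlft := h.hU.lft
  obtain ⟨e, heA, v, hvA, he0, hee, hvv, hve, htr, hTe, hTv, hsp, hS⟩ := plane h hA h2
  obtain ⟨e2, heB, v2, hvB, he20, -, -, hve2, -, -, -, hsp2, hS2⟩ := plane h hB h2'
  have hchar : CharP F 3 := by
    obtain ⟨hp, hchar, k0, hk0⟩ := fam_char h.hU h.h0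
    have h1 : r i₀ ∣ 3 := by
      rw [hq] at hk0
      rw [hk0]
      apply dvd_pow_self
      rintro rfl
      norm_num at hk0
    rwa [(Nat.prime_dvd_prime_iff_eq hp Nat.prime_three).1 h1] at hchar
  have h3F : (3 : F) = 0 := by
    have := CharP.cast_eq_zero F 3
    exact_mod_cast this
  obtain ⟨γ, hγ⟩ : ∃ γ, γ = hermForm n F q v e := ⟨_, rfl⟩
  rw [← hγ] at hve htr
  have hev : hermForm n F q e v = -γ := by
    rw [herm_swap hF v e, ← hγ]
    linear_combination htr
  have hμ : γ⁻¹ + γ⁻¹ ^ q = 0 := by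
    have h1 : γ ^ q = - γ := by linear_combination htr
    rw [inv_pow, h1, inv_neg]
    ring
  -- the element `C = X Y X`
  let X : SU n F q := transv hF e hee _ hμ
  let Y : SU n F q := transv hF v hvv _ hμ
  have hXe : act X e = e := by rw [act_transv, hee, mul_zero, zero_smul, add_zero]
  have hXv : act X v = v + e := by rw [act_transv, ← hγ, inv_mul_cancel₀ hve, one_smul]
  have hYv : act Y v = v := by rw [act_transv, hvv, mul_zero, zero_smul, add_zero]
  have hYe : act Y e = e - v := by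
    rw [act_transv, hev, mul_neg, inv_mul_cancel₀ hve, neg_smul, one_smul, sub_eq_add_neg]
  let C : SU n F q := X * Y * X
  have hC : ∀ w, act C w = act X (act Y (act X w)) := fun w => by rw [act_mul, act_mul]
  have hCe : act C e = -v := by
    rw [hC, hXe, hYe, act_sub, hXe, hXv]
    abel
  have hCv : act C v = e := by
    rw [hC, hXv, act_add, hYv, hYe, show v + (e - v) = e by abel, hXe]
  have hCB : ∀ w ∈ hermPerp q (A : Set (Fin n → F)), act C w = w := by
    intro w hw
    have hX : act X w = w := by rw [act_transv, mem_hermPerp.1 hw e heA, mul_zero, zero_smul, add_zero]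
    have hY : act Y w = w := by rw [act_transv, mem_hermPerp.1 hw v hvA, mul_zero, zero_smul, add_zero]
    rw [hC, hX, hY, hX]
  have hC'e : act C⁻¹ e = v := by rw [← hCv, act_inv_act]
  have hC'v : act C⁻¹ v = -e := by
    have h1 : v = act C (-e) := by rw [act_neg, hCe, neg_neg]
    nth_rewrite 1 [h1]
    rw [act_inv_act]
  have hC'B : ∀ w ∈ hermPerp q (A : Set (Fin n → F)), act C⁻¹ w = w := by
    intro w hw
    nth_rewrite 1 [← hCB w hw]
    rw [act_inv_act]
  -- the others
  have hnorm : ∀ (j : ι) (a : F) (w w' : Fin n → F), f j w = a • w → f j w' = a • w' → hermForm n F q w w' ≠ 0 →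
      a * a ^ q = 1 := by
    intro j a w w' h1 h1' hne
    have h3 := lin_herm (hlft j) (h.lin j) w w'
    rw [h1, h1', herm_smul_left, herm_smul_right, ← mul_assoc] at h3
    exact mul_right_cancel₀ hne (h3.trans (one_mul _).symm)
  have hdec : ∀ w : Fin n → F, ∃ a b : F, ∃ w' ∈ hermPerp q (A : Set (Fin n → F)), w = (a • v + b • e) + w' := by
    intro w
    obtain ⟨a, ha, b, hb, rfl⟩ := exists_add_perp hF A hA.nd w
    obtain ⟨c, d, rfl⟩ := hsp a ha
    exact ⟨c, d, b, hb, rfl⟩
  have hoth : ∀ j, j ≠ i₀ → ∃ a : F, a * a ^ q = 1 ∧ f j e = a • e ∧ f j v = a • v ∧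
      (∀ w ∈ hermPerp q (A : Set (Fin n → F)), f j w = (-a) • w) ∧ r j = 2 := by
    intro j hj
    obtain ⟨a, ha⟩ := hS j hj
    obtain ⟨b, hb⟩ := hS2 j hj
    have hab : a ≠ b := by
      rintro rfl
      apply h.hU.pf.ne j
      refine (hlft j).eq_one_iff.2 ⟨a, fun w => ?_⟩
      obtain ⟨c, d, w', hw', rfl⟩ := hdec w
      rw [Ind.map_add (hlft j), ha _ (A.add_mem (A.smul_mem _ hvA) (A.smul_mem _ heA)), hb w' hw', ← smul_add]
    have hna := hnorm j a v e (ha v hvA) (ha e heA) (hγ ▸ hve)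
    have hnb := hnorm j b v2 e2 (hb v2 hvB) (hb e2 heB) hve2
    have ha4 : a ^ 4 = 1 := by
      rw [hq] at hna
      linear_combination hna
    have hb4 : b ^ 4 = 1 := by
      rw [hq] at hnb
      linear_combination hnb
    -- the order
    have hr2 : r j = 2 := by
      by_contra hr
      obtain ⟨k, hk⟩ := h.hU.ord j
      have h5 : (r j ^ k).Coprime 4 := by
        apply Nat.Coprime.pow_left
        rw [show 4 = 2 ^ 2 by norm_num]
        apply Nat.Coprime.pow_right
        exact (Nat.coprime_primes (h.hU.pf.prime j) Nat.prime_two).2 hr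
      have hone : ∀ (c : F) (w : Fin n → F), w ≠ 0 → f j w = c • w → c ^ 4 = 1 → c = 1 := by
        intro c w hw0 hw hc4
        have h6 := iter_eig (h.lin j) hw (r j ^ k)
        rw [hk] at h6
        have h7 : (c ^ r j ^ k - 1) • w = 0 := by rw [sub_smul, ← h6, one_smul, sub_self]
        have h8 := sub_eq_zero.1 ((smul_eq_zero.1 h7).resolve_right hw0)
        have h9 := Nat.dvd_gcd (orderOf_dvd_of_pow_eq_one h8) (orderOf_dvd_of_pow_eq_one hc4)
        rw [h5] at h9
        exact orderOf_eq_one_iff.1 (Nat.dvd_one.1 h9)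
      exact hab ((hone a e he0 (ha e heA) ha4).trans (hone b e2 he20 (hb e2 heB) hb4).symm)
    have hab2 : a ^ 2 = b ^ 2 := by
      obtain ⟨c, hc⟩ := ((hlft j).pow (r j)).eq_one_iff.1 (h.hU.pf.pow j)
      rw [hr2] at hc
      have h6 : a ^ 2 = c := by
        have h7 := hc e
        rw [iter_eig (h.lin j) (ha e heA)] at h7
        have h8 : (a ^ 2 - c) • e = 0 := by rw [sub_smul, h7, sub_self]
        exact sub_eq_zero.1 ((smul_eq_zero.1 h8).resolve_right he0)
      have h6' : b ^ 2 = c := by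
        have h7 := hc e2
        rw [iter_eig (h.lin j) (hb e2 heB)] at h7
        have h8 : (b ^ 2 - c) • e2 = 0 := by rw [sub_smul, h7, sub_self]
        exact sub_eq_zero.1 ((smul_eq_zero.1 h8).resolve_right he20)
      rw [h6, h6']
    have hba : b = -a := by
      have h6 : (a - b) * (a + b) = 0 := by linear_combination hab2
      have h7 := (mul_eq_zero.1 h6).resolve_left (sub_ne_zero.2 hab)
      linear_combination h7
    refine ⟨a, hna, ha e heA, ha v hvA, ?_, hr2⟩
    intro w hw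
    rw [hb w hw, hba]
  -- the move
  have hcomm : ∀ j, j ≠ i₀ → U.el C * x j = x j * U.el C := by
    intro j hj
    obtain ⟨a, hna, hae, hav, -, -⟩ := hoth j hj
    have hXc : x j * U.el X * (x j)⁻¹ = U.el X :=
      (hlft j).conj_el (act_transv_comm (hlft j) (h.lin j) hee he0 hae hμ hna)
    have hv0 : v ≠ 0 := by
      rintro rfl
      apply hve
      rw [hγ, herm_zero_left]
    have hYc : x j * U.el Y * (x j)⁻¹ = U.el Y :=
      (hlft j).conj_el (act_transv_comm (hlft j) (h.lin j) hvv hv0 hav hμ hna)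
    have hXc' : Commute (U.el X) (x j) := (mul_inv_eq_iff_eq_mul.1 hXc).symm
    have hYc' : Commute (U.el Y) (x j) := (mul_inv_eq_iff_eq_mul.1 hYc).symm
    have h6 : U.el C = U.el X * U.el Y * U.el X := by rw [← map_mul, ← map_mul]
    rw [h6]
    exact ((hXc'.mul_left hYc').mul_left hXc').eq
  have hcov2 := h.cov.mv_comm i₀ hcomm
  obtain ⟨j, hj⟩ := H106.RC.Cov.two U.env h.cov h.hU.pf.ne i₀
  obtain ⟨a, hna, hae, hav, haB, hrj⟩ := hoth j hj
  obtain ⟨y, hy⟩ : ∃ y, y = U.el C * x i₀ * (U.el C)⁻¹ * (x i₀)⁻¹ := ⟨_, rfl⟩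
  rw [← hy] at hcov2
  -- `y ^ 2 = x j`
  obtain ⟨g0, hg0, hg01, hg02⟩ := (hlft i₀).inv
  have hg : U.Lft y (fun w => act C (f i₀ (act C⁻¹ (g0 w)))) := by
    have h6 := (((U.lft_el C).mul (hlft i₀)).mul (U.lft_el C⁻¹)).mul hg0
    rw [map_inv, ← hy] at h6
    exact h6
  obtain ⟨g, hgd⟩ : ∃ g : (Fin n → F) → (Fin n → F), g = fun w => act C (f i₀ (act C⁻¹ (g0 w))) := ⟨_, rfl⟩
  rw [← hgd] at hg
  have hgw : ∀ w, g w = act C (f i₀ (act C⁻¹ (g0 w))) := fun w => by rw [hgd]
  have hge : g e = e - v := by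
    have h6 : g0 e = e := by
      nth_rewrite 1 [← hTe]
      rw [hg02]
    rw [hgw, h6, hC'e, hTv, act_add, hCv, hCe]
    abel
  have hgv : g v = -v - e := by
    have h6 : g0 v = v - e := by
      have h7 : f i₀ (v - e) = v := by rw [Ind.map_sub (hlft i₀), hTv, hTe]; abel
      nth_rewrite 1 [← h7]
      rw [hg02]
    rw [hgw, h6, act_sub, hC'v, hC'e, Ind.map_sub (hlft i₀), Ind.map_neg (hlft i₀), hTe, hTv, act_sub, act_neg,
      act_add, hCe, hCv]
    have h7 : (3 : F) • v = 0 := by rw [h3F, zero_smul]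
    have h8 : - -v - (e + -v) = -v - e + (3 : F) • v := by module
    rw [h8, h7, add_zero]
  have hgB : ∀ w ∈ hermPerp q (A : Set (Fin n → F)), g w = w := by
    intro w hw
    have h6 : g0 w ∈ hermPerp q (A : Set (Fin n → F)) := by
      intro z hz
      have h7 := lin_herm (hlft i₀) (h.lin i₀) (g0 w) z
      rw [hg01] at h7
      rw [← h7]
      exact mem_hermPerp.1 hw _ (hA.st i₀ z hz)
    rw [hgw, hC'B _ h6, hg01, hCB w hw]
  have hglin : ∀ (c : F) (w : Fin n → F), g (c • w) = c • g w := by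
    intro c w
    have h6 : g0 (c • w) = c • g0 w := by
      apply Ind.injective (hlft i₀)
      rw [hg01, h.lin i₀, hg01]
    rw [hgw, hgw, h6, act_smul, h.lin i₀, act_smul]
  have hgadd := Ind.map_add hg
  have hgg : ∀ w, g (g w) = (-a⁻¹) • f j w := by
    intro w
    have ha0 : a ≠ 0 := by
      rintro rfl
      rw [zero_mul] at hna
      exact zero_ne_one hna
    obtain ⟨c, d, w', hw', rfl⟩ := hdec w
    have hstep : ∀ c d : F, g ((c • v + d • e) + w') = ((-c - d) • v + (d - c) • e) + w' := by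
      intro c d
      rw [hgadd, hgadd, hglin, hglin, hge, hgv, hgB w' hw']
      module
    rw [hstep, hstep, Ind.map_add (hlft j), Ind.map_add (hlft j), h.lin j, h.lin j, hae, hav, haB w' hw']
    have h8 : (-a⁻¹) • (c • a • v + d • a • e + -a • w') = -(c • v) - d • e + w' := by
      match_scalars <;> field_simp
    rw [h8]
    have h9 : ∀ z : Fin n → F, (3 : F) • z = 0 := fun z => by rw [h3F, zero_smul]
    have h11 : (-(-c - d) - (d - c)) • v + (d - c - (-c - d)) • e + w' =
        -(c • v) - d • e + w' + ((3 : F) • (c • v) + (3 : F) • (d • e)) := by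
      module
    rw [h11, h9, h9, add_zero, add_zero]
  have hy2 : y * y = x j := by
    have h6 := hg.mul hg
    have h7 := (hlft j).scalar (c := -a⁻¹) (by
      have h8 : Odd q := by rw [hq]; decide
      rw [h8.neg_pow, inv_pow, neg_mul_neg, ← mul_inv, hna, inv_one])
    rw [show (fun w => g (g w)) = fun w => (-a⁻¹) • f j w from funext hgg] at h6
    exact h6.inj h7
  -- so `x j` fixes everything
  apply h.hU.pf.ne j
  apply U.env.single
  intro ω
  obtain ⟨k, hk⟩ := hcov2 ω
  by_cases hki : k = i₀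
  · rw [hki, Function.update_self] at hk
    rw [← hy2, mul_smul, hk, hk]
  · rw [Function.update_of_ne hki] at hk
    obtain ⟨-, -, -, -, -, hrk⟩ := hoth k hki
    rwa [h.hU.pf.inj (hrk.trans hrj.symm)] at hk

/-- **Case A** of `CaseTwo` -/
theorem caseA (hdec : DecStmt) (hgdec : GDecStmt) (hsmall : SmallStmt) (h : CTwo U x f r i₀)
    {A : Submodule F (Fin n → F)} (hA : Bad q f i₀ A) (hA1 : A ≠ ⊤) : False := by
  have hF := U.hF
  have h2 := hA.two_le h
  have hq2 := LieClassical.HermBasic.two_le hF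
  by_cases h3 : 3 ≤ Module.finrank F A
  · by_cases h32 : Module.finrank F A = 3 ∧ q = 2
    · exact decA2 hdec hsmall h hA h32.1 h32.2
    · exact decA hdec hsmall h hA hA1 h3 h32
  have hA2 : Module.finrank F A = 2 := by omega
  by_cases hq4 : 4 ≤ q
  · exact decA3 hgdec h hA hA2 hq4
  by_cases hB : ∀ w ∈ hermPerp q (A : Set (Fin n → F)), f i₀ w = w
  · exact caseRoot h hA hA2 hB
  push Not at hB
  have hBb : Bad q f i₀ (hermPerp q (A : Set (Fin n → F))) := by
    refine ⟨hermPerp_nondeg hF _ hA.nd, ?_, hB⟩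
    intro i w hw z hz
    -- `f i` is onto `A`
    have hsurj : ∃ z' ∈ A, f i z' = z := by
      have hinj : Function.Injective (fun z : A => (⟨(f i z :), hA.st i z z.2⟩ : A)) := by
        intro z z' hzz
        exact Subtype.ext (Ind.injective (h.hU.lft i) (congrArg Subtype.val hzz))
      obtain ⟨z', hz'⟩ := (Finite.injective_iff_surjective.1 hinj) ⟨z, hz⟩
      exact ⟨z', z'.2, congrArg Subtype.val hz'⟩
    obtain ⟨z', hz', rfl⟩ := hsurj
    rw [lin_herm (h.hU.lft i) (h.lin i)]
    exact hw z' hz'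
  have hdim := finrank_hermPerp_of_nondeg hF A hA.nd
  have hB2 := hBb.two_le h
  by_cases hB3 : 3 ≤ Module.finrank F (hermPerp q (A : Set (Fin n → F)) : Submodule F (Fin n → F))
  · by_cases h32 : Module.finrank F (hermPerp q (A : Set (Fin n → F)) : Submodule F (Fin n → F)) = 3 ∧ q = 2
    · exact decA2 hdec hsmall h hBb h32.1 h32.2
    · refine decA hdec hsmall h hBb ?_ hB3 h32
      intro h1
      rw [h1, finrank_top, Module.finrank_fin_fun] at hdim
      omega
  · have hn4 : n = 4 := by omega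
    have h42 := h.h42
    have hq3 : q = 3 := by
      have h5 : q ≠ 2 := fun h6 => h42 ⟨hn4, h6⟩
      omega
    exact case43 h hq3 hA hA2 hBb (by omega)

end

/-- **E10** -/
theorem caseTwo_of (hdec : DecStmt) (hgdec : GDecStmt) (hsmall : SmallStmt) (hB : TwoB) : CaseTwo := by
  intro G Ω _ _ _ _ _ N F _ _ n q U ι _ x f r hU hcov hyp
  obtain ⟨h42, hl, ⟨i₀, h0⟩, hIH⟩ := hyp
  by_cases hA : ∃ A : Submodule F (Fin n → F), NDeg q A ∧ A ≠ ⊤ ∧ (∀ i : ι, Stab (f i) A) ∧ ∃ v ∈ A, f i₀ v ≠ v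
  · obtain ⟨A, h1, h2, h3, h4⟩ := hA
    exact caseA hdec hgdec hsmall ⟨hU, hcov, h42, hl, h0, hIH⟩ ⟨h1, h3, h4⟩ h2
  · refine hB U x f r hU hcov ⟨h42, hl, hIH, i₀, h0, ?_⟩
    intro A h1 h2 h3 v hv
    by_contra h4
    exact hA ⟨A, h1, h2, h3, v, hv, h4⟩

end Cfsg.Agent.H579.RC
end

-- part: H993/RC/TwoAlg
section
/-!
# S3510, box E10, case B: the algebra generated by commuting isometries of order prime to `p` (helper993)

* `adj_comm`, `adj_comm'`, `adj_pow`, `adj_adj`;
* `dich` : if `0`, `1` are the only selfadjoint idempotents then the algebra is a field, or it contains an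
  idempotent `e` with adjoint `1 - e`.
-/

set_option autoImplicit false

namespace Cfsg.Agent.H993.RC

open Matrix Cfsg Cfsg.Agent.LieClassical.HermBasic Cfsg.Agent.LieClassical.HermSiegel
  Cfsg.Agent.ClassicalGeometry.PSUAutBasic Cfsg.Agent.ClassicalGeometry.PSUAutCount Cfsg.Agent.H380.RC

section alg

variable {F : Type*} [Field F] {V : Type*} [AddCommGroup V] [Module F V] {s : Set (Module.End F V)}

theorem adj_comm {g : Module.End F V} (hg : ∀ a ∈ s, g * a = a * g) {a : Module.End F V}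
    (ha : a ∈ Algebra.adjoin F s) : g * a = a * g := by
  have h1 : Algebra.adjoin F s ≤ Subalgebra.centralizer F {g} := by
    apply Algebra.adjoin_le
    intro b hb
    rw [SetLike.mem_coe, Subalgebra.mem_centralizer_iff]
    rintro _ rfl
    exact hg b hb
  exact (Subalgebra.mem_centralizer_iff F).1 (h1 ha) g rfl

theorem adj_comm' (hs : ∀ a ∈ s, ∀ b ∈ s, a * b = b * a) {a b : Module.End F V}
    (ha : a ∈ Algebra.adjoin F s) (hb : b ∈ Algebra.adjoin F s) : a * b = b * a :=
  adj_comm (fun c hc => (adj_comm (fun d hd => (hs d hd c hc).symm) ha).symm) hb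

theorem adj_pow [Fintype F] [Nontrivial V] (hs : ∀ a ∈ s, ∀ b ∈ s, a * b = b * a) {t : ℕ}
    (hgen : ∀ a ∈ s, a ^ (Fintype.card F ^ t) = a) {a : Module.End F V} (ha : a ∈ Algebra.adjoin F s) :
    a ^ (Fintype.card F ^ t) = a := by
  obtain ⟨p, hp⟩ := CharP.exists F
  obtain ⟨k, hprime, hcard⟩ := FiniteField.card F p
  have := Fact.mk hprime
  have : CharP (Module.End F V) p :=
    charP_of_injective_algebraMap (algebraMap F (Module.End F V)).injective p
  have hN : Fintype.card F ^ t = p ^ ((k : ℕ) * t) := by rw [hcard, ← pow_mul]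
  induction ha using Algebra.adjoin_induction with
  | mem x hx => exact hgen x hx
  | algebraMap c => rw [← map_pow, FiniteField.pow_card_pow]
  | add x y hx hy ihx ihy =>
    have hc : Commute x y := adj_comm' hs hx hy
    rw [hN] at ihx ihy ⊢
    rw [add_pow_char_pow_of_commute p _ hc, ihx, ihy]
  | mul x y hx hy ihx ihy =>
    have hc : Commute x y := adj_comm' hs hx hy
    rw [hc.mul_pow, ihx, ihy]

/-- the exponent -/
theorem exists_exp [Fintype F] {M : ℕ} (hM : (Fintype.card F).Coprime M) :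
    ∃ t, 0 < t ∧ ∀ a : Module.End F V, a ^ M = 1 → a ^ (Fintype.card F ^ t) = a := by
  have hM0 : 0 < M := by
    rcases Nat.eq_zero_or_pos M with h | h
    · rw [h, Nat.coprime_zero_right] at hM
      have := Fintype.one_lt_card (α := F)
      omega
    · exact h
  refine ⟨M.totient, Nat.totient_pos.2 hM0, fun a ha => ?_⟩
  have h1 := Nat.ModEq.pow_totient hM
  rw [← Nat.mod_add_div (Fintype.card F ^ M.totient) M, pow_add, pow_mul, ha, one_pow, mul_one, h1]
  have h2 : a ^ 1 = a ^ (1 % M) := by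
    conv_lhs => rw [← Nat.mod_add_div 1 M]
    rw [pow_add, pow_mul, ha, one_pow, mul_one]
  rw [← h2, pow_one]

end alg

section herm

variable {F : Type*} [Field F] [Fintype F] {n q : ℕ} {s : Set (Module.End F (Fin n → F))}

/-- adjoints -/
theorem adj_adj (hF : Fintype.card F = q ^ 2)
    (hadj : ∀ a ∈ s, ∃ b ∈ Algebra.adjoin F s, ∀ v w, hermForm n F q (a v) w = hermForm n F q v (b w))
    {a : Module.End F (Fin n → F)} (ha : a ∈ Algebra.adjoin F s) :
    ∃ b ∈ Algebra.adjoin F s, ∀ v w, hermForm n F q (a v) w = hermForm n F q v (b w) := by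
  induction ha using Algebra.adjoin_induction with
  | mem x hx => exact hadj x hx
  | algebraMap c =>
    refine ⟨algebraMap F _ (c ^ q), Subalgebra.algebraMap_mem _ _, fun v w => ?_⟩
    rw [Module.algebraMap_end_apply, Module.algebraMap_end_apply, herm_smul_left, herm_smul_right, pow_q_pow_q hF]
  | add x y hx hy ihx ihy =>
    obtain ⟨b, hb, h1⟩ := ihx
    obtain ⟨c, hc, h2⟩ := ihy
    refine ⟨b + c, Subalgebra.add_mem _ hb hc, fun v w => ?_⟩
    rw [LinearMap.add_apply, LinearMap.add_apply, herm_add_left, herm_add_right hF, h1, h2]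
  | mul x y hx hy ihx ihy =>
    obtain ⟨b, hb, h1⟩ := ihx
    obtain ⟨c, hc, h2⟩ := ihy
    refine ⟨c * b, Subalgebra.mul_mem _ hc hb, fun v w => ?_⟩
    rw [Module.End.mul_apply, Module.End.mul_apply, h1, h2]

/-- uniqueness of adjoints -/
theorem herm_ext (hF : Fintype.card F = q ^ 2) {a b : Module.End F (Fin n → F)}
    (h : ∀ v w, hermForm n F q v (a w) = hermForm n F q v (b w)) : a = b := by
  refine LinearMap.ext fun w => ?_
  rw [← sub_eq_zero]
  apply herm_nondeg hF (q := q)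
  intro v
  apply herm_eq_zero_swap hF
  rw [herm_sub_right hF, h, sub_self]

/-- **Dichotomy** -/
theorem dich (hF : Fintype.card F = q ^ 2) (hs : ∀ a ∈ s, ∀ b ∈ s, a * b = b * a)
    (hadj : ∀ a ∈ s, ∃ b ∈ Algebra.adjoin F s, ∀ v w, hermForm n F q (a v) w = hermForm n F q v (b w))
    {M : ℕ} (hM : 2 ≤ M) (hpow : ∀ a ∈ Algebra.adjoin F s, a ^ M = a)
    (hid : ∀ e ∈ Algebra.adjoin F s, e * e = e → (∀ v w, hermForm n F q (e v) w = hermForm n F q v (e w)) →
      e = 0 ∨ e = 1) :
    (∃ e ∈ Algebra.adjoin F s, e * e = e ∧ ∀ v w, hermForm n F q (e v) w = hermForm n F q v ((1 - e) w)) ∨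
      ∀ a ∈ Algebra.adjoin F s, a ≠ 0 → ∃ b ∈ Algebra.adjoin F s, a * b = 1 := by
  by_cases hc : ∃ e ∈ Algebra.adjoin F s, e * e = e ∧ e ≠ 0 ∧ e ≠ 1
  · left
    obtain ⟨e, he, hee, he0, he1⟩ := hc
    obtain ⟨e', he', hadj'⟩ := adj_adj hF hadj he
    have hcm : e * e' = e' * e := adj_comm' hs he he'
    have hadj'' : ∀ v w, hermForm n F q (e' v) w = hermForm n F q v (e w) := by
      intro v w
      rw [herm_swap hF w, ← hadj', ← herm_swap hF]
    have hee' : e' * e' = e' := by
      apply herm_ext hF (q := q)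
      intro v w
      rw [Module.End.mul_apply, ← hadj', ← hadj', ← hadj', ← Module.End.mul_apply, hee]
    have h1 : e * e' = 0 := by
      rcases hid (e * e') (Subalgebra.mul_mem _ he he') (by
        rw [mul_assoc, ← mul_assoc e' e, ← hcm, mul_assoc e, hee', ← mul_assoc, hee]) (fun v w => by
          rw [Module.End.mul_apply, hadj', hadj'', ← Module.End.mul_apply]) with h | h
      · exact h
      · exfalso
        apply he1
        calc e = e * (e * e') := by rw [h, mul_one]
          _ = e * e' := by rw [← mul_assoc, hee]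
          _ = 1 := h
    have h1' : e' * e = 0 := by rw [← hcm, h1]
    have h2 : e + e' = 1 := by
      rcases hid (e + e') (Subalgebra.add_mem _ he he') (by
        rw [mul_add, add_mul, add_mul, hee, hee', h1, h1', add_zero, zero_add]) (fun v w => by
          rw [LinearMap.add_apply, LinearMap.add_apply, herm_add_left, herm_add_right hF, hadj', hadj'', add_comm]) with h | h
      · exfalso
        apply he0
        have h3 : e * (e + e') = 0 := by rw [h, mul_zero]
        rwa [mul_add, hee, h1, add_zero] at h3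
      · exact h
    refine ⟨e, he, hee, fun v w => ?_⟩
    rw [← h2, add_sub_cancel_left]
    exact hadj' v w
  · right
    push Not at hc
    intro a ha ha0
    obtain ⟨m, rfl⟩ : ∃ m, M = m + 2 := ⟨M - 2, by omega⟩
    have hap := hpow a ha
    have h1 : a ^ (m + 1) * a ^ (m + 1) = a ^ (m + 1) := by
      rw [← pow_add, show m + 1 + (m + 1) = m + 2 + m by ring, pow_add, hap, ← pow_succ']
    have h2 : a ^ (m + 1) ≠ 0 := by
      intro h
      apply ha0
      rw [← hap, show m + 2 = m + 1 + 1 by ring, pow_succ, h, zero_mul]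
    have h3 := hc _ (Subalgebra.pow_mem _ ha _) h1 h2
    exact ⟨a ^ m, Subalgebra.pow_mem _ ha _, by rw [← pow_succ', h3]⟩

end herm

end Cfsg.Agent.H993.RC
end

-- part: H993/RC/TwoD
section
/-!
# S3510, box E10, case B: two totally singular halves (helper993)
-/

set_option autoImplicit false

namespace Cfsg.Agent.H993.RC

open Matrix Cfsg Cfsg.Agent.LieClassical.HermBasic Cfsg.Agent.LieClassical.HermSiegel
  Cfsg.Agent.ClassicalGeometry.PSUAutBasic Cfsg.Agent.ClassicalGeometry.PSUAutCount Cfsg.Agent.H380.RC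

section ts

variable {F : Type*} [Field F] [Fintype F] {n q : ℕ}

theorem finrank_le_of_ts (hF : Fintype.card F = q ^ 2) {W W' : Submodule F (Fin n → F)} (hts' : TS q W')
    (hc : IsCompl W W') : Module.finrank F W' ≤ Module.finrank F W := by
  classical
  let φ : W' → Module.Dual F W := fun w' =>
    { toFun := fun w => (hermForm n F q (w : Fin n → F) (w' : Fin n → F) :)
      map_add' := fun a b => herm_add_left _ _ _
      map_smul' := fun c a => herm_smul_left _ _ _ }
  have hφ : Function.Injective φ := by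
    intro a b hab
    apply Subtype.ext
    rw [← sub_eq_zero]
    apply herm_nondeg hF (q := q)
    intro v
    apply herm_eq_zero_swap hF
    have hv : v ∈ W ⊔ W' := by rw [hc.sup_eq_top]; trivial
    obtain ⟨w, hw, w', hw', rfl⟩ := Submodule.mem_sup.1 hv
    have h1 : hermForm n F q w (a : Fin n → F) = hermForm n F q w (b : Fin n → F) :=
      LinearMap.congr_fun hab ⟨w, hw⟩
    rw [herm_add_left, herm_sub_right hF, h1, sub_self, zero_add]
    exact hts' _ hw' _ (W'.sub_mem a.2 b.2)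
  have : Finite (Module.Dual F W) := Module.finite_of_finite F
  have h1 := Nat.card_le_card_of_injective φ hφ
  rw [Module.natCard_eq_pow_finrank (K := F) (V := W'), Module.natCard_eq_pow_finrank (K := F) (V := Module.Dual F W),
    Subspace.dual_finrank_eq] at h1
  exact (Nat.pow_le_pow_iff_right Finite.one_lt_card).1 h1

theorem finrank_of_ts (hF : Fintype.card F = q ^ 2) {W W' : Submodule F (Fin n → F)} (hts : TS q W) (hts' : TS q W')
    (hc : IsCompl W W') : n = 2 * Module.finrank F W := by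
  have h1 := finrank_le_of_ts hF hts' hc
  have h2 := finrank_le_of_ts hF hts hc.symm
  have h3 := Submodule.finrank_add_eq_of_isCompl hc
  rw [Module.finrank_fin_fun] at h3
  omega

end ts

/-- **The case of two totally singular halves** -/
theorem case_D (hD : DStmt) (hsm : SmallStmt) :
    NoC fun {_ _ _ _ _ F _ _ n q} _ {ι} _ f r => (∀ i : ι, Lin (f i)) ∧
      H106.RC.IH (Nat.card (PSU n F q)) ∧
      ∃ i₀ : ι, ¬ (r i₀).Coprime q ∧ ∃ W W' : Submodule F (Fin n → F), TS q W ∧ TS q W' ∧ IsCompl W W' ∧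
        ∀ i : ι, Stab (f i) W ∧ Stab (f i) W' := by
  intro G Ω _ _ _ _ _ N F _ _ n q U ι _ x f r hU hcov ⟨hl, hIH, i₀, h0, W, W', hW, hW', hc, hst⟩
  have hF := U.hF
  have hn := finrank_of_ts hF hW hW' hc
  refine hD U x f r hU hcov ⟨W, W', hW, hW', hc, hst, ?_⟩
  by_cases hd : Module.finrank F W = 2
  · right
    -- `f i₀` is not the identity on `W`
    have hT : ∃ v ∈ W, f i₀ v ≠ v := by
      by_contra hcon
      push Not at hcon
      have hcon' : ∀ v ∈ W', f i₀ v = v := by
        intro v hv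
        rw [← sub_eq_zero]
        apply herm_nondeg hF (q := q)
        intro z
        apply herm_eq_zero_swap hF
        have hz : z ∈ W ⊔ W' := by rw [hc.sup_eq_top]; trivial
        obtain ⟨w, hw, w', hw', rfl⟩ := Submodule.mem_sup.1 hz
        rw [herm_add_left, herm_sub_right hF, hW' _ hw' _ (W'.sub_mem ((hst i₀).2 v hv) hv), add_zero, sub_eq_zero]
        have h1 := lin_herm (hU.lft i₀) (hl i₀) w v
        rwa [hcon w hw] at h1
      apply hU.pf.ne i₀
      rw [(hU.lft i₀).eq_one_iff]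
      refine ⟨1, fun v => ?_⟩
      have hv : v ∈ W ⊔ W' := by rw [hc.sup_eq_top]; trivial
      obtain ⟨w, hw, w', hw', rfl⟩ := Submodule.mem_sup.1 hv
      rw [Ind.map_add (hU.lft i₀), hcon w hw, hcon' w' hw', one_smul]
    obtain ⟨v, hv, hv1⟩ := hT
    obtain ⟨e, -, -, -, -, -, -, -, hS⟩ := fam_two hU hl h0 hd (fun i => (hst i).1) hv hv1
    intro i j hi hj
    have h1 : i = i₀ := by
      by_contra h
      exact hi (hS i h)
    have h2 : j = i₀ := by
      by_contra h
      exact hj (hS j h)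
    rw [h1, h2]
  · left
    exact (hsm U.hF U.hn U.h32 hIH).2.2.2.1 _ hn (fun h => hd h.1)

end Cfsg.Agent.H993.RC
end

-- part: H993/RC/TwoK
section
/-!
# S3510, box E10, case B: the subgroup `SU_2(q^l)` of `SU_{2l}(q)` (helper993)
-/

set_option autoImplicit false
set_option linter.unusedSectionVars false

namespace Cfsg.Agent.H993.RC

open Matrix Module Cfsg Cfsg.Agent.LieClassical.HermBasic Cfsg.Agent.LieClassical.HermSiegel
  Cfsg.Agent.ClassicalGeometry.PSUAutBasic Cfsg.Agent.ClassicalGeometry.PSUAutCount Cfsg.Agent.H380.RC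
  Cfsg.Agent.H398.RC

section fld

variable {F : Type} [Field F] [Fintype F] {n q : ℕ} {K : Type} [Field K] [Fintype K] [Algebra F K]
  [Module K (Fin n → F)] [IsScalarTower F K (Fin n → F)] {l : ℕ}

/-- the structure of `V` over `K`, `dim_K V = 2` -/
structure K2 (q l : ℕ) (ψ : (Fin 2 → K) ≃ₗ[K] (Fin n → F)) : Prop where
  hF : Fintype.card F = q ^ 2
  hK : Fintype.card K = (q ^ l) ^ 2
  hQ : 4 ≤ q ^ l
  tr : ∀ a b : Fin 2 → K, hermForm n F q (ψ a) (ψ b) = Algebra.trace F K (hermForm 2 K (q ^ l) a b)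

variable {ψ : (Fin 2 → K) ≃ₗ[K] (Fin n → F)} (h : K2 q l ψ)
include h

theorem K2.det (s : SU 2 K (q ^ l)) : LinearMap.det (toEnd l q ψ s) = 1 := by
  let D : SU 2 K (q ^ l) →* Fˣ := MonoidHom.toHomUnits (LinearMap.det.comp (toEnd l q ψ))
  have h1 : s ∈ commutator (SU 2 K (q ^ l)) := by
    rw [Cfsg.Agent.H452.RC.comm_two h.hK h.hQ]
    trivial
  have h2 : s ∈ D.ker := Abelianization.commutator_subset_ker D h1
  have h3 := congrArg Units.val (MonoidHom.mem_ker.1 h2)
  exact h3

theorem K2.herm (s : SU 2 K (q ^ l)) (v w : Fin n → F) :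
    hermForm n F q (ψ (act s (ψ.symm v))) (ψ (act s (ψ.symm w))) = hermForm n F q v w := by
  rw [h.tr, herm_act, ← h.tr, LinearEquiv.apply_symm_apply, LinearEquiv.apply_symm_apply]

/-- the embedding `SU_2(K) → SU_n(F)` -/
noncomputable def K2.phi : SU 2 K (q ^ l) →* SU n F q where
  toFun s := mkSU (LinearMap.toMatrix' (toEnd l q ψ s)) (by rw [LinearMap.det_toMatrix', h.det]) (by
    intro v w
    rw [LinearMap.toMatrix'_mulVec, LinearMap.toMatrix'_mulVec, toEnd_apply, toEnd_apply, h.herm])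
  map_one' := by
    apply ext_act
    intro v
    change LinearMap.toMatrix' (toEnd l q ψ 1) *ᵥ v = _
    rw [LinearMap.toMatrix'_mulVec, map_one, act_one]
    rfl
  map_mul' s t := by
    apply ext_act
    intro v
    rw [act_mul]
    change LinearMap.toMatrix' (toEnd l q ψ (s * t)) *ᵥ v =
      LinearMap.toMatrix' (toEnd l q ψ s) *ᵥ (LinearMap.toMatrix' (toEnd l q ψ t) *ᵥ v)
    rw [LinearMap.toMatrix'_mulVec, LinearMap.toMatrix'_mulVec, LinearMap.toMatrix'_mulVec, map_mul]
    rfl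

theorem K2.act_phi (s : SU 2 K (q ^ l)) (v : Fin n → F) : act (h.phi s) v = ψ (act s (ψ.symm v)) := by
  change LinearMap.toMatrix' (toEnd l q ψ s) *ᵥ v = _
  rw [LinearMap.toMatrix'_mulVec, toEnd_apply]

theorem K2.act_phi' (s : SU 2 K (q ^ l)) (a : Fin 2 → K) : act (h.phi s) (ψ a) = ψ (act s a) := by
  rw [h.act_phi, LinearEquiv.symm_apply_apply]

theorem K2.act_phi_smul (s : SU 2 K (q ^ l)) (k : K) (v : Fin n → F) : act (h.phi s) (k • v) = k • act (h.phi s) v := by
  rw [h.act_phi, h.act_phi, map_smul, act_smul, map_smul]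

/-- a `K`-linear isometry for `h` is an isometry for the form over `K` -/
theorem K2.form {f : (Fin n → F) → (Fin n → F)}
    (hK : ∀ (a : K) (v : Fin n → F), f (a • v) = a • f v)
    (hiso : ∀ v w, hermForm n F q (f v) (f w) = hermForm n F q v w) (a b : Fin 2 → K) :
    hermForm 2 K (q ^ l) (ψ.symm (f (ψ a))) (ψ.symm (f (ψ b))) = hermForm 2 K (q ^ l) a b := by
  apply trace_unique (F := F)
  intro c
  have e3 : ∀ x y : Fin 2 → K, Algebra.trace F K (hermForm 2 K (q ^ l) x y * c) = hermForm n F q (c • ψ x) (ψ y) := by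
    intro x y
    rw [mul_comm, ← herm_smul_left, ← h.tr, map_smul]
  rw [e3, e3, LinearEquiv.apply_symm_apply, LinearEquiv.apply_symm_apply, ← hK, hiso]

/-- a `K`-linear isometry is in `GU_2(K)` -/
theorem K2.exists_gu {f f' : (Fin n → F) → (Fin n → F)} (hadd : ∀ v w, f (v + w) = f v + f w)
    (hK : ∀ (a : K) (v : Fin n → F), f (a • v) = a • f v)
    (hiso : ∀ v w, hermForm n F q (f v) (f w) = hermForm n F q v w)
    (h1 : ∀ v, f (f' v) = v) (h2 : ∀ v, f' (f v) = v) :
    ∃ A : Cfsg.GU 2 K (q ^ l), ∀ a : Fin 2 → K, ψ (gm A *ᵥ a) = f (ψ a) := by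
  let g : (Fin 2 → K) →ₗ[K] (Fin 2 → K) :=
    { toFun := fun a => ψ.symm (f (ψ a))
      map_add' := fun a b => by rw [map_add, hadd, map_add]
      map_smul' := fun c a => by rw [map_smul, hK, map_smul, RingHom.id_apply] }
  have hadd' : ∀ v w, f' (v + w) = f' v + f' w := by
    intro v w
    conv_lhs => rw [← h1 v, ← h1 w, ← hadd, h2]
  have hK' : ∀ (a : K) (v : Fin n → F), f' (a • v) = a • f' v := by
    intro a v
    conv_lhs => rw [← h1 v, ← hK, h2]
  let g' : (Fin 2 → K) →ₗ[K] (Fin 2 → K) :=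
    { toFun := fun a => ψ.symm (f' (ψ a))
      map_add' := fun a b => by rw [map_add, hadd', map_add]
      map_smul' := fun c a => by rw [map_smul, hK', map_smul, RingHom.id_apply] }
  have hg : ∀ a, g a = ψ.symm (f (ψ a)) := fun _ => rfl
  have hg' : ∀ a, g' a = ψ.symm (f' (ψ a)) := fun _ => rfl
  have e1 : g.comp g' = LinearMap.id := by
    apply LinearMap.ext
    intro a
    rw [LinearMap.comp_apply, hg, hg', LinearEquiv.apply_symm_apply, h1, LinearEquiv.symm_apply_apply]
    rfl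
  have e2 : g'.comp g = LinearMap.id := by
    apply LinearMap.ext
    intro a
    rw [LinearMap.comp_apply, hg, hg', LinearEquiv.apply_symm_apply, h2, LinearEquiv.symm_apply_apply]
    rfl
  let A0 : GL (Fin 2) K := ⟨LinearMap.toMatrix' g, LinearMap.toMatrix' g', by
    rw [← LinearMap.toMatrix'_comp, e1, LinearMap.toMatrix'_id], by
    rw [← LinearMap.toMatrix'_comp, e2, LinearMap.toMatrix'_id]⟩
  have hA0 : ∀ a, ((A0 : GL (Fin 2) K) : Matrix (Fin 2) (Fin 2) K) *ᵥ a = g a := fun a => by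
    change LinearMap.toMatrix' g *ᵥ a = _
    rw [LinearMap.toMatrix'_mulVec]
  refine ⟨⟨A0, ?_⟩, fun a => ?_⟩
  · rw [mem_GU_iff]
    intro u v
    rw [hA0, hA0, hg, hg, h.form hK hiso]
  · change ψ ((A0 : Matrix (Fin 2) (Fin 2) K) *ᵥ a) = _
    rw [hA0, hg, LinearEquiv.apply_symm_apply]

/-- the conjugates of the image of `SU_2(K)` -/
theorem K2.conj {f : (Fin n → F) → (Fin n → F)} {A : Cfsg.GU 2 K (q ^ l)}
    (hA : ∀ a : Fin 2 → K, ψ (gm A *ᵥ a) = f (ψ a)) (s : SU 2 K (q ^ l)) (v : Fin n → F) :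
    f (act (h.phi s) v) = act (h.phi (semiConj A (RingEquiv.refl K) s)) (f v) := by
  obtain ⟨a, rfl⟩ := ψ.surjective v
  rw [h.act_phi', ← hA, ← hA, h.act_phi']
  congr 1
  exact (act_semiConj A (RingEquiv.refl K) s a).symm

variable {G Ω : Type} [Group G] [MulAction G Ω] {N : Subgroup G} (U : UEnv G Ω N F n q)

theorem K2.ker {s : SU 2 K (q ^ l)} (hs : U.el (h.phi s) = 1) : ∃ c : F, ∀ a : Fin 2 → K, act s a = c • a := by
  rw [U.el_eq_one] at hs
  obtain ⟨c, -, -, hc⟩ := exists_scalar_of_mem_center h.hF U.hn hs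
  refine ⟨c, fun a => ?_⟩
  apply ψ.injective
  rw [← h.act_phi', hc, ← algebraMap_smul K c (ψ a), ← algebraMap_smul K c a, map_smul]

end fld

end Cfsg.Agent.H993.RC
end

-- part: H993/RC/TwoTor
section
/-!
# S3510, box E10, case B: hyperbolic pairs and split torus elements of `SU_2(K)` (helper993)
-/

set_option autoImplicit false

namespace Cfsg.Agent.H993.RC

open Matrix Module Cfsg Cfsg.Agent.LieClassical.HermBasic Cfsg.Agent.LieClassical.HermSiegel
  Cfsg.Agent.ClassicalGeometry.PSUAutBasic Cfsg.Agent.ClassicalGeometry.PSUAutCount Cfsg.Agent.H380.RC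

section tor

variable {K : Type*} [Field K] [Fintype K] {Q : ℕ}

/-- a hyperbolic pair of `K^2` -/
theorem exists_hyp (hK : Fintype.card K = Q ^ 2) : ∃ e e' : Fin 2 → K, hermForm 2 K Q e e = 0 ∧
    hermForm 2 K Q e' e' = 0 ∧ hermForm 2 K Q e e' = 1 := by
  obtain ⟨p, p', a, b, -, -, -, h1, h2, h3⟩ :=
    Cfsg.Agent.LieClassical.HermGen.exists_hyp_pair hK (i := (0 : Fin 2)) (j := 1) (by decide)
  exact ⟨p, p', h1, h2, h3⟩

variable {e e' : Fin 2 → K}

theorem hyp_swap (hK : Fintype.card K = Q ^ 2) (h3 : hermForm 2 K Q e e' = 1) : hermForm 2 K Q e' e = 1 := by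
  rw [herm_swap hK, h3, one_pow]

theorem hyp_indep (hK : Fintype.card K = Q ^ 2) (h1 : hermForm 2 K Q e e = 0) (h2 : hermForm 2 K Q e' e' = 0)
    (h3 : hermForm 2 K Q e e' = 1) {a b : K} (hab : a • e + b • e' = 0) : a = 0 ∧ b = 0 := by
  constructor
  · have h4 := congrArg (fun v => hermForm 2 K Q v e') hab
    simpa only [herm_add_left, herm_smul_left, h2, h3, mul_one, mul_zero, add_zero, herm_zero_left] using h4
  · have h4 := congrArg (fun v => hermForm 2 K Q v e) hab
    simpa only [herm_add_left, herm_smul_left, h1, hyp_swap hK h3, mul_one, mul_zero, zero_add, herm_zero_left] using h4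

/-- coordinates -/
theorem hyp_coord (hK : Fintype.card K = Q ^ 2) (h1 : hermForm 2 K Q e e = 0) (h2 : hermForm 2 K Q e' e' = 0)
    (h3 : hermForm 2 K Q e e' = 1) (v : Fin 2 → K) : ∃ a b : K, v = a • e + b • e' := by
  have hli : LinearIndependent K ![e, e'] := by
    rw [LinearIndependent.pair_iff]
    intro a b hab
    exact hyp_indep hK h1 h2 h3 hab
  have hspan := hli.span_eq_top_of_card_eq_finrank (by simp)
  have hv : v ∈ Submodule.span K (Set.range ![e, e']) := by rw [hspan]; trivial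
  rw [Matrix.range_cons, Matrix.range_cons, Matrix.range_empty, Set.union_empty, Set.singleton_union,
    Submodule.mem_span_pair] at hv
  obtain ⟨a, b, h⟩ := hv
  exact ⟨a, b, h.symm⟩

theorem inv_trace_zero (hK : Fintype.card K = Q ^ 2) {μ : K} (hμ : μ + μ ^ Q = 0) : -μ⁻¹ + (-μ⁻¹) ^ Q = 0 := by
  have h1 : μ ^ Q = -μ := (neg_eq_of_add_eq_zero_right hμ).symm
  rw [neg_pow_q hK, inv_pow, h1, inv_neg, neg_neg, neg_add_cancel]

/-- the Weyl element -/
theorem exists_weyl (hK : Fintype.card K = Q ^ 2) (h1 : hermForm 2 K Q e e = 0) (h2 : hermForm 2 K Q e' e' = 0)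
    (h3 : hermForm 2 K Q e e' = 1) {μ : K} (hμ : μ + μ ^ Q = 0) (hμ0 : μ ≠ 0) :
    ∃ w : SU 2 K Q, act w e = (-μ⁻¹) • e' ∧ act w e' = μ • e := by
  have a1 : act (transv hK e h1 μ hμ) e = e := by rw [act_transv, h1, mul_zero, zero_smul, add_zero]
  have a2 : act (transv hK e h1 μ hμ) e' = e' + μ • e := by rw [act_transv, hyp_swap hK h3, mul_one]
  have a3 : act (transv hK e' h2 (-μ⁻¹) (inv_trace_zero hK hμ)) e = e + (-μ⁻¹) • e' := by rw [act_transv, h3, mul_one]
  have a4 : act (transv hK e' h2 (-μ⁻¹) (inv_trace_zero hK hμ)) e' = e' := by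
    rw [act_transv, h2, mul_zero, zero_smul, add_zero]
  have h4 : -μ⁻¹ * μ = -1 := by rw [neg_mul, inv_mul_cancel₀ hμ0]
  have h5 : μ * -μ⁻¹ = -1 := by rw [mul_neg, mul_inv_cancel₀ hμ0]
  refine ⟨transv hK e h1 μ hμ * transv hK e' h2 (-μ⁻¹) (inv_trace_zero hK hμ) * transv hK e h1 μ hμ, ?_, ?_⟩
  · rw [act_mul, act_mul, a1, a3, act_add, act_smul, a1, a2, smul_add, smul_smul, h4]
    module
  · rw [act_mul, act_mul, a2, act_add, act_smul, a4, a3, smul_add, smul_smul, h5, act_add, act_add, act_smul,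
      act_smul, a1, a2]
    module

/-- the torus element -/
theorem exists_tor (hK : Fintype.card K = Q ^ 2) (h1 : hermForm 2 K Q e e = 0) (h2 : hermForm 2 K Q e' e' = 0)
    (h3 : hermForm 2 K Q e e' = 1) {b : K} (hb : b ^ Q = b) (hb0 : b ≠ 0) :
    ∃ y : SU 2 K Q, act y e = b • e ∧ act y e' = b⁻¹ • e' := by
  obtain ⟨τ, hτ0, hτ⟩ := exists_trace_zero_ne hK
  obtain ⟨w, hw1, hw2⟩ := exists_weyl hK h1 h2 h3 hτ hτ0
  obtain ⟨w', hw1', hw2'⟩ := exists_weyl hK h1 h2 h3 (μ := b * τ) (by rw [mul_pow, hb, ← mul_add, hτ, mul_zero])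
    (mul_ne_zero hb0 hτ0)
  have h4 : act w⁻¹ e = τ⁻¹ • e' := by
    symm
    rw [← act_eq_iff, act_smul, hw2, smul_smul, inv_mul_cancel₀ hτ0, one_smul]
  have h5 : act w⁻¹ e' = (-τ) • e := by
    symm
    rw [← act_eq_iff, act_smul, hw1, smul_smul, neg_mul_neg, mul_inv_cancel₀ hτ0, one_smul]
  refine ⟨w' * w⁻¹, ?_, ?_⟩
  · rw [act_mul, h4, act_smul, hw2', smul_smul, mul_comm b, ← mul_assoc, inv_mul_cancel₀ hτ0, one_mul]
  · rw [act_mul, h5, act_smul, hw1', smul_smul, neg_mul_neg, mul_inv, mul_comm τ, mul_assoc, inv_mul_cancel₀ hτ0,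
      mul_one]

end tor

end Cfsg.Agent.H993.RC
end

-- part: H993/RC/TwoM
section
/-!
# S3510, box E10, case B: `dim_K V = 2` (helper993)
-/

set_option autoImplicit false
set_option linter.unusedSectionVars false

namespace Cfsg.Agent.H993.RC

open Matrix Module Cfsg Cfsg.Agent.LieClassical.HermBasic Cfsg.Agent.LieClassical.HermSiegel
  Cfsg.Agent.ClassicalGeometry.PSUAutBasic Cfsg.Agent.ClassicalGeometry.PSUAutCount Cfsg.Agent.H380.RC
  Cfsg.Agent.H398.RC

/-- an odd prime divisor of `q ^ l - 1` -/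
theorem exists_odd_prime {q l : ℕ} (hq : 2 ≤ q) (hl : Odd l) (hl3 : 3 ≤ l) :
    ∃ s, s.Prime ∧ s ≠ 2 ∧ s ∣ q ^ l - 1 := by
  classical
  have h1 : (∑ i ∈ Finset.range l, q ^ i) * (q - 1) = q ^ l - 1 := by
    zify [Nat.one_le_pow l q (by omega), (by omega : 1 ≤ q)]
    exact geom_sum_mul (q : ℤ) l
  have h2 : Odd (∑ i ∈ Finset.range l, q ^ i) := by
    rw [Finset.odd_sum_iff_odd_card_odd]
    rcases Nat.even_or_odd q with h | h
    · have h3 : (Finset.range l).filter (fun i => Odd (q ^ i)) = {0} := by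
        ext i
        rw [Finset.mem_filter, Finset.mem_range, Finset.mem_singleton]
        constructor
        · rintro ⟨-, hi⟩
          by_contra h0
          exact (Nat.not_even_iff_odd.2 hi) (h.pow_of_ne_zero h0)
        · rintro rfl
          exact ⟨by omega, by simp⟩
      rw [h3]
      simp
    · have h3 : (Finset.range l).filter (fun i => Odd (q ^ i)) = Finset.range l := by
        ext i
        rw [Finset.mem_filter]
        exact ⟨fun h => h.1, fun hi => ⟨hi, h.pow⟩⟩
      rw [h3, Finset.card_range]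
      exact hl
  have h3 : (∑ i ∈ Finset.range l, q ^ i) ≠ 1 := by
    obtain ⟨m, rfl⟩ : ∃ m, l = m + 2 := ⟨l - 2, by omega⟩
    rw [Finset.sum_range_succ, Finset.sum_range_succ', pow_zero]
    have : 0 < q ^ (m + 1) := pow_pos (by omega) _
    omega
  refine ⟨(∑ i ∈ Finset.range l, q ^ i).minFac, Nat.minFac_prime h3, ?_, ?_⟩
  · intro h4
    rw [Nat.minFac_eq_two_iff] at h4
    exact (Nat.not_even_iff_odd.2 h2) (even_iff_two_dvd.2 h4)
  · exact (Nat.minFac_dvd _).trans ⟨_, h1.symm⟩

section fld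

variable {F : Type} [Field F] [Fintype F] {n q : ℕ} {K : Type} [Field K] [Fintype K] [Algebra F K]
  [Module K (Fin n → F)] [IsScalarTower F K (Fin n → F)] {l : ℕ}
  {ψ : (Fin 2 → K) ≃ₗ[K] (Fin n → F)} (h : K2 q l ψ)
  {G Ω : Type} [Group G] [Finite G] [Finite Ω] [Nonempty Ω] [MulAction G Ω] {N : Subgroup G} {U : UEnv G Ω N F n q}
  {ι : Type} [Finite ι] {x : ι → G} {f : ι → (Fin n → F) → (Fin n → F)} {r : ι → ℕ}

omit h [Finite G] [Finite Ω] [Nonempty Ω] [Finite ι] in
/-- `K`-eigenvalues of `f i₀` are trivial -/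
theorem K2.eig (hU : UFam U x f r) {i₀ : ι} (h0 : ¬ (r i₀).Coprime q)
    (hcomm : ∀ (i : ι) (a : K) (v : Fin n → F), f i (a • v) = a • f i v) {a : K} {v : Fin n → F} (hv : f i₀ v = a • v) :
    f i₀ v = v := by
  by_cases hv0 : v = 0
  · rw [hv0, Ind.map_zero (hU.lft i₀)]
  obtain ⟨hp, hchar, -⟩ := fam_char hU h0
  have := Fact.mk hp
  have : CharP K (r i₀) := charP_of_injective_algebraMap (algebraMap F K).injective (r i₀)
  obtain ⟨k, hk⟩ := hU.ord i₀
  have h1 : ∀ m : ℕ, (f i₀)^[m] v = a ^ m • v := by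
    intro m
    induction m with
    | zero => simp
    | succ m ih => rw [Function.iterate_succ_apply', ih, hcomm, hv, smul_smul, pow_succ]
  have h2 := h1 (r i₀ ^ k)
  rw [hk] at h2
  have h3 : (a ^ r i₀ ^ k - 1) • v = 0 := by rw [sub_smul, ← h2, one_smul, sub_self]
  have h4 := sub_eq_zero.1 ((smul_eq_zero.1 h3).resolve_right hv0)
  rw [hv, eq_one_of_pow_char (p := r i₀) h4, one_smul]

include h

omit [Finite G] [Finite Ω] [Nonempty Ω] [Finite ι] in
/-- an element commuting with the image of `SU_2(K)` fixes singular points -/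
theorem K2.fix_sing {y : G} {g : (Fin n → F) → (Fin n → F)} (hl : U.Lft y g) (hlin : Lin g)
    (hcomm : ∀ (a : K) (v : Fin n → F), g (a • v) = a • g v)
    (hy : ∀ s, y * U.el (h.phi s) = U.el (h.phi s) * y) {e e' : Fin 2 → K} (h1 : hermForm 2 K (q ^ l) e e = 0)
    (h2 : hermForm 2 K (q ^ l) e' e' = 0) (h3 : hermForm 2 K (q ^ l) e e' = 1) : ∃ a : K, g (ψ e) = a • ψ e := by
  have hK := h.hK
  have hform := h.form hcomm (lin_herm hl hlin)
  obtain ⟨μ, hμ0, hμ⟩ := exists_trace_zero_ne hK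
  have h1' : hermForm 2 K (q ^ l) (ψ.symm (g (ψ e))) (ψ.symm (g (ψ e))) = 0 := by rw [hform, h1]
  have h4 : y * U.el (h.phi (transv hK e h1 μ hμ)) * y⁻¹ = U.el (h.phi (transv hK _ h1' μ hμ)) := by
    apply hl.conj_el
    intro v
    obtain ⟨a, rfl⟩ := ψ.surjective v
    rw [h.act_phi', h.act_phi, act_transv, act_transv, hform, map_add, map_smul, map_add, map_smul,
      Ind.map_add hl, hcomm, LinearEquiv.apply_symm_apply, LinearEquiv.apply_symm_apply]
  rw [hy, mul_inv_cancel_right] at h4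
  obtain ⟨c, hc⟩ := h.ker U (s := (transv hK e h1 μ hμ)⁻¹ * transv hK _ h1' μ hμ) (by
    rw [map_mul, map_inv, map_mul, map_inv, ← h4, inv_mul_cancel])
  have h5 := hc e
  rw [act_mul] at h5
  have h6 := congrArg (act (transv hK e h1 μ hμ)) h5
  rw [act_act_inv, ← algebraMap_smul K c e, act_smul, act_transv, act_transv, h1, mul_zero, zero_smul, add_zero] at h6
  obtain ⟨a, b, hab⟩ := hyp_coord hK h1 h2 h3 (ψ.symm (g (ψ e)))
  have h7 : hermForm 2 K (q ^ l) e (ψ.symm (g (ψ e))) = b ^ q ^ l := by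
    rw [hab, herm_add_right hK, herm_smul_right, herm_smul_right, h1, h3, mul_zero, zero_add, mul_one]
  have hb : b = 0 := by
    by_contra hb
    rw [h7, hab, smul_add, smul_smul, smul_smul, ← sub_eq_zero] at h6
    have h8 : (1 + μ * b ^ q ^ l * a - algebraMap F K c) • e + (μ * b ^ q ^ l * b) • e' = 0 := by
      rw [← h6]
      module
    obtain ⟨-, h9⟩ := hyp_indep hK h1 h2 h3 h8
    exact mul_ne_zero (mul_ne_zero hμ0 (pow_ne_zero _ hb)) hb h9
  refine ⟨a, ?_⟩
  rw [hb, zero_smul, add_zero] at hab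
  rw [← map_smul, ← hab, LinearEquiv.apply_symm_apply]

/-- the M-rule for `M = SU_2(K)` -/
theorem K2.mrule (hU : UFam U x f r) (hcov : H106.RC.Cov Ω x) (hl : ∀ i, Lin (f i)) {i₀ : ι}
    (h0 : ¬ (r i₀).Coprime q) (hcomm : ∀ (i : ι) (a : K) (v : Fin n → F), f i (a • v) = a • f i v)
    (hS : ∀ j, j ≠ i₀ → ∃ a : K, ∀ v, f j v = a • v) (ω : Ω) :
    (∀ s, U.el (h.phi s) • ω = ω) ∨ ∃ j, j ≠ i₀ ∧ x j • ω = ω := by
  have hK := h.hK
  have key := mrule_hom_pf (Cfsg.Agent.H452.RC.simple_two h.hK h.hQ) (Cfsg.Agent.H452.RC.nc_two h.hK h.hQ)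
    (U.el.comp h.phi) (by rw [← commutator_def]; exact Cfsg.Agent.H452.RC.comm_two h.hK h.hQ)
    (pr 2 K (q ^ l)) pr_surjective (by
      intro s hs
      obtain ⟨c, hc⟩ := h.ker U (s := s) (MonoidHom.mem_ker.1 hs)
      rw [MonoidHom.mem_ker, pr_eq_one_iff]
      apply mem_center_of_act (c := algebraMap F K c)
      intro a
      rw [hc, algebraMap_smul]) (by
      intro s hs
      exact pr_eq_one_iff.1 (MonoidHom.mem_ker.1 hs)) hU.pf (by
      intro i s
      obtain ⟨g, -, hg1, hg2⟩ := (hU.lft i).inv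
      obtain ⟨A, hA⟩ := h.exists_gu (Ind.map_add (hU.lft i)) (hcomm i) (lin_herm (hU.lft i) (hl i)) hg1 hg2
      exact ⟨_, (hU.lft i).conj_el (h.conj hA s)⟩) (Or.inr ⟨i₀, by
      intro j hj s
      obtain ⟨a, ha⟩ := hS j hj
      have h1 := (hU.lft j).conj_el (s := h.phi s) (s' := h.phi s) (fun v => by rw [ha, ha, h.act_phi_smul])
      change x j * U.el (h.phi s) = U.el (h.phi s) * x j
      exact mul_inv_eq_iff_eq_mul.1 h1⟩) hcov ω
  rcases key with h1 | ⟨j, hj, hjω⟩
  · exact Or.inl h1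
  · right
    refine ⟨j, ?_, hjω⟩
    rintro rfl
    apply hU.pf.ne j
    obtain ⟨e, e', h1, h2, h3⟩ := exists_hyp hK
    obtain ⟨a, ha⟩ := h.fix_sing (hU.lft j) (hl j) (hcomm j) hj h1 h2 h3
    obtain ⟨a', ha'⟩ := h.fix_sing (hU.lft j) (hl j) (hcomm j) hj h2 h1 (hyp_swap hK h3)
    have h4 := K2.eig hU h0 hcomm ha
    have h5 := K2.eig hU h0 hcomm ha'
    rw [(hU.lft j).eq_one_iff]
    refine ⟨1, fun v => ?_⟩
    obtain ⟨w, rfl⟩ := ψ.surjective v
    obtain ⟨c, d, rfl⟩ := hyp_coord hK h1 h2 h3 w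
    rw [map_add, map_smul, map_smul, Ind.map_add (hU.lft j), hcomm, hcomm, h4, h5, one_smul]

end fld

end Cfsg.Agent.H993.RC
end

-- part: H993/RC/TwoN
section
/-!
# S3510, box E10, case B: `dim_K V = 2`, the new family (helper993)
-/

set_option autoImplicit false
set_option linter.unusedSectionVars false

namespace Cfsg.Agent.H993.RC

open Matrix Module Cfsg Cfsg.Agent.LieClassical.HermBasic Cfsg.Agent.LieClassical.HermSiegel
  Cfsg.Agent.ClassicalGeometry.PSUAutBasic Cfsg.Agent.ClassicalGeometry.PSUAutCount Cfsg.Agent.H380.RC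
  Cfsg.Agent.H398.RC

section fld

variable {F : Type} [Field F] [Fintype F] {n q : ℕ} {K : Type} [Field K] [Fintype K] [Algebra F K]
  [Module K (Fin n → F)] [IsScalarTower F K (Fin n → F)] {l : ℕ}
  {ψ : (Fin 2 → K) ≃ₗ[K] (Fin n → F)} (h : K2 q l ψ)
  {G Ω : Type} [Group G] [Finite G] [Finite Ω] [Nonempty Ω] [MulAction G Ω] {N : Subgroup G} {U : UEnv G Ω N F n q}
  {ι : Type} [Finite ι] {x : ι → G} {f : ι → (Fin n → F) → (Fin n → F)} {r : ι → ℕ}

/-- iterates of `act` -/
theorem iterate_act' {m Q : ℕ} {L : Type*} [Field L] (g : SU m L Q) (k : ℕ) (v : Fin m → L) :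
    (act g)^[k] v = act (g ^ k) v := by
  induction k generalizing v with
  | zero => rw [pow_zero, act_one]; rfl
  | succ k ih => rw [Function.iterate_succ_apply, ih, pow_succ, act_mul]

include h

/-- scalars of `K` which are isometries -/
theorem K2.norm_one {g : (Fin n → F) → (Fin n → F)} {a : K} (hg : ∀ v, g v = a • v)
    (hiso : ∀ v w, hermForm n F q (g v) (g w) = hermForm n F q v w) : a * a ^ q ^ l = 1 := by
  have hK := h.hK
  obtain ⟨e, e', -, -, h3⟩ := exists_hyp hK
  have h4 := h.form (f := g) (fun b v => by rw [hg, hg, smul_comm]) hiso e e'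
  rwa [hg, hg, map_smul, map_smul, LinearEquiv.symm_apply_apply, LinearEquiv.symm_apply_apply, herm_smul_left,
    herm_smul_right, h3, mul_one] at h4

/-- **`dim_K V = 2`** -/
theorem K2.main (hD : DStmt) (hsm : SmallStmt) (hU : UFam U x f r) (hcov : H106.RC.Cov Ω x) (hl : ∀ i, Lin (f i))
    {i₀ : ι} (h0 : ¬ (r i₀).Coprime q) (hcomm : ∀ (i : ι) (a : K) (v : Fin n → F), f i (a • v) = a • f i v)
    (hS : ∀ j, j ≠ i₀ → ∃ a : K, ∀ v, f j v = a • v) (hodd : Odd l) (hl3 : 3 ≤ l) (hn : n = 2 * l)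
    (hIH : H106.RC.IH (Nat.card (PSU n F q))) : False := by
  classical
  have hK := h.hK
  have hq2 := two_le h.hF
  obtain ⟨e, e', h1, h2, h3⟩ := exists_hyp hK
  obtain ⟨s, hs, hs2, hsQ⟩ := exists_odd_prime hq2 hodd hl3
  have hQ1 : 1 ≤ q ^ l := Nat.one_le_pow _ _ (by omega)
  -- an element of order `s`
  obtain ⟨b, hb1, hbs⟩ : ∃ b : K, b ≠ 1 ∧ b ^ s = 1 := by
    have := Fact.mk hs
    have h4 : s ∣ Nat.card Kˣ := by
      rw [card_units_eq hK]
      exact hsQ.mul_left _
    obtain ⟨b, hb⟩ := exists_prime_orderOf_dvd_card' s h4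
    refine ⟨b, ?_, ?_⟩
    · intro h5
      have h6 : b = 1 := Units.ext h5
      rw [h6, orderOf_one] at hb
      exact hs.one_lt.ne hb
    · rw [← Units.val_pow_eq_pow_val, ← hb, pow_orderOf_eq_one, Units.val_one]
  have hb0 : b ≠ 0 := by
    rintro rfl
    rw [zero_pow hs.ne_zero] at hbs
    exact zero_ne_one hbs
  have hbQ : b ^ q ^ l = b := by
    obtain ⟨c, hc⟩ := hsQ
    have h4 : q ^ l = s * c + 1 := by omega
    rw [h4, pow_succ, pow_mul, hbs, one_pow, one_mul]
  obtain ⟨y, hy1, hy2⟩ := exists_tor hK h1 h2 h3 hbQ hb0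
  have hyk1 : ∀ k, act (y ^ k) e = b ^ k • e := by
    intro k
    induction k with
    | zero => rw [pow_zero, act_one, pow_zero, one_smul]
    | succ k ih => rw [pow_succ, act_mul, hy1, act_smul, ih, smul_smul, pow_succ']
  have hyk2 : ∀ k, act (y ^ k) e' = b⁻¹ ^ k • e' := by
    intro k
    induction k with
    | zero => rw [pow_zero, act_one, pow_zero, one_smul]
    | succ k ih => rw [pow_succ, act_mul, hy2, act_smul, ih, smul_smul, pow_succ']
  have hys : y ^ s = 1 := by
    apply ext_act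
    intro v
    obtain ⟨a, c, rfl⟩ := hyp_coord hK h1 h2 h3 v
    rw [act_add, act_smul, act_smul, hyk1, hyk2, hbs, inv_pow, hbs, inv_one, one_smul, one_smul, act_one]
  have hyne : U.el (h.phi y) ≠ 1 := by
    intro h4
    obtain ⟨c, hc⟩ := h.ker U (s := y) h4
    have h5 := hc e
    have h6 := hc e'
    have he0 : e ≠ 0 := by
      rintro rfl
      rw [herm_zero_left] at h3
      exact zero_ne_one h3
    have he0' : e' ≠ 0 := by
      rintro rfl
      rw [herm_zero_right hK] at h3
      exact zero_ne_one h3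
    rw [hy1, ← algebraMap_smul K c e, ← sub_eq_zero, ← sub_smul] at h5
    rw [hy2, ← algebraMap_smul K c e', ← sub_eq_zero, ← sub_smul] at h6
    have h7 := sub_eq_zero.1 ((smul_eq_zero.1 h5).resolve_right he0)
    have h8 := sub_eq_zero.1 ((smul_eq_zero.1 h6).resolve_right he0')
    have h9 : b ^ 2 = 1 := by rw [pow_two]; nth_rewrite 2 [h7]; rw [← h8, mul_inv_cancel₀ hb0]
    apply hb1
    obtain ⟨m, hm⟩ : Odd s := hs.odd_of_ne_two hs2
    rw [hm, pow_succ, pow_mul, h9, one_pow, one_mul] at hbs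
    exact hbs
  -- the new family
  have hxcomm : ∀ j, j ≠ i₀ → U.el (h.phi y) * x j = x j * U.el (h.phi y) := by
    intro j hj
    obtain ⟨a, ha⟩ := hS j hj
    have h1 := (hU.lft j).conj_el (s := h.phi y) (s' := h.phi y) (fun v => by rw [ha, ha, h.act_phi_smul])
    exact (mul_inv_eq_iff_eq_mul.1 h1).symm
  let x' : ι → G := Function.update x i₀ (U.el (h.phi y))
  let f' : ι → (Fin n → F) → (Fin n → F) := Function.update f i₀ (act (h.phi y))
  let r' : ι → ℕ := Function.update r i₀ s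
  have hx0 : x' i₀ = U.el (h.phi y) := Function.update_self ..
  have hf0 : f' i₀ = act (h.phi y) := Function.update_self ..
  have hr0 : r' i₀ = s := Function.update_self ..
  have hxj : ∀ j, j ≠ i₀ → x' j = x j := fun j hj => Function.update_of_ne hj ..
  have hfj : ∀ j, j ≠ i₀ → f' j = f j := fun j hj => Function.update_of_ne hj ..
  have hrj : ∀ j, j ≠ i₀ → r' j = r j := fun j hj => Function.update_of_ne hj ..
  -- `s` is different from the other primes
  have hsr : ∀ j, j ≠ i₀ → r j ≠ s := by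
    intro j hj hjs
    apply hU.pf.ne j
    rw [(hU.lft j).eq_one_iff]
    obtain ⟨a, ha⟩ := hS j hj
    have h4 := h.norm_one ha (lin_herm (hU.lft j) (hl j))
    obtain ⟨k, hk⟩ := hU.ord j
    have h5 : a ^ r j ^ k = 1 := by
      have h6 : ∀ m : ℕ, ∀ v, (f j)^[m] v = a ^ m • v := by
        intro m
        induction m with
        | zero => intro v; simp
        | succ m ih => intro v; rw [Function.iterate_succ_apply, ha, ih, smul_smul, pow_succ]
      have h7 := h6 (r j ^ k) (ψ e)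
      rw [hk, ← sub_eq_zero] at h7
      have h8 : (1 - a ^ r j ^ k) • ψ e = 0 := by rw [sub_smul, one_smul]; exact h7
      have he0 : ψ e ≠ 0 := by
        rw [map_ne_zero_iff _ ψ.injective]
        rintro rfl
        rw [herm_zero_left] at h3
        exact zero_ne_one h3
      exact (sub_eq_zero.1 ((smul_eq_zero.1 h8).resolve_right he0)).symm
    rw [← pow_succ'] at h4
    have h6 : Nat.Coprime (r j ^ k) (q ^ l + 1) := by
      apply Nat.Coprime.pow_left
      rw [hjs, hs.coprime_iff_not_dvd]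
      intro h7
      apply hs2
      have h8 : s ∣ 2 := by
        have h9 := Nat.dvd_sub h7 hsQ
        rwa [show q ^ l + 1 - (q ^ l - 1) = 2 by omega] at h9
      exact (Nat.prime_dvd_prime_iff_eq hs Nat.prime_two).1 h8
    have h7 : a = 1 := by
      rw [← orderOf_eq_one_iff, ← Nat.dvd_one, ← h6.gcd_eq_one]
      exact Nat.dvd_gcd (orderOf_dvd_of_pow_eq_one h5) (orderOf_dvd_of_pow_eq_one h4)
    exact ⟨1, fun v => by rw [ha, h7, one_smul, one_smul]⟩
  have hU' : UFam U x' f' r' := by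
    refine ⟨⟨?_, ?_, ?_, ?_, ?_⟩, ?_, ?_, ?_⟩
    · intro i
      by_cases hi : i = i₀
      · rw [hi, hr0]; exact hs
      · rw [hrj i hi]; exact hU.pf.prime i
    · intro i j hij
      by_cases hi : i = i₀ <;> by_cases hj : j = i₀
      · rw [hi, hj]
      · rw [hi, hr0, hrj j hj] at hij
        exact absurd hij.symm (hsr j hj)
      · rw [hj, hr0, hrj i hi] at hij
        exact absurd hij (hsr i hi)
      · rw [hrj i hi, hrj j hj] at hij
        exact hU.pf.inj hij
    · intro i
      by_cases hi : i = i₀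
      · rw [hi, hx0, hr0, ← map_pow, ← map_pow, hys, map_one, map_one]
      · rw [hxj i hi, hrj i hi]; exact hU.pf.pow i
    · intro i
      by_cases hi : i = i₀
      · rw [hi, hx0]; exact hyne
      · rw [hxj i hi]; exact hU.pf.ne i
    · intro i j
      by_cases hi : i = i₀ <;> by_cases hj : j = i₀
      · rw [hi, hj]
      · rw [hi, hx0, hxj j hj]; exact hxcomm j hj
      · rw [hj, hx0, hxj i hi]; exact (hxcomm i hi).symm
      · rw [hxj i hi, hxj j hj]; exact hU.pf.comm i j
    · intro i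
      by_cases hi : i = i₀
      · rw [hi, hx0, hf0]; exact U.lft_el _
      · rw [hxj i hi, hfj i hi]; exact hU.lft i
    · intro i j v
      by_cases hi : i = i₀ <;> by_cases hj : j = i₀
      · rw [hi, hj]
      · obtain ⟨a, ha⟩ := hS j hj
        rw [hi, hf0, hfj j hj, ha, ha, h.act_phi_smul]
      · obtain ⟨a, ha⟩ := hS i hi
        rw [hj, hf0, hfj i hi, ha, ha, h.act_phi_smul]
      · rw [hfj i hi, hfj j hj]; exact hU.comm i j v
    · intro i
      by_cases hi : i = i₀
      · refine ⟨1, fun v => ?_⟩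
        rw [hi, hf0, hr0, pow_one, iterate_act', ← map_pow, hys, map_one, act_one]
      · rw [hfj i hi, hrj i hi]; exact hU.ord i
  have hcov' : H106.RC.Cov Ω x' := by
    intro ω
    rcases h.mrule hU hcov hl h0 hcomm hS ω with h4 | ⟨j, hj, hjω⟩
    · exact ⟨i₀, by rw [hx0]; exact h4 y⟩
    · exact ⟨j, by rw [hxj j hj]; exact hjω⟩
  -- the two halves
  let W : Submodule F (Fin n → F) := (Submodule.span K {ψ e}).restrictScalars F
  let W' : Submodule F (Fin n → F) := (Submodule.span K {ψ e'}).restrictScalars F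
  have hW : ∀ v, v ∈ W ↔ ∃ a : K, ψ (a • e) = v := by
    intro v
    rw [Submodule.restrictScalars_mem, Submodule.mem_span_singleton]
    simp only [map_smul]
  have hW' : ∀ v, v ∈ W' ↔ ∃ a : K, ψ (a • e') = v := by
    intro v
    rw [Submodule.restrictScalars_mem, Submodule.mem_span_singleton]
    simp only [map_smul]
  have hTS : TS q W := by
    intro v hv w hw
    obtain ⟨a, rfl⟩ := (hW v).1 hv
    obtain ⟨c, rfl⟩ := (hW w).1 hw
    rw [h.tr, herm_smul_left, herm_smul_right, h1, mul_zero, mul_zero, map_zero]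
  have hTS' : TS q W' := by
    intro v hv w hw
    obtain ⟨a, rfl⟩ := (hW' v).1 hv
    obtain ⟨c, rfl⟩ := (hW' w).1 hw
    rw [h.tr, herm_smul_left, herm_smul_right, h2, mul_zero, mul_zero, map_zero]
  have hC : IsCompl W W' := by
    constructor
    · rw [Submodule.disjoint_def]
      intro v hv hv'
      obtain ⟨a, rfl⟩ := (hW v).1 hv
      obtain ⟨c, hc⟩ := (hW' _).1 hv'
      have h4 := ψ.injective hc
      have h5 : a • e + (-c) • e' = 0 := by rw [neg_smul, ← h4, add_neg_cancel]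
      rw [(hyp_indep hK h1 h2 h3 h5).1, zero_smul, map_zero]
    · rw [codisjoint_iff, eq_top_iff]
      intro v _
      obtain ⟨w, rfl⟩ := ψ.surjective v
      obtain ⟨a, c, rfl⟩ := hyp_coord hK h1 h2 h3 w
      rw [map_add]
      exact Submodule.add_mem_sup ((hW _).2 ⟨a, rfl⟩) ((hW' _).2 ⟨c, rfl⟩)
  have hdim := finrank_of_ts h.hF hTS hTS' hC
  refine hD U x' f' r' hU' hcov' ⟨W, W', hTS, hTS', hC, ?_, Or.inl ?_⟩
  · intro i
    by_cases hi : i = i₀
    · rw [hi, hf0]
      constructor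
      · intro v hv
        obtain ⟨a, rfl⟩ := (hW v).1 hv
        rw [h.act_phi', act_smul, hy1, smul_smul]
        exact (hW _).2 ⟨_, rfl⟩
      · intro v hv
        obtain ⟨a, rfl⟩ := (hW' v).1 hv
        rw [h.act_phi', act_smul, hy2, smul_smul]
        exact (hW' _).2 ⟨_, rfl⟩
    · obtain ⟨a, ha⟩ := hS i hi
      rw [hfj i hi]
      constructor
      · intro v hv
        rw [ha]
        exact (Submodule.span K {ψ e}).smul_mem a hv
      · intro v hv
        rw [ha]
        exact (Submodule.span K {ψ e'}).smul_mem a hv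
  · refine (hsm U.hF U.hn U.h32 hIH).2.2.2.1 _ hdim ?_
    rintro ⟨h4, -⟩
    omega

end fld

end Cfsg.Agent.H993.RC
end

-- part: H993/RC/TwoBMain
section
/-!
# S3510, box E10, case B: assembly (helper993)
-/

set_option autoImplicit false
set_option linter.unusedSectionVars false

namespace Cfsg.Agent.H993.RC

open Matrix Module Cfsg Cfsg.Agent.LieClassical.HermBasic Cfsg.Agent.LieClassical.HermSiegel
  Cfsg.Agent.ClassicalGeometry.PSUAutBasic Cfsg.Agent.ClassicalGeometry.PSUAutCount Cfsg.Agent.H380.RC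
  Cfsg.Agent.H398.RC

/-- **The case of a field** -/
theorem case_K (hD : DStmt) (hL : LStmt) (hsm : SmallStmt) :
    NoC fun {_ _ _ _ _ F _ _ n q} _ {ι} _ f r => (∀ i : ι, Lin (f i)) ∧
      H106.RC.IH (Nat.card (PSU n F q)) ∧
      ∃ i₀ : ι, ¬ (r i₀).Coprime q ∧ ∃ (K : Type) (_ : Field K) (_ : Fintype K) (_ : Algebra F K)
        (_ : Module K (Fin n → F)) (_ : IsScalarTower F K (Fin n → F)),
        (∀ a : K, ∃ b : K, ∀ v w : Fin n → F, hermForm n F q (a • v) w = hermForm n F q v (b • w)) ∧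
        (∀ (i : ι) (a : K) (v : Fin n → F), f i (a • v) = a • f i v) ∧
        ∀ j : ι, j ≠ i₀ → ∃ a : K, ∀ v, f j v = a • v := by
  intro G Ω _ _ _ _ _ N F _ _ n q U ι _ x f r hU hcov ⟨hl, hIH, i₀, h0, K, _, _, _, _, _, hadj, hcomm, hS⟩
  classical
  have hn0 : 0 < n := by have := U.hn; omega
  obtain ⟨l, m, hn, hodd, hcK, hfl, ψ, hψ⟩ := kstruct U.hF hn0 hadj
  have hm : m = finrank K (Fin n → F) := by
    rw [← LinearEquiv.finrank_eq ψ, Module.finrank_fin_fun]
  -- `K ≠ F`
  have hl1 : l ≠ 1 := by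
    rintro rfl
    obtain ⟨j, hj⟩ := H106.RC.Cov.two U.env hcov hU.pf.ne i₀
    apply hU.pf.ne j
    rw [(hU.lft j).eq_one_iff]
    obtain ⟨a, ha⟩ := hS j hj
    have h1 := finrank_eq_one_iff_of_nonzero' (1 : K) one_ne_zero |>.1 hfl a
    obtain ⟨c, hc⟩ := h1
    refine ⟨c, fun v => ?_⟩
    rw [ha, ← hc, smul_assoc, one_smul]
  have hl3 : 3 ≤ l := by
    obtain ⟨k, hk⟩ := hodd
    omega
  have hm0 : m ≠ 0 := by
    rintro rfl
    omega
  by_cases h3 : 3 ≤ m
  · exact hL U x f r hU hcov ⟨K, inferInstance, inferInstance, inferInstance, inferInstance, inferInstance, hadj,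
      hcomm, by omega, by omega, hIH⟩
  by_cases h2 : m = 2
  · subst h2
    have hQ : 4 ≤ q ^ l :=
      calc 4 ≤ 2 ^ 3 := by norm_num
        _ ≤ q ^ 3 := Nat.pow_le_pow_left (two_le U.hF) 3
        _ ≤ q ^ l := Nat.pow_le_pow_right (by have := two_le U.hF; omega) hl3
    have h : K2 q l ψ := ⟨U.hF, hcK, hQ, hψ⟩
    exact h.main hD hsm hU hcov hl h0 hcomm hS hodd hl3 hn hIH
  · have h1 : m = 1 := by omega
    subst h1
    apply hU.pf.ne i₀
    rw [(hU.lft i₀).eq_one_iff]
    refine ⟨1, fun v => ?_⟩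
    obtain ⟨w, rfl⟩ := ψ.surjective v
    have h4 : w = w 0 • (fun _ => (1 : K)) := by
      funext i
      fin_cases i
      simp
    have h5 : ∀ u : Fin n → F, ∃ a : K, u = a • ψ (fun _ => (1 : K)) := by
      intro u
      obtain ⟨w, rfl⟩ := ψ.surjective u
      refine ⟨w 0, ?_⟩
      rw [← map_smul]
      congr 1
      funext i
      fin_cases i
      simp
    obtain ⟨a, ha⟩ := h5 (f i₀ (ψ (fun _ => (1 : K))))
    have h6 := K2.eig hU h0 hcomm ha
    rw [h4, map_smul, hcomm, h6, one_smul]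

/-- **Case B** -/
theorem twoB (hD : DStmt) (hL : LStmt) (hsm : SmallStmt) : TwoB := by
  intro G Ω _ _ _ _ _ N F _ _ n q U ι _ x f r hU hcov ⟨h42, hl, hIH, i₀, h0, hA⟩
  classical
  have hF := U.hF
  have hn := U.hn
  have hNe : Nonempty (Fin n) := ⟨⟨0, by omega⟩⟩
  -- the linear maps
  let T : ι → Module.End F (Fin n → F) := fun i => lmap (hU.lft i) (hl i)
  have hT : ∀ i v, T i v = f i v := fun i v => rfl
  let s : Set (Module.End F (Fin n → F)) := {a | ∃ j, j ≠ i₀ ∧ a = T j}
  have hTc : ∀ i j, T i * T j = T j * T i := by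
    intro i j
    refine LinearMap.ext fun v => ?_
    exact hU.comm i j v
  have hs : ∀ a ∈ s, ∀ b ∈ s, a * b = b * a := by
    rintro _ ⟨i, -, rfl⟩ _ ⟨j, -, rfl⟩
    exact hTc i j
  -- everything commutes with the algebra
  have hcom : ∀ (i : ι) (a : Module.End F (Fin n → F)), a ∈ Algebra.adjoin F s → ∀ v, f i (a v) = a (f i v) := by
    intro i a ha v
    have h1 := adj_comm (g := T i) (by rintro _ ⟨j, -, rfl⟩; exact hTc i j) ha
    exact LinearMap.congr_fun h1 v
  -- adjoints
  have hadj : ∀ a ∈ s, ∃ b ∈ Algebra.adjoin F s, ∀ v w, hermForm n F q (a v) w = hermForm n F q v (b w) := by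
    rintro _ ⟨j, hj, rfl⟩
    obtain ⟨k, hk⟩ := hU.ord j
    have h1 : 1 ≤ r j ^ k := Nat.one_le_pow _ _ (hU.pf.prime j).pos
    refine ⟨T j ^ (r j ^ k - 1), Subalgebra.pow_mem _ (Algebra.subset_adjoin (show T j ∈ s from ⟨j, hj, rfl⟩)) _, fun v w => ?_⟩
    have h2 : w = f j ((T j ^ (r j ^ k - 1)) w) := by
      have h3 : (T j ^ (r j ^ k)) w = w := by rw [lmap_pow, hk]
      rw [show r j ^ k = r j ^ k - 1 + 1 by omega, pow_succ', Module.End.mul_apply] at h3
      exact h3.symm
    conv_lhs => rw [h2]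
    exact lin_herm (hU.lft j) (hl j) v _
  -- the exponent
  obtain ⟨M, hM, hpow⟩ : ∃ M, 2 ≤ M ∧ ∀ a ∈ Algebra.adjoin F s, a ^ M = a := by
    have : Fintype ι := Fintype.ofFinite ι
    choose k hk using hU.ord
    let M := ∏ j ∈ Finset.univ.filter (fun j => j ≠ i₀), r j ^ k j
    have hcop : (Fintype.card F).Coprime M := by
      rw [hF]
      apply Nat.Coprime.pow_left
      apply Nat.Coprime.prod_right
      intro j hj
      rw [Finset.mem_filter] at hj
      exact ((fam_coprime hU h0 hj.2).pow_left _).symm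
    obtain ⟨t, ht, htp⟩ := exists_exp (V := Fin n → F) hcop
    refine ⟨Fintype.card F ^ t, ?_, fun a ha => adj_pow hs ?_ ha⟩
    · calc 2 ≤ Fintype.card F := Fintype.one_lt_card
        _ = Fintype.card F ^ 1 := (pow_one _).symm
        _ ≤ Fintype.card F ^ t := Nat.pow_le_pow_right Fintype.card_pos ht
    · rintro _ ⟨j, hj, rfl⟩
      apply htp
      obtain ⟨c, hc⟩ : r j ^ k j ∣ M := Finset.dvd_prod_of_mem (fun j => r j ^ k j) (by simp only [hj, _root_.ne_eq, _root_.Finset.mem_filter, _root_.Finset.mem_univ, _root_.not_false_eq_true, _root_.and_self])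
      have h1 : T j ^ (r j ^ k j) = 1 := by
        refine LinearMap.ext fun v => ?_
        rw [lmap_pow, hk]
        rfl
      rw [hc, pow_mul, h1, one_pow]
  -- selfadjoint idempotents
  have hid : ∀ e ∈ Algebra.adjoin F s, e * e = e → (∀ v w, hermForm n F q (e v) w = hermForm n F q v (e w)) →
      e = 0 ∨ e = 1 := by
    intro e he hee hadj'
    by_contra hcon
    push Not at hcon
    have key : ∀ a : Module.End F (Fin n → F), a ∈ Algebra.adjoin F s → a * a = a →
        (∀ v w, hermForm n F q (a v) w = hermForm n F q v (a w)) → a ≠ 1 → ∀ v, f i₀ (a v) = a v := by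
      intro a ha haa haadj ha1 v
      refine hA (LinearMap.range a) ?_ ?_ ?_ (a v) ⟨v, rfl⟩
      · rintro _ ⟨w, rfl⟩ hw
        apply herm_nondeg hF (q := q)
        intro z
        have h1 := hw (a z) ⟨z, rfl⟩
        rwa [← haadj, ← Module.End.mul_apply, haa] at h1
      · intro htop
        apply ha1
        refine LinearMap.ext fun w => ?_
        have hw : w ∈ LinearMap.range a := by rw [htop]; trivial
        obtain ⟨z, rfl⟩ := hw
        rw [← Module.End.mul_apply, haa]
        rfl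
      · rintro i _ ⟨w, rfl⟩
        exact ⟨f i w, (hcom i a ha w).symm⟩
    have h1 := key e he hee hadj' hcon.2
    have h2 := key (1 - e) (Subalgebra.sub_mem _ (Subalgebra.one_mem _) he) (by
      rw [mul_sub, sub_mul, sub_mul, hee, one_mul, mul_one, one_mul, sub_self, sub_zero]) (by
      intro v w
      rw [LinearMap.sub_apply, LinearMap.sub_apply, herm_sub_left, herm_sub_right hF, hadj']
      rfl) (by
      intro h3
      exact hcon.1 (sub_eq_self.1 h3))
    apply hU.pf.ne i₀
    rw [(hU.lft i₀).eq_one_iff]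
    refine ⟨1, fun v => ?_⟩
    have h3 : v = e v + (1 - e) v := by
      rw [LinearMap.sub_apply]
      change v = e v + (v - e v)
      abel
    rw [one_smul]
    nth_rewrite 1 [h3]
    rw [Ind.map_add (hU.lft i₀), h1, h2, ← h3]
  rcases dich hF hs hadj hM hpow hid with ⟨e, he, hee, hadj'⟩ | hfld
  · -- two totally singular halves
    refine case_D hD hsm U x f r hU hcov ⟨hl, hIH, i₀, h0, LinearMap.range e, LinearMap.range (1 - e), ?_, ?_, ?_, ?_⟩
    · rintro _ ⟨v, rfl⟩ _ ⟨w, rfl⟩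
      have h1 : (1 - e) (e w) = 0 := by
        rw [← Module.End.mul_apply, sub_mul, hee, one_mul, sub_self]
        rfl
      rw [hadj', h1, herm_zero_right hF]
    · rintro _ ⟨v, rfl⟩ _ ⟨w, rfl⟩
      have h1 : ∀ v w, hermForm n F q ((1 - e) v) w = hermForm n F q v (e w) := by
        intro v w
        rw [herm_swap hF w, ← hadj' w v, ← herm_swap hF]
      have h2 : e ((1 - e) w) = 0 := by
        rw [← Module.End.mul_apply, mul_sub, hee, mul_one, sub_self]
        rfl
      rw [h1, h2, herm_zero_right hF]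
    · constructor
      · rw [Submodule.disjoint_def]
        rintro _ ⟨v, rfl⟩ ⟨w, hw⟩
        have h1 : e ((1 - e) w) = 0 := by
          rw [← Module.End.mul_apply, mul_sub, hee, mul_one, sub_self]
          rfl
        rw [hw, ← Module.End.mul_apply, hee] at h1
        exact h1
      · rw [codisjoint_iff, eq_top_iff]
        intro v _
        have h3 : v = e v + (1 - e) v := by
          rw [LinearMap.sub_apply]
          change v = e v + (v - e v)
          abel
        rw [h3]
        exact Submodule.add_mem_sup ⟨v, rfl⟩ ⟨v, rfl⟩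
    · intro i
      constructor
      · rintro _ ⟨v, rfl⟩
        exact ⟨f i v, (hcom i e he v).symm⟩
      · rintro _ ⟨v, rfl⟩
        exact ⟨f i v, (hcom i (1 - e) (Subalgebra.sub_mem _ (Subalgebra.one_mem _) he) v).symm⟩
  · -- a field
    have hfield : IsField (Algebra.adjoin F s) := by
      refine ⟨⟨0, 1, fun h => ?_⟩, fun a b => Subtype.ext (adj_comm' hs a.2 b.2), fun {a} ha => ?_⟩
      · have h1 : (0 : Module.End F (Fin n → F)) = 1 := congrArg Subtype.val h
        exact zero_ne_one h1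
      · obtain ⟨b, hb, hab⟩ := hfld a.1 a.2 (fun h => ha (Subtype.ext h))
        exact ⟨⟨b, hb⟩, Subtype.ext hab⟩
    have hfinE : Finite (Module.End F (Fin n → F)) := Module.finite_of_finite F
    have hfinR : Finite (Algebra.adjoin F s) := Subtype.finite
    refine (case_K hD hL hsm U x f r hU hcov ⟨hl, hIH, i₀, h0, Algebra.adjoin F s, (hfield.toField : _), Fintype.ofFinite _,
      (inferInstance : Algebra F (Algebra.adjoin F s)), (inferInstance : Module (Algebra.adjoin F s) (Fin n → F)),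
      (inferInstance : IsScalarTower F (Algebra.adjoin F s) (Fin n → F)), ?_, ?_, ?_⟩ :)
    · intro a
      obtain ⟨b, hb, hab⟩ := adj_adj hF hadj a.2
      exact ⟨⟨b, hb⟩, hab⟩
    · intro i a v
      exact hcom i a.1 a.2 v
    · intro j hj
      exact ⟨⟨T j, Algebra.subset_adjoin ⟨j, hj, rfl⟩⟩, fun v => rfl⟩

end Cfsg.Agent.H993.RC
end

-- part: H398/RC/LBox
section
/-!
# S3510, family E, box E6b: `LStmt` from `DecStmt` and `SmallStmt` (helper398)
-/

set_option autoImplicit false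
set_option linter.unusedSectionVars false

namespace Cfsg.Agent.H398.RC

open Matrix Module Cfsg Cfsg.Agent.LieClassical.HermBasic Cfsg.Agent.LieClassical.HermSiegel Cfsg.Agent.H106.RC
  Cfsg.Agent.H380.RC MulAction Cfsg.Agent.ClassicalGeometry.PSUAutBasic Cfsg.Agent.ClassicalGeometry.PSUAutCount
  Cfsg.Agent.ClassicalGeometry

section tv

variable {K : Type*} [Field K] [Fintype K] {m Q : ℕ}

theorem act_transv_pow (hK : Fintype.card K = Q ^ 2) {e : Fin m → K} (he : hermForm m K Q e e = 0) {μ : K}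
    (hμ : μ + μ ^ Q = 0) (k : ℕ) (v : Fin m → K) :
    act (transv hK e he μ hμ ^ k) v = v + ((k : K) * (μ * hermForm m K Q v e)) • e := by
  induction k with
  | zero => rw [pow_zero, act_one, Nat.cast_zero, zero_mul, zero_smul, add_zero]
  | succ k ih =>
    rw [pow_succ', act_mul, ih, act_transv, herm_add_left, herm_smul_left, he, mul_zero, add_zero, Nat.cast_succ]
    funext i
    simp only [Pi.add_apply, Pi.smul_apply, smul_eq_mul]
    ring

theorem transv_pow_char (hK : Fintype.card K = Q ^ 2) {p : ℕ} [CharP K p] {e : Fin m → K}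
    (he : hermForm m K Q e e = 0) {μ : K} (hμ : μ + μ ^ Q = 0) : transv hK e he μ hμ ^ p = 1 := by
  apply ext_act
  intro v
  rw [act_transv_pow, CharP.cast_eq_zero, zero_mul, zero_smul, add_zero, act_one]

theorem iterate_act (g : SU m K Q) (k : ℕ) (v : Fin m → K) : (act g)^[k] v = act (g ^ k) v := by
  induction k generalizing v with
  | zero => rw [pow_zero, act_one]; rfl
  | succ k ih => rw [Function.iterate_succ_apply, ih, pow_succ, act_mul]

end tv

section fld

variable {F : Type} [Field F] [Fintype F] {n q : ℕ} {K : Type} [Field K] [Fintype K] [Algebra F K]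
  [Module K (Fin n → F)] [IsScalarTower F K (Fin n → F)] {m l : ℕ} {ψ : (Fin m → K) ≃ₗ[K] (Fin n → F)}
  (h : KS q l ψ)
include h

/-- the conjugates of the image of `SU_m(K)` -/
theorem KS.conj {f : (Fin n → F) → (Fin n → F)} {A : Cfsg.GU m K (q ^ l)}
    (hA : ∀ a : Fin m → K, ψ (gm A *ᵥ a) = f (ψ a)) (s : SU m K (q ^ l)) (v : Fin n → F) :
    f (act (h.phi s) v) = act (h.phi (semiConj A (RingEquiv.refl K) s)) (f v) := by
  obtain ⟨a, rfl⟩ := ψ.surjective v
  rw [h.act_phi', ← hA, ← hA, h.act_phi']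
  congr 1
  exact (act_semiConj A (RingEquiv.refl K) s a).symm

omit h in
theorem toAut_one {m' Q : ℕ} : (toAut (1 : Cfsg.GU m' K Q) (RingEquiv.refl K) : MulAut (PSU m' K Q)) = 1 := by
  ext x
  obtain ⟨g, rfl⟩ := pr_surjective x
  rw [show (toAut (1 : Cfsg.GU m' K Q) (RingEquiv.refl K) : MulAut (PSU m' K Q)) (pr m' K Q g) =
    pr m' K Q (semiConj 1 (RingEquiv.refl K) g) from rfl, MulAut.one_apply]
  congr 1
  apply ext_act
  intro v
  have h4 := act_semiConj (1 : Cfsg.GU m' K Q) (RingEquiv.refl K) g v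
  rw [gm_one, one_mulVec, one_mulVec] at h4
  exact h4

variable {G Ω : Type} [Group G] [MulAction G Ω] {N : Subgroup G} (U : UEnv G Ω N F n q)

theorem KS.ker {s : SU m K (q ^ l)} (hs : U.el (h.phi s) = 1) : pr m K (q ^ l) s = 1 := by
  rw [U.el_eq_one] at hs
  obtain ⟨c, -, -, hc⟩ := exists_scalar_of_mem_center h.hF U.hn hs
  rw [pr_eq_one_iff]
  apply mem_center_of_act (c := algebraMap F K c)
  intro a
  apply ψ.injective
  rw [← h.act_phi', hc, map_smul, algebraMap_smul]

/-- an element centralising the image of `SU_m(K)` is in `K` -/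
theorem KS.cent {x : G} {f : (Fin n → F) → (Fin n → F)} (hl : U.Lft x f) {A : Cfsg.GU m K (q ^ l)}
    (hA : ∀ a : Fin m → K, ψ (gm A *ᵥ a) = f (ψ a))
    (hx : ∀ s, x * U.el (h.phi s) = U.el (h.phi s) * x) : ∃ k : K, ∀ v, f v = k • v := by
  have h1 : (toAut (1 : Cfsg.GU m K (q ^ l)) (RingEquiv.refl K) : MulAut (PSU m K (q ^ l))) =
      toAut A (RingEquiv.refl K) := by
    rw [toAut_one]
    ext y
    obtain ⟨s, rfl⟩ := pr_surjective y
    rw [MulAut.one_apply, show (toAut A (RingEquiv.refl K) : MulAut (PSU m K (q ^ l))) (pr m K (q ^ l) s) =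
      pr m K (q ^ l) (semiConj A (RingEquiv.refl K) s) from rfl]
    have h2 := hl.conj_el (h.conj hA s)
    rw [hx, mul_inv_cancel_right] at h2
    have h3 := h.ker U (s := s⁻¹ * semiConj A (RingEquiv.refl K) s) (by
      rw [map_mul, map_inv, map_mul, map_inv, ← h2, inv_mul_cancel])
    rw [map_mul, map_inv, inv_mul_eq_one] at h3
    exact h3
  obtain ⟨-, c, -, hc⟩ := eq_of_toAut_eq h.hK h.hm h1
  refine ⟨c, fun v => ?_⟩
  obtain ⟨a, rfl⟩ := ψ.surjective v
  rw [← hA, hc, gm_one, ← map_smul]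
  congr 1
  rw [smul_mulVec, one_mulVec]

end fld

/-- **Box E6b (L).** -/
theorem lstmt (hdec : DecStmt) (hsmall : SmallStmt) : LStmt := by
  intro G Ω _ _ _ _ _ N F _ _ n q U ι _ x f r hfam hcov
  rintro ⟨K, _, _, _, _, _, hadj, hcomm, hK1, hm3, hIH⟩
  classical
  have hn0 : 0 < n := by have := U.hn; omega
  obtain ⟨l, m, hn, hodd, hcK, hl, ψ, hψ⟩ := kstruct U.hF hn0 hadj
  have hq2 := two_le U.hF
  have hm : m = finrank K (Fin n → F) := by
    rw [← LinearEquiv.finrank_eq ψ, Module.finrank_fin_fun]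
  have h3m : 3 ≤ m := by rw [hm]; exact hm3
  have h3l : 3 ≤ l := by
    obtain ⟨k, hk⟩ := hodd
    omega
  have hQ : 8 ≤ q ^ l :=
    calc 8 = 2 ^ 3 := by norm_num
      _ ≤ 2 ^ l := Nat.pow_le_pow_right (by norm_num) h3l
      _ ≤ q ^ l := Nat.pow_le_pow_left hq2 l
  have h : KS q l ψ := ⟨U.hF, hcK, h3m, fun hh => by omega, hψ⟩
  -- the action of the `x i`
  have hlin : ∀ i (c : F) (v : Fin n → F), f i (c • v) = c • f i v := by
    intro i c v
    rw [← algebraMap_smul K c v, hcomm, algebraMap_smul]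
  have hA : ∀ i, ∃ A : Cfsg.GU m K (q ^ l), ∀ a : Fin m → K, ψ (gm A *ᵥ a) = f i (ψ a) := by
    intro i
    have hind := (hfam.lft i).ind
    obtain ⟨ρ, hρ1, hρ2⟩ := hind.exists_rho
    obtain ⟨g, -, hg1, hg2⟩ := hind.bij
    have hρ : ∀ c, ρ c = c := by
      intro c
      have hw : f i (Pi.single ⟨0, hn0⟩ 1) ≠ 0 := by
        intro h0
        have h1 := hind.injective (h0.trans hind.map_zero.symm)
        have h2 := congrFun h1 ⟨0, hn0⟩
        rw [Pi.single_eq_same] at h2
        exact one_ne_zero h2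
      have h1 := hρ1 c (Pi.single ⟨0, hn0⟩ 1)
      rw [hlin, ← sub_eq_zero, ← sub_smul, smul_eq_zero] at h1
      rcases h1 with h1 | h1
      · exact (sub_eq_zero.1 h1).symm
      · exact absurd h1 hw
    exact h.exists_gu hind.map_add (hcomm i) (fun v w => by rw [hρ2, hρ]) hg1 hg2
  choose A hA using hA
  -- the M-rule
  let κ : SU m K (q ^ l) →* G := U.el.comp h.phi
  have hκ : ∀ s, κ s = U.el (h.phi s) := fun _ => rfl
  have hS := hsmall U.hF U.hn U.h32 hIH
  have hRC : RC (PSU m K (q ^ l)) := hS.2.1 K l m hn h3l h3m hcK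
  have hrule : ∀ ω : Ω, (∀ s, κ s • ω = ω) ∨ ∃ j, (∀ s, x j * κ s = κ s * x j) ∧ x j • ω = ω := fun ω =>
    mrule_hom_pf (simple_psu hcK h3m h.h32) (notComm_psu hcK h3m h.h32) κ
      (by rw [← commutator_def, perf_su hcK h3m h.h32]) (pr m K (q ^ l)) pr_surjective
      (fun s hs => h.ker U hs) (fun s hs => pr_eq_one_iff.1 hs) hfam.pf
      (fun i s => ⟨_, (hfam.lft i).conj_el (h.conj (hA i) s)⟩) (Or.inl hRC) hcov ω
  -- the transvection
  let i0 : Fin m := ⟨0, by omega⟩
  let i1 : Fin m := ⟨1, by omega⟩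
  have hi01 : i0 ≠ i1 := by simp [i0, i1]
  obtain ⟨t, ht⟩ := _root_.Cfsg.Agent.LieClassical.HermBasic.exists_norm_eq hcK (c := (-1 : K)) (by rw [neg_pow_q hcK, one_pow])
  obtain ⟨μ, hμ0, hμ⟩ := exists_trace_zero_ne hcK
  let pt : K → K → (Fin m → K) := fun a b => Pi.single i0 a + Pi.single i1 b
  have hpt0 : ∀ a b, pt a b i0 = a := by
    intro a b
    change (Pi.single i0 a + Pi.single i1 b : Fin m → K) i0 = a
    rw [Pi.add_apply, Pi.single_eq_same, Pi.single_eq_of_ne hi01, add_zero]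
  have hpt1 : ∀ a b, pt a b i1 = b := by
    intro a b
    change (Pi.single i0 a + Pi.single i1 b : Fin m → K) i1 = b
    rw [Pi.add_apply, Pi.single_eq_same, Pi.single_eq_of_ne hi01.symm, zero_add]
  have hptadd : ∀ a b a' b', pt a b + pt a' b' = pt (a + a') (b + b') := by
    intro a b a' b'
    change (Pi.single i0 a + Pi.single i1 b + (Pi.single i0 a' + Pi.single i1 b') : Fin m → K) =
      Pi.single i0 (a + a') + Pi.single i1 (b + b')
    rw [Pi.single_add, Pi.single_add]
    abel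
  have hptsmul : ∀ c a b, c • pt a b = pt (c * a) (c * b) := by
    intro c a b
    change c • (Pi.single i0 a + Pi.single i1 b : Fin m → K) = Pi.single i0 (c * a) + Pi.single i1 (c * b)
    rw [smul_add, ← Pi.single_smul', ← Pi.single_smul', smul_eq_mul, smul_eq_mul]
  have hherm : ∀ a b u, hermForm m K (q ^ l) (pt a b) u = a * u i0 ^ (q ^ l) + b * u i1 ^ (q ^ l) := by
    intro a b u
    change hermForm m K (q ^ l) (Pi.single i0 a + Pi.single i1 b) u = _
    rw [herm_add_left, herm_single_left, herm_single_left]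
  have he : hermForm m K (q ^ l) (pt 1 t) (pt 1 t) = 0 := by
    rw [hherm, hpt0, hpt1, one_pow, ht]
    ring
  set! a0 : SU m K (q ^ l) := transv hcK (pt 1 t) he μ hμ with ha0
  have hact : ∀ v, act a0 v = v + (μ * hermForm m K (q ^ l) v (pt 1 t)) • pt 1 t := fun v =>
    act_transv hcK he hμ v
  -- the subspace
  let AF : Submodule F (Fin n → F) :=
    { carrier := {v | ∃ a b : K, v = ψ (pt a b)}
      add_mem' := by
        rintro _ _ ⟨a, b, rfl⟩ ⟨a', b', rfl⟩
        exact ⟨a + a', b + b', by rw [← map_add, hptadd]⟩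
      zero_mem' := ⟨0, 0, by
        have : pt 0 0 = 0 := by
          change (Pi.single i0 0 + Pi.single i1 0 : Fin m → K) = 0
          rw [Pi.single_zero, Pi.single_zero, add_zero]
        rw [this, map_zero]⟩
      smul_mem' := by
        rintro c _ ⟨a, b, rfl⟩
        exact ⟨algebraMap F K c * a, algebraMap F K c * b, by rw [← hptsmul, map_smul, algebraMap_smul]⟩ }
  have hmem : ∀ v, v ∈ AF ↔ ∃ a b : K, v = ψ (pt a b) := fun v => Iff.rfl
  have hsm : ∀ (c : F) (k : K), algebraMap F K c * k = c • k := fun c k => (Algebra.smul_def c k).symm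
  let eA : (K × K) ≃ₗ[F] AF :=
    { toFun := fun c => ⟨ψ (pt c.1 c.2), c.1, c.2, rfl⟩
      invFun := fun v => (ψ.symm v.1 i0, ψ.symm v.1 i1)
      left_inv := fun c => by
        refine Prod.ext ?_ ?_
        · change ψ.symm (ψ (pt c.1 c.2)) i0 = _
          rw [LinearEquiv.symm_apply_apply, hpt0]
        · change ψ.symm (ψ (pt c.1 c.2)) i1 = _
          rw [LinearEquiv.symm_apply_apply, hpt1]
      right_inv := by
        rintro ⟨_, a, b, rfl⟩
        apply Subtype.ext
        change ψ (pt (ψ.symm (ψ (pt a b)) i0) (ψ.symm (ψ (pt a b)) i1)) = ψ (pt a b)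
        rw [LinearEquiv.symm_apply_apply, hpt0, hpt1]
      map_add' := fun c d => by
        apply Subtype.ext
        change ψ (pt (c.1 + d.1) (c.2 + d.2)) = ψ (pt c.1 c.2) + ψ (pt d.1 d.2)
        rw [← map_add, hptadd]
      map_smul' := fun a c => by
        apply Subtype.ext
        change ψ (pt (a • c.1) (a • c.2)) = a • ψ (pt c.1 c.2)
        rw [← hsm, ← hsm, ← hptsmul, map_smul, algebraMap_smul] }
  have hfdK : FiniteDimensional F K := Module.Finite.of_finite
  have hrank : finrank F AF = 2 * l := by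
    rw [← LinearEquiv.finrank_eq eA, Module.finrank_prod, hl]
    ring
  have hfamily : ∀ j, (∀ s, x j * κ s = κ s * x j) → ∃ k : K, ∀ v, f j v = k • v := fun j hj =>
    h.cent U (hfam.lft j) (hA j) hj
  obtain ⟨p, kq, hp, hcp, hqp, hkq⟩ := exists_prime_pow U.hF
  have : Fact p.Prime := ⟨hp⟩
  have hcpK : CharP K p := charP_of_injective_algebraMap (algebraMap F K).injective p
  have hrp : ∀ j, (∀ s, x j * κ s = κ s * x j) → r j ≠ p := by
    intro j hj hrj
    obtain ⟨k, hk⟩ := hfamily j hj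
    obtain ⟨b, hb⟩ := hfam.ord j
    have h1 : ∀ i : ℕ, ∀ v, (f j)^[i] v = k ^ i • v := by
      intro i
      induction i with
      | zero => intro v; rw [pow_zero, one_smul]; rfl
      | succ i ih => intro v; rw [Function.iterate_succ_apply', ih, hk, smul_smul, ← pow_succ']
    have h2 : k = 1 := by
      have hw : ψ (pt 1 0) ≠ 0 := by
        intro h0
        have h3 : pt 1 0 = 0 := by
          apply ψ.injective
          rw [h0, map_zero]
        have h4 := congrFun h3 i0
        rw [hpt0] at h4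
        exact one_ne_zero h4
      have h3 := hb (ψ (pt 1 0))
      rw [h1, hrj] at h3
      have h4 : (k ^ p ^ b - 1) • ψ (pt 1 0) = 0 := by rw [sub_smul, one_smul, h3, sub_self]
      rcases smul_eq_zero.1 h4 with h5 | h5
      · have h6 : (k - 1) ^ p ^ b = 0 := by rw [sub_pow_char_pow, one_pow]; exact h5
        exact sub_eq_zero.1 (eq_zero_of_pow_eq_zero h6)
      · exact absurd h5 hw
    apply hfam.pf.ne j
    rw [(hfam.lft j).eq_one_iff]
    exact ⟨1, fun v => by rw [hk, h2, one_smul, one_smul]⟩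
  -- the new family
  let J : Type := {j : ι // ∀ s, x j * κ s = κ s * x j}
  let x' : Option J → G := fun o => o.elim (κ a0) (fun j => x j.1)
  let f' : Option J → (Fin n → F) → (Fin n → F) := fun o => o.elim (act (h.phi a0)) (fun j => f j.1)
  let r' : Option J → ℕ := fun o => o.elim p (fun j => r j.1)
  have hnotsc : ¬ ScalOn (act (h.phi a0)) AF := by
    rintro ⟨c, hc⟩
    have h1 := hc (ψ (pt 1 t)) ⟨1, t, rfl⟩
    rw [h.act_phi', hact, he, mul_zero, zero_smul, add_zero] at h1
    have h2 : c = 1 := by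
      have h3 : (c - 1) • ψ (pt 1 t) = 0 := by rw [sub_smul, one_smul, ← h1, sub_self]
      rcases smul_eq_zero.1 h3 with h4 | h4
      · exact sub_eq_zero.1 h4
      · exfalso
        have h5 : pt 1 t = 0 := by
          apply ψ.injective
          rw [h4, map_zero]
        have h6 := congrFun h5 i0
        rw [hpt0] at h6
        exact one_ne_zero h6
    have h3 := hc (ψ (pt 1 0)) ⟨1, 0, rfl⟩
    rw [h.act_phi', hact, h2, one_smul, hherm, hpt0, one_pow, zero_mul, add_zero, mul_one, mul_one] at h3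
    have h4 := ψ.injective h3
    have h5 := congrFun h4 i0
    rw [Pi.add_apply, Pi.smul_apply, hpt0, hpt0, smul_eq_mul, mul_one] at h5
    exact hμ0 (by simpa using h5)
  have hy1 : κ a0 ≠ 1 := by
    intro h1
    have h2 : U.Lft (κ a0) (act (h.phi a0)) := U.lft_el _
    obtain ⟨c, hc⟩ := h2.eq_one_iff.1 h1
    exact hnotsc ⟨c, fun v _ => hc v⟩
  have ha0p : a0 ^ p = 1 := transv_pow_char hcK he hμ
  have hfam' : UFam U x' f' r' := by
    refine ⟨⟨?_, ?_, ?_, ?_, ?_⟩, ?_, ?_, ?_⟩
    · rintro (_ | j)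
      · exact hp
      · exact hfam.pf.prime j.1
    · rintro (_ | i) (_ | j) hij
      · rfl
      · exact absurd hij.symm (hrp j.1 j.2)
      · exact absurd hij (hrp i.1 i.2)
      · exact congrArg some (Subtype.ext (hfam.pf.inj hij))
    · rintro (_ | j)
      · change κ a0 ^ p = 1
        rw [← map_pow, ha0p, map_one]
      · exact hfam.pf.pow j.1
    · rintro (_ | j)
      · exact hy1
      · exact hfam.pf.ne j.1
    · rintro (_ | i) (_ | j)
      · rfl
      · exact (j.2 a0).symm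
      · exact i.2 a0
      · exact hfam.pf.comm i.1 j.1
    · rintro (_ | j)
      · exact U.lft_el _
      · exact hfam.lft j.1
    · rintro (_ | i) (_ | j) v
      · rfl
      · obtain ⟨k, hk⟩ := hfamily j.1 j.2
        change act (h.phi a0) (f j.1 v) = f j.1 (act (h.phi a0) v)
        rw [hk, hk, h.act_phi, h.act_phi, map_smul, act_smul, map_smul]
      · obtain ⟨k, hk⟩ := hfamily i.1 i.2
        change f i.1 (act (h.phi a0) v) = act (h.phi a0) (f i.1 v)
        rw [hk, hk, h.act_phi, h.act_phi, map_smul, act_smul, map_smul]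
      · exact hfam.comm i.1 j.1 v
    · rintro (_ | j)
      · refine ⟨1, fun v => ?_⟩
        change (act (h.phi a0))^[p ^ 1] v = v
        rw [pow_one, iterate_act, ← map_pow, ha0p, map_one, act_one]
      · exact hfam.ord j.1
  have hcov' : _root_.Cfsg.Agent.H106.RC.Cov Ω x' := by
    intro ω
    rcases hrule ω with h1 | ⟨j, hj, hjω⟩
    · exact ⟨none, h1 a0⟩
    · exact ⟨some ⟨j, hj⟩, hjω⟩
  have hfin : Finite (Option J) := inferInstance
  refine hdec U x' f' r' hfam' hcov' ⟨AF, ?_, ?_, ?_, ?_, ?_, ?_, ?_⟩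
  · -- nondegenerate
    rintro v ⟨a, b, rfl⟩ hv
    have hsurj : ∀ z : K, ∃ k : K, k ^ (q ^ l) = z := fun z => ⟨z ^ (q ^ l), pow_q_pow_q hcK z⟩
    have ha : a = 0 := by
      apply trace_unique (F := F)
      intro z
      obtain ⟨k, rfl⟩ := hsurj z
      have h1 := hv (ψ (pt k 0)) ⟨k, 0, rfl⟩
      rw [hψ, hherm, hpt0, hpt1, zero_pow_q hcK, mul_zero, add_zero] at h1
      rw [h1, zero_mul, map_zero]
    have hb : b = 0 := by
      apply trace_unique (F := F)
      intro z
      obtain ⟨k, rfl⟩ := hsurj z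
      have h1 := hv (ψ (pt 0 k)) ⟨0, k, rfl⟩
      rw [hψ, hherm, hpt0, hpt1, zero_pow_q hcK, mul_zero, zero_add] at h1
      rw [h1, zero_mul, map_zero]
    have h0 := AF.zero_mem
    have h1 : pt a b = 0 := by
      rw [ha, hb]
      change (Pi.single i0 0 + Pi.single i1 0 : Fin m → K) = 0
      rw [Pi.single_zero, Pi.single_zero, add_zero]
    rw [h1, map_zero]
  · intro htop
    rw [htop, finrank_top, Module.finrank_fin_fun, hn] at hrank
    have : 3 * l ≤ m * l := Nat.mul_le_mul_right l h3m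
    omega
  · rw [hrank]
    omega
  · rw [hrank]
    omega
  · rintro (_ | j)
    · rintro _ ⟨a, b, rfl⟩
      change act (h.phi a0) (ψ (pt a b)) ∈ AF
      rw [h.act_phi', hact, hptsmul, hptadd]
      exact ⟨_, _, rfl⟩
    · obtain ⟨k, hk⟩ := hfamily j.1 j.2
      rintro _ ⟨a, b, rfl⟩
      change f j.1 (ψ (pt a b)) ∈ AF
      rw [hk, ← map_smul, hptsmul]
      exact ⟨_, _, rfl⟩
  · rintro (_ | j) hsc
    · exact absurd hsc hnotsc
    · change (r j.1).Coprime q
      have h1 : (r j.1).Coprime (p ^ kq) :=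
        Nat.Coprime.pow_right _ ((Nat.coprime_primes (hfam.pf.prime j.1) hp).2 (hrp j.1 j.2))
      rw [← hqp] at h1
      exact h1
  · have h2l : 2 * l < n := by
      rw [hn]
      have : 3 * l ≤ m * l := Nat.mul_le_mul_right l h3m
      omega
    have key : ∀ d, d = 2 * l → RC (PSU d F q) := by
      rintro d rfl
      exact hS.1 (2 * l) (by omega) h2l (by omega)
    exact key _ hrank

end Cfsg.Agent.H398.RC
end

-- part: H993/RC/TwoBFinal
section
/-!
# S3510, box E10, case B, no hypotheses (helper993)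
-/

set_option autoImplicit false

namespace Cfsg.Agent.H993.RC

/-- **Case B of `CaseTwo`** -/
theorem two_b : TwoB :=
  twoB Cfsg.Agent.H452.RC.d_main
    (Cfsg.Agent.H398.RC.lstmt Cfsg.Agent.H452.RC.dec_main Cfsg.Agent.H906.RC.small_stmt)
    Cfsg.Agent.H906.RC.small_stmt

end Cfsg.Agent.H993.RC
end

-- part: H579/RC/CaseTwoFinal
section
/-!
# S3510, family E, box E10, final form (helper579; case B: helper993)
-/

set_option autoImplicit false

namespace Cfsg.Agent.H579.RC

/-- **E10** `CaseTwo` -/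
theorem case_two : H380.RC.CaseTwo :=
  caseTwo_of H452.RC.dec_main H452.RC.gdec_main H906.RC.small_stmt H993.RC.two_b

end Cfsg.Agent.H579.RC
end
end

-- part: H338/RC/SUData_mg
section
prune_inst 0x7054000862100000000014a00000000000000220408c000c03060002000042480008000100201b400000000000002811000020424000000e0004000004000000801004a0480000000010000000000000000000000000000000000000010000000000002
set_option linter.all false
open scoped Cfsg.Agent.FastGrp

-- part: H338/RC/SUData
section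
/-!
# S3510, triality type iii, MIXED (c) (helper338): the subgroup `SU₃` of the centraliser of `c`

`V = W ⊥ W^⊥`, `W = ker (c + c⁻¹ - τ)` of dimension 6, `W^⊥ = ker (c + c⁻¹ - τ')` of dimension 2, `c` has no
eigenvalues in `F`: the derived group of the centraliser of `c` is `SU₃(K)`, `K = F[c|W]`.
-/

set_option autoImplicit false
set_option linter.unusedSectionVars false
open Cfsg

namespace Cfsg.Agent.H338.RC.SUD

open QuadraticMap Module
open Cfsg.Agent.LieClassical.OrthCore Cfsg.Agent.LieClassical.HermBasic Cfsg.Agent.LieClassical.HermSiegel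
open Cfsg.Agent.LieClassical.OrthTrans Cfsg.Agent.ClassicalGeometry.OrthSemi Cfsg.Agent.ClassicalGeometry.OrthAut1
open Cfsg.Agent.H106.RC Cfsg.Agent.H93.RC Cfsg.Agent.H188.RC Cfsg.Agent.GenOrth Cfsg.Agent.H338.RC
open Cfsg.Agent.H510.Tri3
open scoped commutatorElement

section lin

variable {F V : Type} [Field F] [Finite F] [AddCommGroup V] [Module F V] [FiniteDimensional F V]

/-- the situation -/
structure CW (Q : QuadraticForm F V) (c : V ≃ₗ[F] V) (W : Submodule F V) (τ τ' : F) : Prop where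
  iso : c ∈ O Q
  nd : Nondeg (Q.comp W.subtype)
  ne : τ ≠ τ'
  h1 : ∀ v ∈ W, c (c v) + v = τ • c v
  h2 : ∀ v, (∀ w ∈ W, polar Q v w = 0) → c (c v) + v = τ' • c v
  h3 : ∀ v ∈ W, ∀ a : F, c v = a • v → v = 0
  h4 : ∀ v, (∀ w ∈ W, polar Q v w = 0) → ∀ a : F, c v = a • v → v = 0
  two : finrank F V = finrank F W + 2

variable {Q : QuadraticForm F V} {c : V ≃ₗ[F] V} {W : Submodule F V} {τ τ' : F}

theorem perp_sub_π (hW : Nondeg (Q.comp W.subtype)) (v : V) :
    ∀ w ∈ W, polar Q (v - (embW hW).j ((embW hW).π v)) w = 0 := by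
  intro w hw
  have h1 := (embW hW).adj ⟨w, hw⟩ v
  rw [embW_j, embW_c, one_mul] at h1
  rw [polar_comm, polar_sub_right, h1, embW_j]
  exact sub_self _

theorem π_eq_zero_iff (hW : Nondeg (Q.comp W.subtype)) (v : V) :
    (embW hW).π v = 0 ↔ ∀ w ∈ W, polar Q v w = 0 := by
  constructor
  · intro h w hw
    have h1 := perp_sub_π hW v w hw
    rwa [h, map_zero, sub_zero] at h1
  · intro h
    apply hW
    intro y
    have h1 := (embW hW).adj y v
    rw [embW_j, embW_c, one_mul] at h1
    have h2 : polar (Q.comp W.subtype) y ((embW hW).π v) = 0 := by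
      rw [← h1, polar_comm]
      exact h y y.2
    rw [polar_comm]
    exact h2

namespace CW

variable (h : CW Q c W τ τ')
include h

theorem eig_ne {v : V} (hv : c (c v) + v = τ • c v) (hv' : c (c v) + v = τ' • c v) : v = 0 := by
  have h1 : (τ - τ') • c v = 0 := by rw [sub_smul, ← hv, ← hv', sub_self]
  rcases smul_eq_zero.1 h1 with h2 | h2
  · exact (h.ne (sub_eq_zero.1 h2)).elim
  · exact (LinearEquiv.map_eq_zero_iff c).1 h2

theorem mem_iff (v : V) : v ∈ W ↔ c (c v) + v = τ • c v := by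
  refine ⟨h.h1 v, fun hv => ?_⟩
  set u : V := (embW h.nd).j ((embW h.nd).π v) with hu
  have huW : u ∈ W := ((embW h.nd).π v).2
  have hp := perp_sub_π h.nd v
  have e1 := h.h2 _ hp
  have e2 := h.h1 u huW
  have e3 : c (c (v - u)) + (v - u) = τ • c (v - u) := by
    rw [map_sub, map_sub, smul_sub, ← hv, ← e2]
    abel
  have e4 := h.eig_ne e3 e1
  rw [sub_eq_zero.1 e4]
  exact huW

theorem perp_iff (v : V) : (∀ w ∈ W, polar Q v w = 0) ↔ c (c v) + v = τ' • c v := by
  refine ⟨h.h2 v, fun hv => ?_⟩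
  set u : V := (embW h.nd).j ((embW h.nd).π v) with hu
  have huW : u ∈ W := ((embW h.nd).π v).2
  have hp := perp_sub_π h.nd v
  have e1 := h.h2 _ hp
  have e2 := h.h1 u huW
  have e3 : c (c u) + u = τ' • c u := by
    have e4 : c (c v) + v - (c (c (v - u)) + (v - u)) = τ' • c v - τ' • c (v - u) := by rw [hv, e1]
    rw [map_sub, map_sub] at e4
    have e5 : c (c u) + u = c (c v) + v - (c (c v) - c (c u) + (v - u)) := by abel
    rw [e5, e4, ← smul_sub]
    congr 1
    abel
  have e4 := h.eig_ne e2 e3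
  rw [← hu, e4, sub_zero] at hp
  exact hp

variable {a b : V ≃ₗ[F] V}

theorem map_mem (ha : ∀ v, a (c v) = c (a v)) {v : V} (hv : v ∈ W) : a v ∈ W := by
  rw [h.mem_iff] at hv ⊢
  rw [← ha, ← ha, ← map_add, ← map_smul, hv]

theorem map_perp (ha : ∀ v, a (c v) = c (a v)) {v : V} (hv : ∀ w ∈ W, polar Q v w = 0) :
    ∀ w ∈ W, polar Q (a v) w = 0 := by
  rw [h.perp_iff] at hv ⊢
  rw [← ha, ← ha, ← map_add, ← map_smul, hv]

theorem exists_coeff {p p' : V} (hp : ∀ w ∈ W, polar Q p w = 0) (hp' : ∀ w ∈ W, polar Q p' w = 0) (h0 : p ≠ 0) :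
    ∃ x y : F, p' = x • p + y • c p := by
  have hk : finrank F (LinearMap.ker (embW h.nd).π) = 2 := by
    have e1 := LinearMap.finrank_range_add_finrank_ker (embW h.nd).π
    have e2 : LinearMap.range (embW h.nd).π = ⊤ := by
      rw [LinearMap.range_eq_top]
      intro w
      exact ⟨_, (embW h.nd).π_j w⟩
    rw [e2, finrank_top, h.two] at e1
    omega
  have hpk : p ∈ LinearMap.ker (embW h.nd).π := (π_eq_zero_iff h.nd p).2 hp
  have hcp : c p ∈ LinearMap.ker (embW h.nd).π :=
    (π_eq_zero_iff h.nd _).2 (h.map_perp (fun _ => rfl) hp)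
  have hpk' : p' ∈ LinearMap.ker (embW h.nd).π := (π_eq_zero_iff h.nd p').2 hp'
  have hind : LinearIndependent F ![(⟨p, hpk⟩ : LinearMap.ker (embW h.nd).π), ⟨c p, hcp⟩] := by
    rw [LinearIndependent.pair_iff]
    intro x y hxy
    have h1 : x • p + y • c p = 0 := congrArg Subtype.val hxy
    have hy : y = 0 := by
      by_contra hy
      apply h0
      apply h.h4 p hp (-(y⁻¹ * x))
      have h2 : y • c p = -(x • p) := by
        rw [eq_neg_iff_add_eq_zero, add_comm]
        exact h1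
      calc c p = y⁻¹ • (y • c p) := by rw [inv_smul_smul₀ hy]
        _ = _ := by rw [h2, smul_neg, smul_smul, neg_smul]
    rw [hy, zero_smul, add_zero] at h1
    exact ⟨(smul_eq_zero.1 h1).resolve_right h0, hy⟩
  have hspan := hind.span_eq_top_of_card_eq_finrank' (by rw [hk]; rfl)
  have h1 : (⟨p', hpk'⟩ : LinearMap.ker (embW h.nd).π) ∈ Submodule.span F (Set.range
      ![(⟨p, hpk⟩ : LinearMap.ker (embW h.nd).π), ⟨c p, hcp⟩]) := by rw [hspan]; trivial
  rw [Matrix.range_cons, Matrix.range_cons, Matrix.range_empty, Set.union_empty, Set.singleton_union,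
    Submodule.mem_span_pair] at h1
  obtain ⟨x, y, hxy⟩ := h1
  exact ⟨x, y, (congrArg Subtype.val hxy).symm⟩

theorem comm_perp (ha : ∀ v, a (c v) = c (a v)) (hb : ∀ v, b (c v) = c (b v)) {p : V}
    (hp : ∀ w ∈ W, polar Q p w = 0) : a (b p) = b (a p) := by
  by_cases h0 : p = 0
  · rw [h0, map_zero, map_zero, map_zero]
  obtain ⟨x, y, hxy⟩ := h.exists_coeff hp (h.map_perp ha hp) h0
  obtain ⟨x', y', hxy'⟩ := h.exists_coeff hp (h.map_perp hb hp) h0
  rw [hxy', hxy, map_add, map_add, map_smul, map_smul, map_smul, map_smul, ha, hb, hxy, hxy', map_add, map_add,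
    map_smul, map_smul, map_smul, map_smul]
  module

theorem commutator_perp (ha : ∀ v, a (c v) = c (a v)) (hb : ∀ v, b (c v) = c (b v)) {p : V}
    (hp : ∀ w ∈ W, polar Q p w = 0) : (a * b * a⁻¹ * b⁻¹) p = p := by
  have ha' : ∀ v, a⁻¹ (c v) = c (a⁻¹ v) := by
    intro v
    apply a.injective
    rw [ha]
    change (a * a⁻¹) (c v) = c ((a * a⁻¹) v)
    rw [mul_inv_cancel]
    rfl
  have hb' : ∀ v, b⁻¹ (c v) = c (b⁻¹ v) := by
    intro v
    apply b.injective
    rw [hb]
    change (b * b⁻¹) (c v) = c ((b * b⁻¹) v)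
    rw [mul_inv_cancel]
    rfl
  change a (b (a⁻¹ (b⁻¹ p))) = p
  rw [h.comm_perp ha hb (h.map_perp ha' (h.map_perp hb' hp))]
  change b ((a * a⁻¹) (b⁻¹ p)) = p
  rw [mul_inv_cancel]
  change (b * b⁻¹) p = p
  rw [mul_inv_cancel]
  rfl

end CW

end lin

section herm

variable {F K V : Type} [Field F] [Finite F] [Field K] [Fintype K] [Algebra F K] [AddCommGroup V] [Module F V]
  [FiniteDimensional F V] {Q : QuadraticForm F V} {W : Submodule F V} [Module K W] [IsScalarTower F K W] {q : ℕ}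
  {m : ℕ}

/-- restriction to `W` -/
theorem exists_lin {a : V ≃ₗ[F] V} (haW : ∀ v ∈ W, a v ∈ W)
    (hlin : ∀ (k : K) (w : W), a ((k • w : W) : V) = ((k • (⟨a w, haW w w.2⟩ : W) : W) : V)) :
    ∃ A : W ≃ₗ[K] W, ∀ w : W, ((A w : W) : V) = a w := by
  have hVf : Finite V := Module.finite_of_finite F
  let f : W →ₗ[K] W :=
    { toFun := fun w => ⟨a w, haW w w.2⟩
      map_add' := fun u v => Subtype.ext (by
        change a ((u : V) + v) = _
        rw [map_add]; rfl)
      map_smul' := fun k w => Subtype.ext (hlin k w) }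
  have hinj : Function.Injective f := fun u v huv => Subtype.ext (a.injective (congrArg Subtype.val huv))
  exact ⟨LinearEquiv.ofBijective f (Finite.injective_iff_bijective.1 hinj), fun w => rfl⟩

variable (h : HK (Q.comp W.subtype) K q) {φ : W ≃ₗ[K] (Fin m → K)}
  (hφ : ∀ v w, h.hm v w = hermForm m K q (φ v) (φ w))

include hφ in
/-- elements of `SU` from isometries of determinant one -/
theorem exists_su {A : W ≃ₗ[K] W} (hA : ∀ u v, h.hm (A u) (A v) = h.hm u v) (hdet : LinearEquiv.det A = 1) :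
    ∃ s : SU m K q, ∀ v, (HK.su (F := F) φ s) v = A v := by
  let L : (Fin m → K) ≃ₗ[K] (Fin m → K) := (φ.symm.trans A).trans φ
  have hL : ∀ v, L (φ v) = φ (A v) := by
    intro v
    change φ (A (φ.symm (φ v))) = _
    rw [LinearEquiv.symm_apply_apply]
  have hd : (LinearMap.toMatrix' (L : (Fin m → K) →ₗ[K] (Fin m → K))).det = 1 := by
    rw [LinearMap.det_toMatrix']
    have h1 : LinearMap.det (L : (Fin m → K) →ₗ[K] (Fin m → K)) = LinearMap.det (A : W →ₗ[K] W) :=
      LinearMap.det_conj (A : W →ₗ[K] W) φ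
    rw [h1, ← LinearEquiv.coe_det, hdet]
    rfl
  have hv : ∀ v, (LinearMap.toMatrix' (L : (Fin m → K) →ₗ[K] (Fin m → K))).mulVec v = L v := by
    intro v
    rw [LinearMap.toMatrix'_mulVec]
    rfl
  refine ⟨mkSU _ hd ?_, ?_⟩
  · intro u v
    obtain ⟨u, rfl⟩ := φ.surjective u
    obtain ⟨v, rfl⟩ := φ.surjective v
    rw [hv, hv, hL, hL, ← hφ, ← hφ, hA]
  · intro v
    apply φ.injective
    rw [HK.phi_su, ← hL]
    exact hv _

theorem hm_iso {a : V ≃ₗ[F] V} (ha : a ∈ O Q) {A : W ≃ₗ[K] W} (hA : ∀ w : W, ((A w : W) : V) = a w) (u v : W) :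
    h.hm (A u) (A v) = h.hm u v := by
  have hp : ∀ u v : W, polar (Q.comp W.subtype) (A u) (A v) = polar (Q.comp W.subtype) u v := by
    intro u v
    change Q (((A u + A v : W)) : V) - Q ((A u : W) : V) - Q ((A v : W) : V) = Q ((u + v : W) : V) - Q (u : V) - Q (v : V)
    rw [← map_add, hA, hA, hA, ha, ha, ha]
  rw [HK.hm_def, HK.hm_def, ← map_smul A, hp, hp]

include h in
/-- an element of order three -/
theorem exists_three : ∃ s : SU 3 K q, s ^ 3 = 1 ∧ s ≠ 1 := by
  let M : Matrix (Fin 3) (Fin 3) K := !![0, 1, 0; 0, 0, 1; 1, 0, 0]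
  have hM : ∀ v, M.mulVec v = ![v 1, v 2, v 0] := by
    intro v
    funext i
    (revert i; simp only [M, Matrix.mulVec, dotProduct, Fin.sum_univ_three, _root_.Fin.forall_fin_succ, _root_.Matrix.of_apply, _root_.Matrix.cons_val', _root_.Matrix.cons_val_fin_one, Fin.isValue, _root_.Matrix.cons_val_zero, _root_.Matrix.cons_val_one, _root_.Matrix.cons_val, _root_.Nat.succ_eq_add_one, Nat.reduceAdd, _root_.MulZeroClass.zero_mul, _root_.one_mul, _root_.zero_add, _root_.add_zero, _root_.Matrix.cons_val_succ, _root_.implies_true, _root_.and_self])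
  have hd : M.det = 1 := by
    rw [Matrix.det_fin_three]
    simp [M]
  have hf : ∀ u v, hermForm 3 K q (M.mulVec u) (M.mulVec v) = hermForm 3 K q u v := by
    intro u v
    rw [hM, hM, herm_def, herm_def, Fin.sum_univ_three, Fin.sum_univ_three]
    simp only [_root_.Nat.succ_eq_add_one, _root_.Nat.reduceAdd, _root_.Fin.isValue, _root_.Matrix.cons_val_zero, _root_.Matrix.cons_val_one, _root_.Matrix.cons_val]
    ring
  refine ⟨mkSU M hd hf, ?_, ?_⟩
  · apply ext_act
    intro v
    rw [pow_three, act_mul, act_mul, act_one]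
    change M.mulVec (M.mulVec (M.mulVec v)) = v
    rw [hM, hM, hM]
    funext i
    fin_cases i <;> rfl
  · intro h1
    have h2 := congrArg (fun s : SU 3 K q => act s ![1, 0, 0] 0) h1
    change M.mulVec ![1, 0, 0] 0 = act 1 ![1, 0, 0] 0 at h2
    rw [hM, act_one] at h2
    exact zero_ne_one h2

variable (hG : Good Q) (hperf : commutator (SU m K q) = ⊤)

/-- the one-parameter group of unitary transvections -/
theorem exists_one (hW4 : 5 ≤ finrank F W) :
    ∃ Y : V →ₗ[F] V, Y ≠ 0 ∧ ∀ t : F, ∃ s, ∀ v, ((suW h hG hφ hperf s : ↥(E Q)) : V ≃ₗ[F] V) v = v + t • Y v := by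
  obtain ⟨e, he, he0⟩ : ∃ e : W, Q.comp W.subtype e = 0 ∧ e ≠ 0 := by
    obtain ⟨w, hw, hw0, hws⟩ := LieClassical.OrthFinite.exists_sing_mem (Q := Q) W (by omega)
    exact ⟨⟨w, hw⟩, hws, fun h0 => hw0 (congrArg Subtype.val h0)⟩
  set θ : K := h.th - h.th ^ q with hθ
  have hθ0 : θ ≠ 0 := h.sub_ne
  let Y : V →ₗ[F] V :=
    { toFun := fun v => ((((θ * h.hm ((embW h.nondeg).π v) e) • e : W)) : V)
      map_add' := fun u v => by
        rw [map_add, h.hm_add_left, mul_add, add_smul]
        rfl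
      map_smul' := fun t v => by
        rw [map_smul, h.hm_base_left, mul_left_comm, mul_smul, algebraMap_smul]
        rfl }
  have hY : ∀ v, Y v = ((((θ * h.hm ((embW h.nondeg).π v) e) • e : W)) : V) := fun v => rfl
  refine ⟨Y, ?_, ?_⟩
  · intro h0
    obtain ⟨w, hw⟩ : ∃ w, h.hm w e ≠ 0 := by
      by_contra hcon
      push Not at hcon
      apply he0
      apply h.nondeg
      intro w
      apply (algebraMap F K).injective
      rw [QuadraticMap.polar_comm, ← h.hm_trace, hcon, zero_pow h.q_ne, add_zero, map_zero]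
    have h1 := congrArg (fun f : V →ₗ[F] V => f ((embW h.nondeg).j w)) h0
    change Y _ = 0 at h1
    rw [hY, Emb.π_j] at h1
    have h2 : (θ * h.hm w e) • e = 0 := Subtype.ext h1
    rcases smul_eq_zero.1 h2 with h3 | h3
    · exact mul_ne_zero hθ0 hw h3
    · exact he0 h3
  · intro t
    have hs : IsSiegel q (φ e) 0 (algebraMap F K t * θ) := by
      refine ⟨?_, ?_, ?_⟩
      · rw [← hφ, h.hm_self, he, map_zero]
      · rw [herm_zero_left]
      · rw [herm_zero_left, mul_pow, h.base, hθ, sub_pow_q h.card, pow_q_pow_q h.card]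
        ring
    refine ⟨Cfsg.Agent.LieClassical.HermSiegel.siegel h.card (φ e) 0 (algebraMap F K t * θ) hs, fun v => ?_⟩
    have h1 : ∀ w : W, (HK.su (F := F) φ (Cfsg.Agent.LieClassical.HermSiegel.siegel h.card (φ e) 0
        (algebraMap F K t * θ) hs)) w = w + t • ((θ * h.hm w e) • e) := by
      intro w
      apply φ.injective
      rw [HK.phi_su, act_siegel, ← hφ, smul_zero, add_zero, herm_zero_right h.card, sub_zero, map_add,
        ← algebraMap_smul K t, map_smul, map_smul, smul_smul, mul_assoc]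
    rw [suW_coe, Emb.ext_apply, h1, add_sub_cancel_left, hY]
    rfl

/-- conjugation by `c` -/
theorem suW_comm {c : V ≃ₗ[F] V} (hG : Good Q) (hperf : commutator (SU m K q) = ⊤)
    (hcO : c ∈ O Q) (hcW : ∀ v ∈ W, c v ∈ W) (α : K) (hα : ∀ w : W, ((α • w : W) : V) = c w) (s : SU m K q) (v : V) :
    ((suW h hG hφ hperf s : ↥(E Q)) : V ≃ₗ[F] V) (c v) = c (((suW h hG hφ hperf s : ↥(E Q)) : V ≃ₗ[F] V) v) := by
  have hVf : Finite V := Module.finite_of_finite F
  have hc : IsSS Q (RingEquiv.refl F) 1 (c.toEquiv) :=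
    ⟨one_ne_zero, fun u v => map_add c u v, fun a v => map_smul c a v, fun v => by
      rw [one_mul]; exact hcO v⟩
  obtain ⟨L, hL, hLc⟩ := exists_restr (W := W) hc hcW
  have hπ := π_restr h.nondeg hc hL hLc v
  have hLα : ∀ w, L w = α • w := by
    intro w
    apply Subtype.ext
    rw [hLc, hα]
    rfl
  have hπ' : (embW h.nondeg).π (c v) = α • (embW h.nondeg).π v := by
    rw [← hLα]
    exact hπ
  rw [suW_coe, Emb.ext_apply, Emb.ext_apply, hπ', HK.su_smul, ← smul_sub, map_add]
  congr 1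
  rw [embW_j, embW_j]
  exact hα _

end herm

section main

variable {F V : Type} [Field F] [Finite F] [AddCommGroup V] [Module F V] [FiniteDimensional F V]
  {Q : QuadraticForm F V} {c : V ≃ₗ[F] V} {W : Submodule F V} {τ τ' : F}

theorem inv_comm {a : V ≃ₗ[F] V} (ha : ∀ v, a (c v) = c (a v)) (v : V) : a⁻¹ (c v) = c (a⁻¹ v) := by
  apply a.injective
  rw [ha]
  change (a * a⁻¹) (c v) = c ((a * a⁻¹) v)
  rw [mul_inv_cancel]
  rfl

/-- the group `SU₃` in the centraliser of `c` -/
theorem su3_data (hG : Good Q) (h : CW Q c W τ τ') (h6 : finrank F W = 6) (hq2 : Nat.card F ≠ 2) :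
    ∃ (K : Type) (_ : Field K) (_ : Fintype K) (φ : SU 3 K (Nat.card F) →* ↥(E Q)),
      Fintype.card K = Nat.card F ^ 2 ∧ Function.Injective φ ∧
      (∀ s v, ((φ s : ↥(E Q)) : V ≃ₗ[F] V) (c v) = c (((φ s : ↥(E Q)) : V ≃ₗ[F] V) v)) ∧
      (∀ a b : ↥(E Q), (∀ v, (a : V ≃ₗ[F] V) (c v) = c ((a : V ≃ₗ[F] V) v)) →
        (∀ v, (b : V ≃ₗ[F] V) (c v) = c ((b : V ≃ₗ[F] V) v)) → ⁅a, b⁆ ∈ φ.range) ∧
      (∃ Y : V →ₗ[F] V, Y ≠ 0 ∧ ∀ t : F, ∃ s, ∀ v, ((φ s : ↥(E Q)) : V ≃ₗ[F] V) v = v + t • Y v) ∧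
      commutator (SU 3 K (Nat.card F)) = ⊤ ∧ IsSimpleGroup (PSU 3 K (Nat.card F)) ∧
      ¬ IsMulCommutative (PSU 3 K (Nat.card F)) ∧ Cl (PSU 3 K (Nat.card F)) ∧ ¬ Exc (PSU 3 K (Nat.card F)) ∧
      ∃ s : SU 3 K (Nat.card F), s ^ 3 = 1 ∧ s ≠ 1 := by
  have hcW : ∀ v ∈ W, c v ∈ W := fun v hv => h.map_mem (fun _ => rfl) hv
  let k : W →ₗ[F] W := ((c : V ≃ₗ[F] V) : V →ₗ[F] V).restrict hcW
  have hk : ∀ w : W, ((k w : W) : V) = c w := fun w => rfl
  have hkk : ∀ v, k (k v) = τ • k v - (1 : F) • v := by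
    intro v
    apply Subtype.ext
    have h1 := h.h1 v v.2
    change c (c v) = τ • c v - (1 : F) • (v : V)
    rw [one_smul, ← h1, add_sub_cancel_right]
  have hirr : ∀ a : F, a * a - τ * a + 1 ≠ 0 := by
    intro a ha
    have : Nontrivial W := Module.nontrivial_of_finrank_pos (R := F) (by omega)
    obtain ⟨w, hw⟩ := exists_ne (0 : W)
    have ha0 : a ≠ 0 := by
      rintro rfl
      simp at ha
    have hta : τ = a + a⁻¹ := by
      field_simp
      linear_combination -ha
    have h1 : k (k w - a⁻¹ • w) = a • (k w - a⁻¹ • w) := by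
      rw [map_sub, map_smul, hkk, hta]
      rw [smul_sub, smul_smul, mul_inv_cancel₀ ha0]
      module
    have h2 := h.h3 _ (k w - a⁻¹ • w).2 a (congrArg Subtype.val h1)
    have h3 : k w = a⁻¹ • w := sub_eq_zero.1 (Subtype.ext h2)
    have h4 := h.h3 _ w.2 a⁻¹ (congrArg Subtype.val h3)
    exact hw (Subtype.ext h4)
  have hQk : ∀ v, (Q.comp W.subtype) (k v) = 1 * (Q.comp W.subtype) v := by
    intro v
    rw [one_mul]
    exact h.iso v
  obtain ⟨K, _, _, _, _, _, α, hHK, hα, hFK, hdec⟩ := exists_HK h.nd k τ 1 hkk hirr hQk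
  have h3 : finrank K W = 3 := by
    have h1 := Module.finrank_mul_finrank F K W
    rw [hFK, h6] at h1
    omega
  have hKW : FiniteDimensional K W := Module.finite_of_finrank_pos (by omega)
  obtain ⟨φ, hφ⟩ : ∃ φ : W ≃ₗ[K] (Fin 3 → K), ∀ v w, hHK.hm v w = hermForm 3 K (Nat.card F) (φ v) (φ w) := by
    have h4 := hHK.exists_phi
    rw [h3] at h4
    exact h4
  have hperf : commutator (SU 3 K (Nat.card F)) = ⊤ :=
    Cfsg.Agent.LieClassical.HermPerfect.commutator_SU_eq_top hHK.card le_rfl (fun h => hq2 h.2)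
  have hS : IsSimpleGroup (PSU 3 K (Nat.card F)) :=
    Cfsg.Agent.LieClassical.HermSimple.isSimpleGroup_of_perfect hHK.card le_rfl hperf
  have hSn : ¬ IsMulCommutative (PSU 3 K (Nat.card F)) :=
    not_comm_of_perf' hperf (QuotientGroup.mk' _) (QuotientGroup.mk'_surjective _) hS
  refine ⟨K, inferInstance, inferInstance, suW hHK hG hφ hperf, hHK.card, suW_inj hHK hG hφ hperf, ?_, ?_,
    exists_one hHK hφ hG hperf (by omega), hperf, hS, hSn, ?_, psu_not_exc hHK.card le_rfl (fun h => hq2 h.2),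
    exists_three hHK⟩
  · intro s v
    exact suW_comm hHK hφ hG hperf h.iso hcW α (fun w => by rw [hα, hk]) s v
  · intro a b ha hb
    -- the restrictions
    have key : ∀ a : ↥(E Q), (∀ v, (a : V ≃ₗ[F] V) (c v) = c ((a : V ≃ₗ[F] V) v)) →
        ∃ A : W ≃ₗ[K] W, ∀ w : W, ((A w : W) : V) = (a : V ≃ₗ[F] V) w := by
      intro a ha
      have haW : ∀ v ∈ W, (a : V ≃ₗ[F] V) v ∈ W := fun v hv => h.map_mem ha hv
      refine exists_lin haW fun x w => ?_
      obtain ⟨u, d, rfl⟩ := hdec x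
      have h1 : ∀ w : W, ((((algebraMap F K u + algebraMap F K d * α) • w : W)) : V) = u • (w : V) + d • c w := by
        intro w
        rw [add_smul, mul_smul, algebraMap_smul, algebraMap_smul, hα]
        rfl
      rw [h1, h1, map_add, map_smul, map_smul, ha]
    obtain ⟨A, hA⟩ := key a ha
    obtain ⟨B, hB⟩ := key b hb
    have hinv : ∀ {a : ↥(E Q)} {A : W ≃ₗ[K] W}, (∀ w : W, ((A w : W) : V) = (a : V ≃ₗ[F] V) w) →
        ∀ w : W, ((A⁻¹ w : W) : V) = ((a : V ≃ₗ[F] V)⁻¹) w := by
      intro a A hA w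
      apply (a : V ≃ₗ[F] V).injective
      rw [← hA]
      change (((A * A⁻¹) w : W) : V) = ((a : V ≃ₗ[F] V) * (a : V ≃ₗ[F] V)⁻¹) w
      rw [mul_inv_cancel, mul_inv_cancel]
      rfl
    have hAB : ∀ w : W, (((A * B * A⁻¹ * B⁻¹) w : W) : V) =
        ((a : V ≃ₗ[F] V) * (b : V ≃ₗ[F] V) * (a : V ≃ₗ[F] V)⁻¹ * (b : V ≃ₗ[F] V)⁻¹) w := by
      intro w
      change ((A (B (A⁻¹ (B⁻¹ w))) : W) : V) = (a : V ≃ₗ[F] V) ((b : V ≃ₗ[F] V) ((a : V ≃ₗ[F] V)⁻¹ ((b : V ≃ₗ[F] V)⁻¹ w)))
      rw [hA, hB, hinv hA, hinv hB]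
    have hO : (a : V ≃ₗ[F] V) * (b : V ≃ₗ[F] V) * (a : V ≃ₗ[F] V)⁻¹ * (b : V ≃ₗ[F] V)⁻¹ ∈ O Q :=
      (O Q).mul_mem ((O Q).mul_mem ((O Q).mul_mem (E_le_O a.2) (E_le_O b.2)) ((O Q).inv_mem (E_le_O a.2)))
        ((O Q).inv_mem (E_le_O b.2))
    have hdet : LinearEquiv.det (A * B * A⁻¹ * B⁻¹) = 1 := by
      rw [map_mul, map_mul, map_mul, map_inv, map_inv]
      rw [mul_right_comm (LinearEquiv.det A) (LinearEquiv.det B), mul_inv_cancel, one_mul, mul_inv_cancel]
    obtain ⟨s, hs⟩ := exists_su hHK hφ (hm_iso hHK hO hAB) hdet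
    refine ⟨s, ?_⟩
    apply Subtype.ext
    apply LinearEquiv.ext
    intro v
    rw [suW_coe, Emb.ext_apply, hs, map_sub, embW_j, hAB, commutatorElement_def]
    change v + (((a : V ≃ₗ[F] V) * (b : V ≃ₗ[F] V) * (a : V ≃ₗ[F] V)⁻¹ * (b : V ≃ₗ[F] V)⁻¹)
      ((embW hHK.nondeg).π v : W) - (embW hHK.nondeg).j ((embW hHK.nondeg).π v)) =
      ((a : V ≃ₗ[F] V) * (b : V ≃ₗ[F] V) * (a : V ≃ₗ[F] V)⁻¹ * (b : V ≃ₗ[F] V)⁻¹) v
    have h1 := h.commutator_perp ha hb (perp_sub_π hHK.nondeg v)
    rw [map_sub] at h1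
    have h2 : ((a : V ≃ₗ[F] V) * (b : V ≃ₗ[F] V) * (a : V ≃ₗ[F] V)⁻¹ * (b : V ≃ₗ[F] V)⁻¹) v =
        v - (embW hHK.nondeg).j ((embW hHK.nondeg).π v) +
          ((a : V ≃ₗ[F] V) * (b : V ≃ₗ[F] V) * (a : V ≃ₗ[F] V)⁻¹ * (b : V ≃ₗ[F] V)⁻¹)
            ((embW hHK.nondeg).j ((embW hHK.nondeg).π v)) := by
      rw [← h1, sub_add_cancel]
    rw [h2, embW_j]
    abel
  · right; right; left
    exact ⟨K, inferInstance, inferInstance, 3, Nat.card F, hHK.card, le_rfl, fun h => hq2 h.2, ⟨MulEquiv.refl _⟩⟩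

end main

end Cfsg.Agent.H338.RC.SUD
end

-- part: H499/Tri/OneParam
section
/-!
# S3510, triality type iii (helper499): one-parameter groups

`no_one_param` : in the environment `T3` (all `r i ≠ p`) no `M ≠ 0`, `M² = 0`, commuting with all `g i`, has all
`1 + t M`, `t ∈ F`, in `E Q`.  By (KL) with `l = p` a conjugate of this group consists of automorphisms of the twisted
product, and the independence of the characters `1, s, s⁻¹, s s⁻¹` gives `M = 0`.
-/

set_option autoImplicit false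
open Cfsg

namespace Cfsg.Agent.H499.Tri

open Module QuadraticMap MulAction
open Cfsg.Agent.LieClassical.OrthCore Cfsg.Agent.LieClassical.OrthTrans
open Cfsg.Agent.LieClassical.OrthSimple Cfsg.Agent.ClassicalGeometry.OrthSemi
open Cfsg.Agent.ClassicalGeometry.OrthAut1 Cfsg.Agent.H106.RC Cfsg.Agent.H93.RC Cfsg.Agent.H566.RC
open Cfsg.Agent.LieClassical.QuadForms Cfsg.Agent.ClassicalGeometry.TrialityOct
open Cfsg.Agent.ClassicalGeometry.Triality Cfsg.Agent.ClassicalGeometry.TrialitySpaces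
open Cfsg.Agent.H198.TriBase Cfsg.Agent.H198.TriAut Cfsg.Agent.H198.TriDia
open Cfsg.Agent.H206.Balance hiding Good
open Cfsg.Agent.H864.RC Cfsg.Agent.H579.RC

variable {F : Type} [Field F] {G Ω ι : Type} [Group G] [MulAction G Ω] {N : Subgroup G}

/-! ### The family with the member `x₁` -/

section T3

variable {hG : Good (plusForm 4 F)} {κ : P8 F →* G} {s : F ≃+* F} {x₁ : G} {x : ι → G} {r : ι → ℕ}
  {g : ι → (V8 F ≃ₗ[F] V8 F)}

end T3

/-! ### The twisted product -/

section dia

variable (s : F ≃+* F)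

theorem dia_add_left (u u' w : V8 F) : dia (fG s) (u + u') w = dia (fG s) u w + dia (fG s) u' w := by
  have e1 : oconj (u + u') = oconj u + oconj u' := by coord8
  have e2 : (fG s)⁻¹.1 (oconj u + oconj u') = (fG s)⁻¹.1 (oconj u) + (fG s)⁻¹.1 (oconj u') := by
    funext i
    exact map_add s.symm _ _
  rw [dia, e1, e2, add_omul]
  rfl

theorem dia_add_right (u w w' : V8 F) : dia (fG s) u (w + w') = dia (fG s) u w + dia (fG s) u w' := by
  have e1 : oconj (w + w') = oconj w + oconj w' := by coord8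
  have e2 : (fG s).1 (oconj w + oconj w') = (fG s).1 (oconj w) + (fG s).1 (oconj w') := by
    funext i
    exact map_add s _ _
  rw [dia, e1, e2, omul_add]
  rfl

theorem dia_smul_left (a : F) (u w : V8 F) : dia (fG s) (a • u) w = s.symm a • dia (fG s) u w := by
  have e1 : oconj (a • u) = a • oconj u := by coord8
  have e2 : (fG s)⁻¹.1 (a • oconj u) = s.symm a • (fG s)⁻¹.1 (oconj u) := by
    funext i
    exact map_mul s.symm _ _
  rw [dia, e1, e2, smul_omul]
  rfl

theorem dia_smul_right (a : F) (u w : V8 F) : dia (fG s) u (a • w) = s a • dia (fG s) u w := by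
  have e1 : oconj (a • w) = a • oconj w := by coord8
  have e2 : (fG s).1 (a • oconj w) = s a • (fG s).1 (oconj w) := by
    funext i
    exact map_mul s _ _
  rw [dia, e1, e2, omul_smul]
  rfl

/-- every vector is a product -/
theorem exists_dia (z : V8 F) : ∃ u w, dia (fG s) u w = z := by
  refine ⟨oconj ((fG s).1 (one8 F)), oconj ((fG s)⁻¹.1 z), ?_⟩
  have e1 : (fG s)⁻¹.1 ((fG s).1 (one8 F)) = one8 F := (fG s).1.symm_apply_apply _
  have e2 : (fG s).1 ((fG s)⁻¹.1 z) = z := (fG s).1.apply_symm_apply _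
  rw [dia, oconj_oconj, oconj_oconj, e1, e2, one_omul]

variable {s}

/-- independence of the characters `1`, `s⁻¹`, `s`, `s⁻¹ s` -/
theorem char_ind (hs : ∀ a, s (s (s a)) = a) (h1 : s ≠ RingEquiv.refl F) {a b c d : F}
    (h : ∀ t : F, t * a = s.symm t * b + s t * c + s.symm t * s t * d) : a = 0 := by
  classical
  have hne : ∃ t, s t ≠ t := by
    by_contra hno
    push Not at hno
    exact h1 (RingEquiv.ext hno)
  let f₀ : F →* F := MonoidHom.id F
  let f₁ : F →* F := (s.symm : F →* F)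
  let f₂ : F →* F := (s : F →* F)
  let f₃ : F →* F := f₁ * f₂
  have h01 : f₁ ≠ f₀ := by
    intro e
    obtain ⟨t, ht⟩ := hne
    apply ht
    have e1 : s.symm (s t) = s t := DFunLike.congr_fun e (s t)
    rw [RingEquiv.symm_apply_apply] at e1
    exact e1.symm
  have h02 : f₂ ≠ f₀ := by
    intro e
    obtain ⟨t, ht⟩ := hne
    exact ht (DFunLike.congr_fun e t)
  have h03 : f₃ ≠ f₀ := by
    intro e
    have e0 : ∀ t, s.symm t * s t = t := fun t => DFunLike.congr_fun e t
    have e1 : ∀ t, s.symm t = s (s t) := fun t => by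
      rw [RingEquiv.symm_apply_eq]; exact (hs t).symm
    obtain ⟨t, ht⟩ := hne
    have ht0 : t ≠ 0 := by rintro rfl; exact ht (map_zero s)
    have hst0 : s t ≠ 0 := (map_ne_zero s).2 ht0
    have e2 := e0 t
    have e3 := e0 (s t)
    rw [RingEquiv.symm_apply_apply] at e3
    -- `s⁻¹ t * s t = t`, `t * s (s t) = s t`
    rw [e1] at e2
    have e4 : t * t = s t * s t := by
      calc t * t = t * (s (s t) * s t) := by rw [e2]
        _ = (t * s (s t)) * s t := by ring
        _ = s t * s t := by rw [e3]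
    have e5 : (t - s t) * (t + s t) = 0 := by ring_nf; rw [pow_two, pow_two, e4]; ring
    rcases mul_eq_zero.1 e5 with e6 | e6
    · exact ht (sub_eq_zero.1 e6).symm
    · -- `s t = - t`, so `s (s (s t)) = - t = t`
      have e7 : s t = -t := by rw [eq_neg_iff_add_eq_zero, add_comm]; exact e6
      have e8 := hs t
      rw [e7, map_neg, e7, map_neg, map_neg, e7, neg_neg] at e8
      exact ht (e7.trans e8)
  have hli := linearIndependent_monoidHom F F
  rw [linearIndependent_iff] at hli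
  have key := hli (Finsupp.single f₀ a - Finsupp.single f₁ b - Finsupp.single f₂ c - Finsupp.single f₃ d) (by
    rw [map_sub, map_sub, map_sub, Finsupp.linearCombination_single, Finsupp.linearCombination_single,
      Finsupp.linearCombination_single, Finsupp.linearCombination_single]
    funext t
    have h2 := h t
    change a * t - b * s.symm t - c * s t - d * (s.symm t * s t) = 0
    rw [mul_comm a t, h2]
    ring)
  have h3 := DFunLike.congr_fun key f₀
  rw [Finsupp.sub_apply, Finsupp.sub_apply, Finsupp.sub_apply, Finsupp.single_eq_same, Finsupp.single_eq_of_ne h01.symm,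
    Finsupp.single_eq_of_ne h02.symm, Finsupp.single_eq_of_ne h03.symm, Finsupp.zero_apply] at h3
  simpa using h3

/-- if all `1 + t M` are automorphisms of the twisted product, then `M = 0` -/
theorem eq_zero_of_aut (hs : ∀ a, s (s (s a)) = a) (h1 : s ≠ RingEquiv.refl F) {M : V8 F →ₗ[F] V8 F}
    (h : ∀ (t : F) (u w : V8 F), dia (fG s) u w + t • M (dia (fG s) u w) =
      dia (fG s) (u + t • M u) (w + t • M w)) : M = 0 := by
  apply LinearMap.ext
  intro z
  obtain ⟨u, w, rfl⟩ := exists_dia s z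
  funext k
  change M (dia (fG s) u w) k = 0
  apply char_ind hs h1 (b := dia (fG s) (M u) w k) (c := dia (fG s) u (M w) k) (d := dia (fG s) (M u) (M w) k)
  intro t
  have h2 := congrFun (h t u w) k
  rw [dia_add_left, dia_add_right, dia_add_right, dia_smul_left, dia_smul_right, dia_smul_left, dia_smul_right] at h2
  simp only [Pi.add_apply, Pi.smul_apply, smul_eq_mul] at h2
  linear_combination h2

end dia

/-! ### The one-parameter group -/

end Cfsg.Agent.H499.Tri
end

-- part: H499/RC/ZU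
section
/-!
# S3510, triality type iii (helper499): boxes ZU1, ZU2

One-parameter families `1 + t X`, `1 + t X + t² Y` of automorphisms of the twisted product `dia (fG s)` are trivial.
-/

set_option autoImplicit false
open Cfsg

namespace Cfsg.Agent.H499.RC

open Module QuadraticMap MulAction Polynomial
open Cfsg.Agent.LieClassical.OrthCore Cfsg.Agent.LieClassical.OrthTrans
open Cfsg.Agent.LieClassical.OrthSimple Cfsg.Agent.ClassicalGeometry.OrthSemi
open Cfsg.Agent.ClassicalGeometry.OrthAut1 Cfsg.Agent.H106.RC Cfsg.Agent.H93.RC Cfsg.Agent.H566.RC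
open Cfsg.Agent.LieClassical.QuadForms Cfsg.Agent.ClassicalGeometry.TrialityOct
open Cfsg.Agent.ClassicalGeometry.Triality Cfsg.Agent.ClassicalGeometry.TrialitySpaces
open Cfsg.Agent.H198.TriBase Cfsg.Agent.H198.TriAut Cfsg.Agent.H198.TriDia
open Cfsg.Agent.H206.Balance hiding Good
open Cfsg.Agent.H864.RC Cfsg.Agent.H579.RC Cfsg.Agent.H499.Tri

variable {F : Type} [Field F]

/-- type I -/
theorem ZU1 [Finite F] {s : F ≃+* F} (h3 : ∀ a, s (s (s a)) = a) (hne : s ≠ RingEquiv.refl F)
    (X : V8 F →ₗ[F] V8 F) (c : F → (V8 F ≃ₗ[F] V8 F)) (hc : ∀ t, c t ∈ AutD (fG s))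
    (hX : ∀ t v, c t v = v + t • X v) : X = 0 := by
  refine eq_zero_of_aut h3 hne fun t u w => ?_
  have h := (hc t).2 u w
  rwa [hX, hX, hX] at h

/-! ### Lines -/

theorem omul_sing {z : V8 F} (hz : z ≠ 0) (f : V8 F → V8 F → V8 F)
    (hadd : ∀ a b, f (a + b) z = f a z + f b z)
    (hf : ∀ a, f (oconj a) (f a z) = plusForm 4 F a • z) (hsm : ∀ a (k : F) , f a (k • z) = k • f a z)
    (hneg : ∀ a, f (-a) z = - f a z) (hl : ∀ a, ∃ k : F, f a z = k • z) : False := by
  have key : ∀ a : V8 F, oconj a = -a → plusForm 4 F a = 0 → f a z = 0 := by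
    intro a ha hQ
    obtain ⟨k, hk⟩ := hl a
    have h1 := hf a
    rw [ha, hk, hsm, hneg, hk, hQ, zero_smul, smul_neg, neg_eq_zero, smul_smul] at h1
    rcases smul_eq_zero.1 h1 with h2 | h2
    · rw [hk, mul_self_eq_zero.1 h2, zero_smul]
    · exact (hz h2).elim
  let a : V8 F := Sum.elim ![0, 1, 0, 0] ![0, 0, 0, 0]
  let b : V8 F := Sum.elim ![0, 0, 0, 0] ![0, 1, 0, 0]
  have ha : oconj a = -a := by
    apply ext8 <;> simp [a, oconj_l0, oconj_l1, oconj_l2, oconj_l3, oconj_r0, oconj_r1, oconj_r2, oconj_r3]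
  have hb : oconj b = -b := by
    apply ext8 <;> simp [b, oconj_l0, oconj_l1, oconj_l2, oconj_l3, oconj_r0, oconj_r1, oconj_r2, oconj_r3]
  have hQa : plusForm 4 F a = 0 := by rw [norm8]; simp [a]
  have hQb : plusForm 4 F b = 0 := by rw [norm8]; simp [b]
  have hQ : plusForm 4 F (a + b) = 1 := by rw [norm8]; simp [a, b]
  have h1 := hf (a + b)
  rw [hadd, key a ha hQa, key b hb hQb, add_zero, hQ, one_smul] at h1
  have h0 : f (oconj (a + b)) 0 = 0 := by
    have := hsm (oconj (a + b)) 0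
    rwa [zero_smul, zero_smul] at this
  rw [h0] at h1
  exact hz h1.symm

/-- the products `a z` do not lie on a line -/
theorem line_left {z y : V8 F} (hz : z ≠ 0) (h : ∀ a, ∃ k : F, omul a z = k • y) : False := by
  obtain ⟨k, hk⟩ := h (one8 F)
  rw [one_omul] at hk
  have hk0 : k ≠ 0 := by rintro rfl; exact hz (by rw [hk, zero_smul])
  refine omul_sing hz (fun a w => omul a w) (fun a b => add_omul a b z) (fun a => oconj_omul_omul a z)
    (fun a k => omul_smul k a z) (fun a => by coord8) fun a => ?_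
  obtain ⟨m, hm⟩ := h a
  refine ⟨m * k⁻¹, ?_⟩
  change omul a z = _
  rw [hm]
  conv_rhs => rw [hk]
  rw [smul_smul, mul_assoc, inv_mul_cancel₀ hk0, mul_one]

/-- the products `z a` do not lie on a line -/
theorem line_right {z y : V8 F} (hz : z ≠ 0) (h : ∀ a, ∃ k : F, omul z a = k • y) : False := by
  obtain ⟨k, hk⟩ := h (one8 F)
  rw [omul_one] at hk
  have hk0 : k ≠ 0 := by rintro rfl; exact hz (by rw [hk, zero_smul])
  refine omul_sing hz (fun a w => omul w a) (fun a b => omul_add z a b) (fun a => omul_omul_oconj a z)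
    (fun a k => smul_omul k z a) (fun a => by coord8) fun a => ?_
  obtain ⟨m, hm⟩ := h a
  refine ⟨m * k⁻¹, ?_⟩
  change omul z a = _
  rw [hm]
  conv_rhs => rw [hk]
  rw [smul_smul, mul_assoc, inv_mul_cancel₀ hk0, mul_one]

theorem oconj_ne {z : V8 F} (hz : z ≠ 0) : oconj z ≠ 0 := by
  intro h
  apply hz
  rw [← oconj_oconj z, h]
  apply ext8 <;> simp only [oconj_l0, oconj_l1, oconj_l2, oconj_l3, oconj_r0, oconj_r1, oconj_r2, oconj_r3, _root_.Fin.isValue, _root_.Pi.zero_apply, _root_.neg_zero]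

/-- the products `v ⋄ z` do not lie on a line -/
theorem dia_line_left {s : F ≃+* F} {z y : V8 F} (hz : z ≠ 0) (h : ∀ v, ∃ k : F, dia (fG s) v z = k • y) : False := by
  have hz' : (fG s).1 (oconj z) ≠ 0 := by
    intro h0
    apply oconj_ne hz
    funext i
    exact (map_eq_zero s).1 (congrFun h0 i)
  refine line_left hz' (y := y) fun a => ?_
  obtain ⟨k, hk⟩ := h (oconj ((fG s).1 a))
  refine ⟨k, ?_⟩
  rw [dia, oconj_oconj] at hk
  have e1 : (fG s)⁻¹.1 ((fG s).1 a) = a := (fG s).1.symm_apply_apply _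
  rwa [e1] at hk

/-- the products `z ⋄ v` do not lie on a line -/
theorem dia_line_right {s : F ≃+* F} {z y : V8 F} (hz : z ≠ 0) (h : ∀ v, ∃ k : F, dia (fG s) z v = k • y) : False := by
  have hz' : (fG s)⁻¹.1 (oconj z) ≠ 0 := by
    intro h0
    apply oconj_ne hz
    funext i
    exact (map_eq_zero s.symm).1 (congrFun h0 i)
  refine line_right hz' (y := y) fun a => ?_
  obtain ⟨k, hk⟩ := h (oconj ((fG s)⁻¹.1 a))
  refine ⟨k, ?_⟩
  rw [dia, oconj_oconj] at hk
  have e1 : (fG s).1 ((fG s)⁻¹.1 a) = a := (fG s).1.apply_symm_apply _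
  rwa [e1] at hk

/-! ### Coefficients -/

/-- comparison of coefficients -/
theorem coeff_gen [Finite F] {N : ℕ} (n : Fin N → ℕ) (c : Fin N → F) (hn : ∀ i, n i < Nat.card F) (m : ℕ)
    (h : ∀ t : F, ∑ i, c i * t ^ n i = 0) : ∑ i, (if m = n i then c i else 0) = 0 := by
  classical
  have := Fintype.ofFinite F
  have hP : ∑ i, C (c i) * X ^ n i = (0 : F[X]) := by
    apply Polynomial.eq_zero_of_natDegree_lt_card_of_eval_eq_zero' _ Finset.univ
    · intro t _
      rw [eval_finsetSum]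
      simp only [eval_mul, eval_C, eval_pow, eval_X]
      exact h t
    · rw [Finset.card_univ, ← Nat.card_eq_fintype_card]
      have h0 : 0 < Nat.card F := Nat.card_pos
      refine lt_of_le_of_lt (b := Nat.card F - 1) ?_ (by omega)
      apply natDegree_sum_le_of_forall_le
      intro i _
      exact (natDegree_C_mul_X_pow_le _ _).trans (by have := hn i; omega)
  have h1 := congrArg (fun p : F[X] => p.coeff m) hP
  simp only [finsetSum_coeff, coeff_C_mul_X_pow, coeff_zero] at h1
  exact h1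

/-- comparison of coefficients, `|F| > 2 A + 2 B`, `A, B ≥ 3` -/
theorem coeff_big [Finite F] {A B : ℕ} (hA : 3 ≤ A) (hB : 3 ≤ B) (hq : 2 * A + 2 * B < Nat.card F)
    {a b c₁ c₂ c₃ c₄ c₅ c₆ c₇ c₈ : F}
    (h : ∀ t : F, t * a + t ^ 2 * b = t ^ A * c₁ + t ^ B * c₂ + t ^ (2 * A) * c₃ + t ^ (2 * B) * c₄ +
      t ^ (A + B) * c₅ + t ^ (2 * A + B) * c₆ + t ^ (A + 2 * B) * c₇ + t ^ (2 * A + 2 * B) * c₈) : a = 0 ∧ b = 0 := by
  have key := coeff_gen ![1, 2, A, B, 2 * A, 2 * B, A + B, 2 * A + B, A + 2 * B, 2 * A + 2 * B]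
    ![-a, -b, c₁, c₂, c₃, c₄, c₅, c₆, c₇, c₈] (by intro i; (revert i; simp only [_root_.Fin.forall_fin_succ, _root_.Nat.succ_eq_add_one, Nat.reduceAdd, Fin.isValue, _root_.Matrix.cons_val_zero, _root_.Matrix.cons_val_succ, _root_.Matrix.cons_val_fin_one, _root_.forall_const]) <;> (repeat' with_reducible apply And.intro) <;> omega)
  have hh : ∀ t : F, ∑ i, (![-a, -b, c₁, c₂, c₃, c₄, c₅, c₆, c₇, c₈] : Fin 10 → F) i *
      t ^ (![1, 2, A, B, 2 * A, 2 * B, A + B, 2 * A + B, A + 2 * B, 2 * A + 2 * B] : Fin 10 → ℕ) i = 0 := by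
    intro t
    simp only [Fin.sum_univ_succ, _root_.Nat.succ_eq_add_one, _root_.Nat.reduceAdd, _root_.Fin.isValue, _root_.Matrix.cons_val_zero, _root_.pow_one, _root_.neg_mul, _root_.Matrix.cons_val_succ, _root_.Finset.univ_unique, _root_.Fin.default_eq_zero, _root_.Matrix.cons_val_fin_one, _root_.Finset.sum_const, _root_.Finset.card_singleton, _root_.one_smul]
    linear_combination -h t
  constructor
  · have h1 := key 1 hh
    rw [Finset.sum_eq_single (0 : Fin 10)] at h1
    · simpa using h1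
    · intro i _ hi
      rw [if_neg]
      fin_cases i <;> first | exact absurd rfl hi | (simp; try (clear * - hA hB; omega))
    · simp
  · have h1 := key 2 hh
    rw [Finset.sum_eq_single (1 : Fin 10)] at h1
    · simpa using h1
    · intro i _ hi
      rw [if_neg]
      fin_cases i <;> first | exact absurd rfl hi | (simp; try (clear * - hA hB; omega))
    · simp

/-- comparison of coefficients, `|F| = 8` -/
theorem coeff_eight [Finite F] (hq : Nat.card F = 8) {a b c₁ c₂ c₃ c₄ c₅ c₆ c₇ c₈ : F}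
    (h : ∀ t : F, t * a + t ^ 2 * b = t ^ 4 * c₁ + t ^ 2 * c₂ + t ^ 8 * c₃ + t ^ 4 * c₄ +
      t ^ 6 * c₅ + t ^ 10 * c₆ + t ^ 8 * c₇ + t ^ 12 * c₈) : b = c₂ := by
  have h8 : ∀ t : F, t ^ 8 = t := fun t => by
    have := Fintype.ofFinite F
    have := FiniteField.pow_card t
    rwa [← Nat.card_eq_fintype_card, hq] at this
  have key := coeff_gen ![1, 2, 4, 2, 1, 4, 6, 3, 1, 5] ![-a, -b, c₁, c₂, c₃, c₄, c₅, c₆, c₇, c₈]
    (by rw [hq]; intro i; (revert i; simp only [_root_.Fin.forall_fin_succ, _root_.Nat.succ_eq_add_one, Nat.reduceAdd, Fin.isValue, _root_.Matrix.cons_val_zero, _root_.Nat.one_lt_ofNat, _root_.Matrix.cons_val_succ, Nat.reduceLT, _root_.Matrix.cons_val_fin_one, _root_.implies_true, _root_.and_self])) 2 (fun t => by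
      have h1 := h t
      have h10 : t ^ 10 = t ^ 3 := by
        calc t ^ 10 = t ^ 8 * t ^ 2 := by ring
          _ = t ^ 3 := by rw [h8]; ring
      have h12 : t ^ 12 = t ^ 5 := by
        calc t ^ 12 = t ^ 8 * t ^ 4 := by ring
          _ = t ^ 5 := by rw [h8]; ring
      rw [h8, h10, h12] at h1
      simp only [Fin.sum_univ_succ, _root_.Nat.succ_eq_add_one, _root_.Nat.reduceAdd, _root_.Fin.isValue, _root_.Matrix.cons_val_zero, _root_.pow_one, _root_.neg_mul, _root_.Matrix.cons_val_succ, _root_.Finset.univ_unique, _root_.Fin.default_eq_zero, _root_.Matrix.cons_val_fin_one, _root_.Finset.sum_const, _root_.Finset.card_singleton, _root_.one_smul]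
      linear_combination -h1)
  simp only [Fin.sum_univ_succ, _root_.Nat.succ_eq_add_one, _root_.Nat.reduceAdd, _root_.Fin.isValue, _root_.Matrix.cons_val_zero, _root_.OfNat.ofNat_ne_one, ↓ _root_.reduceIte, _root_.Matrix.cons_val_succ, _root_.Nat.reduceEqDiff, _root_.Finset.univ_unique, _root_.Fin.default_eq_zero, _root_.Matrix.cons_val_fin_one, _root_.Finset.sum_const_zero, _root_.add_zero, _root_.zero_add] at key
  linear_combination -key

/-- the relation obtained from `c t = 1 + t X + t² Y` -/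
theorem rel {s : F ≃+* F} (X Y : V8 F →ₗ[F] V8 F) (c : F → (V8 F ≃ₗ[F] V8 F)) (hc : ∀ t, c t ∈ AutD (fG s))
    (hX : ∀ t v, c t v = v + t • X v + t ^ 2 • Y v) (v w : V8 F) (k : Fin 4 ⊕ Fin 4) (t : F) :
    t * X (dia (fG s) v w) k + t ^ 2 * Y (dia (fG s) v w) k =
      s.symm t * dia (fG s) (X v) w k + s t * dia (fG s) v (X w) k + s.symm t ^ 2 * dia (fG s) (Y v) w k +
      s t ^ 2 * dia (fG s) v (Y w) k + s.symm t * s t * dia (fG s) (X v) (X w) k +
      s.symm t ^ 2 * s t * dia (fG s) (Y v) (X w) k + s.symm t * s t ^ 2 * dia (fG s) (X v) (Y w) k +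
      s.symm t ^ 2 * s t ^ 2 * dia (fG s) (Y v) (Y w) k := by
  have h := congrFun ((hc t).2 v w) k
  rw [hX, hX, hX] at h
  simp only [dia_add_left, dia_add_right, dia_smul_left, dia_smul_right, map_pow, Pi.add_apply, Pi.smul_apply,
    smul_eq_mul] at h
  linear_combination h

/-- ZU2, when the Frobenius exponents are known -/
theorem zu2_core [Finite F] {s : F ≃+* F} {q0 : ℕ} (hq0 : 2 ≤ q0) (hq : Nat.card F = q0 ^ 3)
    (hs : (∀ a : F, s.symm a = a ^ (q0 ^ 2)) ∧ (∀ a : F, s a = a ^ q0) ∨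
      (∀ a : F, s.symm a = a ^ q0) ∧ (∀ a : F, s a = a ^ (q0 ^ 2)))
    (X Y : V8 F →ₗ[F] V8 F) (c : F → (V8 F ≃ₗ[F] V8 F)) (hc : ∀ t, c t ∈ AutD (fG s))
    (hX : ∀ t v, c t v = v + t • X v + t ^ 2 • Y v) (hY : Nat.card F = 8 → finrank F (LinearMap.range Y) ≤ 1) :
    X = 0 ∧ Y = 0 := by
  rcases Nat.lt_or_ge 2 q0 with h2 | h2
  · -- `q0 ≥ 3`
    have hb : 2 * q0 ^ 2 + 2 * q0 < Nat.card F := by
      rw [hq]
      nlinarith only [Nat.mul_le_mul h2 h2]
    have h3 : 3 ≤ q0 ^ 2 := by nlinarith only [h2]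
    have key : ∀ v w k, X (dia (fG s) v w) k = 0 ∧ Y (dia (fG s) v w) k = 0 := by
      intro v w k
      rcases hs with ⟨hs1, hs2⟩ | ⟨hs1, hs2⟩
      · refine coeff_big (A := q0 ^ 2) (B := q0) h3 h2 hb (c₁ := dia (fG s) (X v) w k)
          (c₂ := dia (fG s) v (X w) k) (c₃ := dia (fG s) (Y v) w k) (c₄ := dia (fG s) v (Y w) k)
          (c₅ := dia (fG s) (X v) (X w) k) (c₆ := dia (fG s) (Y v) (X w) k) (c₇ := dia (fG s) (X v) (Y w) k)
          (c₈ := dia (fG s) (Y v) (Y w) k) fun t => ?_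
        rw [rel X Y c hc hX v w k t, hs1, hs2]
        ring
      · refine coeff_big (A := q0) (B := q0 ^ 2) h2 h3 (by omega) (c₁ := dia (fG s) (X v) w k)
          (c₂ := dia (fG s) v (X w) k) (c₃ := dia (fG s) (Y v) w k) (c₄ := dia (fG s) v (Y w) k)
          (c₅ := dia (fG s) (X v) (X w) k) (c₆ := dia (fG s) (Y v) (X w) k) (c₇ := dia (fG s) (X v) (Y w) k)
          (c₈ := dia (fG s) (Y v) (Y w) k) fun t => ?_
        rw [rel X Y c hc hX v w k t, hs1, hs2]
        ring
    constructor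
    · apply LinearMap.ext
      intro z
      obtain ⟨v, w, rfl⟩ := exists_dia s z
      exact _root_.funext fun k => (key v w k).1
    · apply LinearMap.ext
      intro z
      obtain ⟨v, w, rfl⟩ := exists_dia s z
      exact _root_.funext fun k => (key v w k).2
  · -- `q0 = 2`
    obtain rfl : q0 = 2 := le_antisymm h2 hq0
    have h8 : Nat.card F = 8 := by rw [hq]; norm_num
    obtain ⟨y, hy⟩ := finrank_le_one_iff.1 (hY h8)
    have hy' : ∀ z, ∃ k : F, Y z = k • (y : V8 F) := by
      intro z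
      obtain ⟨k, hk⟩ := hy ⟨Y z, LinearMap.mem_range_self Y z⟩
      exact ⟨k, (congrArg Subtype.val hk).symm⟩
    rcases hs with ⟨hs1, hs2⟩ | ⟨hs1, hs2⟩
    · have key : ∀ v w, Y (dia (fG s) v w) = dia (fG s) v (X w) := by
        intro v w
        funext k
        refine coeff_eight h8 (a := X (dia (fG s) v w) k) (c₁ := dia (fG s) (X v) w k) (c₃ := dia (fG s) (Y v) w k)
          (c₄ := dia (fG s) v (Y w) k) (c₅ := dia (fG s) (X v) (X w) k) (c₆ := dia (fG s) (Y v) (X w) k)
          (c₇ := dia (fG s) (X v) (Y w) k) (c₈ := dia (fG s) (Y v) (Y w) k) fun t => ?_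
        rw [rel X Y c hc hX v w k t, hs1, hs2]
        ring
      have hX0 : X = 0 := by
        apply LinearMap.ext
        intro w
        by_contra hne
        refine dia_line_left (s := s) (y := y) hne fun v => ?_
        rw [← key]
        exact hy' _
      refine ⟨hX0, LinearMap.ext fun z => ?_⟩
      obtain ⟨v, w, rfl⟩ := exists_dia s z
      rw [key, hX0]
      have := dia_smul_right s (0 : F) v 0
      rwa [zero_smul, map_zero, zero_smul] at this
    · have key : ∀ v w, Y (dia (fG s) v w) = dia (fG s) (X v) w := by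
        intro v w
        funext k
        refine coeff_eight h8 (a := X (dia (fG s) v w) k) (c₁ := dia (fG s) v (X w) k) (c₃ := dia (fG s) v (Y w) k)
          (c₄ := dia (fG s) (Y v) w k) (c₅ := dia (fG s) (X v) (X w) k) (c₆ := dia (fG s) (X v) (Y w) k)
          (c₇ := dia (fG s) (Y v) (X w) k) (c₈ := dia (fG s) (Y v) (Y w) k) fun t => ?_
        rw [rel X Y c hc hX v w k t, hs1, hs2]
        ring
      have hX0 : X = 0 := by
        apply LinearMap.ext
        intro w
        by_contra hne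
        refine dia_line_right (s := s) (y := y) hne fun v => ?_
        rw [← key]
        exact hy' _
      refine ⟨hX0, LinearMap.ext fun z => ?_⟩
      obtain ⟨v, w, rfl⟩ := exists_dia s z
      rw [key, hX0]
      have := dia_smul_left s (0 : F) 0 w
      rwa [zero_smul, map_zero, zero_smul] at this

/-- type II -/
theorem ZU2 [Finite F] {s : F ≃+* F} (h3 : ∀ a, s (s (s a)) = a) (hne : s ≠ RingEquiv.refl F)
    (X Y : V8 F →ₗ[F] V8 F) (c : F → (V8 F ≃ₗ[F] V8 F)) (hc : ∀ t, c t ∈ AutD (fG s))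
    (hX : ∀ t v, c t v = v + t • X v + t ^ 2 • Y v) (hY : Nat.card F = 8 → finrank F (LinearMap.range Y) ≤ 1) :
    X = 0 ∧ Y = 0 := by
  obtain ⟨q0, h2, hq, -, -, hs⟩ := H256.RC.BQ h3 hne
  have hsymm : ∀ a, s.symm a = s (s a) := fun a => by rw [RingEquiv.symm_apply_eq, h3]
  refine zu2_core h2 hq ?_ X Y c hc hX hY
  rcases hs with hs | hs
  · left
    refine ⟨fun a => ?_, hs⟩
    rw [hsymm, hs, hs, ← pow_mul, pow_two]
  · right
    refine ⟨fun a => ?_, hs⟩
    have hq3 : ∀ a : F, a ^ q0 ^ 3 = a := fun a => by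
      have := Fintype.ofFinite F
      have := FiniteField.pow_card a
      rwa [← Nat.card_eq_fintype_card, hq] at this
    rw [hsymm, hs, hs, ← pow_mul]
    have : q0 ^ 2 * q0 ^ 2 = q0 ^ 3 * q0 := by ring
    rw [this, pow_mul, hq3]

end Cfsg.Agent.H499.RC
end

-- part: H338/RC/MEnd
section
/-!
# S3510, triality type iii, MIXED (helper338): abstract end

`m_end` : `φ : X → E Q` quasisimple classical, commuting with the member `g i` of odd order and containing the
commutators of the centraliser of `g i`, with a one-parameter group `1 + t Y`: contradiction.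
-/

set_option autoImplicit false
open Cfsg

namespace Cfsg.Agent.H338.RC

open Module QuadraticMap MulAction
open Cfsg.Agent.LieClassical.OrthCore Cfsg.Agent.LieClassical.OrthTrans
open Cfsg.Agent.LieClassical.OrthSimple Cfsg.Agent.ClassicalGeometry.OrthSemi
open Cfsg.Agent.ClassicalGeometry.OrthAut1 Cfsg.Agent.H106.RC Cfsg.Agent.H93.RC Cfsg.Agent.H566.RC
open Cfsg.Agent.LieClassical.QuadForms Cfsg.Agent.ClassicalGeometry.TrialityOct
open Cfsg.Agent.ClassicalGeometry.Triality Cfsg.Agent.ClassicalGeometry.TrialitySpaces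
open Cfsg.Agent.H198.TriBase Cfsg.Agent.H198.TriAut Cfsg.Agent.H198.TriDia
open Cfsg.Agent.H206.Balance hiding Good
open Cfsg.Agent.H864.RC
open scoped commutatorElement

variable {F : Type} [Field F] {G Ω ι : Type} [Group G] [MulAction G Ω] {N : Subgroup G}
    {hG : Good (plusForm 4 F)} {κ : P8 F →* G} {s : F ≃+* F} {x₁ : G} {x : ι → G} {r : ι → ℕ}
    {g : ι → (V8 F ≃ₗ[F] V8 F)}

/-- commuting in `P8` with an element of odd order -/
theorem comm_lift (h : T3 hG N κ s Ω x₁ x r g) (i : ι) (hodd : r i ≠ 2) (c : ↥(E (plusForm 4 F)))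
    (hc : up κ c * x i = x i * up κ c) : (c : V8 F ≃ₗ[F] V8 F) * g i = g i * c := by
  have hr : Odd (r i) := (h.prime i).odd_of_ne_two hodd
  let g' : ↥(E (plusForm 4 F)) := ⟨g i, (h.mem i).1⟩
  have h1 : ((c * g' : ↥(E (plusForm 4 F))) : P8 F) = ((g' * c : ↥(E (plusForm 4 F))) : P8 F) := by
    apply h.up_eq
    rw [h.x_eq] at hc
    rw [map_mul (up κ) g' c, map_mul (up κ) c g']
    exact hc
  obtain ⟨e, he, hev⟩ := sign_of_mk_eq hG h1
  have h2 : ∀ v, g i ((c : V8 F ≃ₗ[F] V8 F) v) = e • (c : V8 F ≃ₗ[F] V8 F) (g i v) := hev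
  have h3 : ∀ (n : ℕ) (v : V8 F), (g i ^ n) ((c : V8 F ≃ₗ[F] V8 F) v) = e ^ n • (c : V8 F ≃ₗ[F] V8 F) ((g i ^ n) v) := by
    intro n
    induction n with
    | zero => intro v; rw [pow_zero, pow_zero, one_smul]; rfl
    | succ n ih =>
      intro v
      rw [pow_succ, LinearEquiv.mul_apply, h2, map_smul, ih, smul_smul, pow_succ', LinearEquiv.mul_apply]
  have h5 := h3 (r i) ((c : V8 F ≃ₗ[F] V8 F).symm (one8 F))
  rw [h.pow i] at h5
  have h7 : one8 F = e ^ r i • one8 F := by
    have h8 : (c : V8 F ≃ₗ[F] V8 F) ((c : V8 F ≃ₗ[F] V8 F).symm (one8 F)) =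
      e ^ r i • (c : V8 F ≃ₗ[F] V8 F) ((c : V8 F ≃ₗ[F] V8 F).symm (one8 F)) := h5
    rwa [LinearEquiv.apply_symm_apply] at h8
  have e8 : (1 - e ^ r i) • one8 F = 0 := by rw [sub_smul, one_smul, ← h7, sub_self]
  have e9 : one8 F ≠ 0 := fun h0 => by
    have h6 := norm_one8 (F := F)
    rw [h0, QuadraticMap.map_zero] at h6
    exact zero_ne_one h6
  have e10 := (smul_eq_zero.1 e8).resolve_right e9
  have he1 : e = 1 := eq_one_of_odd he hr (sub_eq_zero.1 e10).symm
  apply LinearEquiv.ext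
  intro v
  have h9 := h2 v
  rw [he1, one_smul] at h9
  exact h9.symm

variable {X : Type} [Group X]

theorem conj_range (h : T3 hG N κ s Ω x₁ x r g) (i : ι) (hodd : r i ≠ 2) (hperf : commutator X = ⊤)
    (φ : X →* ↥(E (plusForm 4 F)))
    (hcomm : ∀ s, ((φ s : ↥(E (plusForm 4 F))) : V8 F ≃ₗ[F] V8 F) * g i = g i * (φ s : V8 F ≃ₗ[F] V8 F))
    (hder : ∀ a b : ↥(E (plusForm 4 F)), (a : V8 F ≃ₗ[F] V8 F) * g i = g i * a →
      (b : V8 F ≃ₗ[F] V8 F) * g i = g i * b → ⁅a, b⁆ ∈ φ.range) {y : G} (hy : y * x i = x i * y) :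
    ∀ m ∈ ((up κ).comp φ).range, y * m * y⁻¹ ∈ ((up κ).comp φ).range := by
  have hNn : N.Normal := h.env.norm
  -- the conjugate of `μ a`
  have key : ∀ a : X, ∃ a' : ↥(E (plusForm 4 F)), up κ a' = y * up κ (φ a) * y⁻¹ ∧
      (a' : V8 F ≃ₗ[F] V8 F) * g i = g i * a' := by
    intro a
    obtain ⟨a', ha'⟩ := h.exists_up (hNn.conj_mem _ (h.up_mem (φ a)) y)
    refine ⟨a', ha', comm_lift h i hodd a' ?_⟩
    have h1 : up κ (φ a) * x i = x i * up κ (φ a) := by
      rw [h.x_eq, ← map_mul, ← map_mul]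
      congr 1
      exact Subtype.ext (hcomm a)
    have hy' : y⁻¹ * x i = x i * y⁻¹ := by
      rw [inv_mul_eq_iff_eq_mul, ← mul_assoc, hy, mul_inv_cancel_right]
    rw [ha']
    calc y * up κ (φ a) * y⁻¹ * x i = y * up κ (φ a) * (y⁻¹ * x i) := by group
      _ = y * (up κ (φ a) * x i) * y⁻¹ := by rw [hy']; group
      _ = (y * x i) * up κ (φ a) * y⁻¹ := by rw [h1]; group
      _ = _ := by rw [hy]; group
  let T : Subgroup X := (((up κ).comp φ).range).comap ((MulAut.conj y).toMonoidHom.comp ((up κ).comp φ))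
  have hT : commutator X ≤ T := by
    rw [commutator_def, Subgroup.commutator_le]
    intro a _ b _
    obtain ⟨a', ha, ha2⟩ := key a
    obtain ⟨b', hb, hb2⟩ := key b
    obtain ⟨t, ht⟩ := hder a' b' ha2 hb2
    refine ⟨t, ?_⟩
    change up κ (φ t) = y * up κ (φ ⁅a, b⁆) * y⁻¹
    simp only [ht, commutatorElement_def a' b', commutatorElement_def a b, map_mul (up κ) (a' * b' * a'⁻¹) (b'⁻¹), map_mul (up κ) (a' * b') (a'⁻¹), map_mul (up κ) a' b', map_inv (up κ) a', map_inv (up κ) b', ha, hb]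
    simp only [map_mul, map_inv]
    group
  rintro _ ⟨a, rfl⟩
  have h1 : a ∈ T := hT (by rw [hperf]; trivial)
  exact h1

theorem not_cent [Finite F] (h : T3 hG N κ s Ω x₁ x r g) (hperf : commutator X = ⊤)
    (φ : X →* ↥(E (plusForm 4 F)))
    (hone : ∃ Y : V8 F →ₗ[F] V8 F, Y ≠ 0 ∧ ∀ t : F, ∃ s, ∀ v, (φ s : V8 F ≃ₗ[F] V8 F) v = v + t • Y v) :
    ∃ m ∈ ((up κ).comp φ).range, x₁ * m ≠ m * x₁ := by
  by_contra hcon
  push Not at hcon
  have key : ∀ a : X, ∃ c : ↥(E (plusForm 4 F)), c⁻¹ * φ a ∈ Subgroup.center ↥(E (plusForm 4 F)) ∧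
      (c : V8 F ≃ₗ[F] V8 F) ∈ AutD (fG s) := by
    intro a
    obtain ⟨c, hc, hcD⟩ := h.mem_of_comm (φ a) (hcon _ ⟨a, rfl⟩)
    exact ⟨c, QuotientGroup.eq.1 hc, hcD⟩
  let T : Subgroup X := (((AutD (fG s)).subgroupOf (E (plusForm 4 F)))).comap φ
  have hT : commutator X ≤ T := by
    rw [commutator_def, Subgroup.commutator_le]
    intro a _ b _
    obtain ⟨c, hc, hcD⟩ := key a
    obtain ⟨d, hd, hdD⟩ := key b
    have h1 : φ ⁅a, b⁆ = ⁅c, d⁆ := by
      have e1 : φ a = c * (c⁻¹ * φ a) := by group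
      have e2 : φ b = d * (d⁻¹ * φ b) := by group
      rw [map_commutatorElement, e1, e2]
      set z := c⁻¹ * φ a with hz
      set w := d⁻¹ * φ b with hw
      rw [Subgroup.mem_center_iff] at hc hd
      rw [commutatorElement_def, commutatorElement_def]
      have f1 : c * z * (d * w) * (c * z)⁻¹ * (d * w)⁻¹ = c * (z * d) * (w * z⁻¹) * c⁻¹ * (w⁻¹ * d⁻¹) := by group
      rw [f1, ← hc d]
      have f2 : c * (d * z) * (w * z⁻¹) * c⁻¹ * (w⁻¹ * d⁻¹) = c * d * (z * w * z⁻¹) * c⁻¹ * w⁻¹ * d⁻¹ := by group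
      simp only [f2, hd z, mul_inv_cancel_right]
      have f3 : c * d * w * c⁻¹ * w⁻¹ * d⁻¹ = c * d * (w * c⁻¹) * w⁻¹ * d⁻¹ := by group
      rw [f3, ← hd c⁻¹]
      group
    change ((φ ⁅a, b⁆ : ↥(E (plusForm 4 F))) : V8 F ≃ₗ[F] V8 F) ∈ AutD (fG s)
    rw [h1]
    have h2 : ((⁅c, d⁆ : ↥(E (plusForm 4 F))) : V8 F ≃ₗ[F] V8 F) = (c : V8 F ≃ₗ[F] V8 F) * d * (c : V8 F ≃ₗ[F] V8 F)⁻¹ *
      (d : V8 F ≃ₗ[F] V8 F)⁻¹ := rfl
    rw [h2]
    exact (AutD (fG s)).mul_mem ((AutD (fG s)).mul_mem ((AutD (fG s)).mul_mem hcD hdD) ((AutD (fG s)).inv_mem hcD))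
      ((AutD (fG s)).inv_mem hdD)
  have hall : ∀ a : X, ((φ a : ↥(E (plusForm 4 F))) : V8 F ≃ₗ[F] V8 F) ∈ AutD (fG s) := by
    intro a
    have h1 : a ∈ T := hT (by rw [hperf]; trivial)
    exact h1
  obtain ⟨Y, hY0, hY⟩ := hone
  choose c hc using hY
  exact hY0 (H499.RC.ZU1 h.cube h.ne Y (fun t => (φ (c t) : V8 F ≃ₗ[F] V8 F)) (fun t => hall _) hc)

theorem m_end [Finite F] [Finite G] [Finite ι] (h : T3 hG N κ s Ω x₁ x r g)
    (hIH : IH (Nat.card N)) (hN : NoN Ω N) [Finite X] (hperf : commutator X = ⊤)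
    (h1 : IsSimpleGroup (X ⧸ Subgroup.center X)) (h2 : ¬ IsMulCommutative (X ⧸ Subgroup.center X))
    (h3 : Cl (X ⧸ Subgroup.center X)) (h4 : ¬ Exc (X ⧸ Subgroup.center X)) (φ : X →* ↥(E (plusForm 4 F)))
    (hφ : Function.Injective φ) (i : ι) (hodd : r i ≠ 2)
    (hcomm : ∀ s, ((φ s : ↥(E (plusForm 4 F))) : V8 F ≃ₗ[F] V8 F) * g i = g i * (φ s : V8 F ≃ₗ[F] V8 F))
    (hder : ∀ a b : ↥(E (plusForm 4 F)), (a : V8 F ≃ₗ[F] V8 F) * g i = g i * a →
      (b : V8 F ≃ₗ[F] V8 F) * g i = g i * b → ⁅a, b⁆ ∈ φ.range)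
    (hone : ∃ Y : V8 F →ₗ[F] V8 F, Y ≠ 0 ∧ ∀ t : F, ∃ s, ∀ v, (φ s : V8 F ≃ₗ[F] V8 F) v = v + t • Y v)
    (h3e : ∃ s : X, s ^ 3 = 1 ∧ s ≠ 1) : False := by
  have hker0 : ∀ a : X, up κ (φ a) = 1 → φ a ∈ Subgroup.center ↥(E (plusForm 4 F)) := by
    intro a ha
    have e1 : ((1 : ↥(E (plusForm 4 F))) : P8 F) = ((φ a : ↥(E (plusForm 4 F))) : P8 F) := by
      apply h.up_eq
      rw [ha, map_one]
    have e2 := QuotientGroup.eq.1 e1
    rwa [inv_one, one_mul] at e2
  have hker : ((up κ).comp φ).ker ≤ Subgroup.center X := by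
    intro a ha
    have e1 := hker0 a ha
    rw [Subgroup.mem_center_iff] at e1 ⊢
    intro b
    apply hφ
    rw [map_mul, map_mul, e1]
  obtain ⟨hMp, π, hπ, hπk⟩ := exists_pi_gen hperf ((up κ).comp φ) hker
  have hxi : ∀ m ∈ ((up κ).comp φ).range, x i * m = m * x i := by
    rintro _ ⟨a, rfl⟩
    change x i * up κ (φ a) = up κ (φ a) * x i
    rw [h.x_eq, ← map_mul, ← map_mul]
    congr 1
    exact Subtype.ext (hcomm a).symm
  have hMN : ((up κ).comp φ).range ≤ N := by
    rintro _ ⟨a, rfl⟩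
    exact h.up_mem _
  have hne : ((up κ).comp φ).range ≠ N := by
    intro hMN'
    have e1 : x i ∈ Subgroup.centralizer (N : Set G) := by
      rw [Subgroup.mem_centralizer_iff]
      intro m hm
      rw [SetLike.mem_coe, ← hMN'] at hm
      exact (hxi m hm).symm
    rw [h.env.cent, Subgroup.mem_bot] at e1
    exact h.x_ne i e1
  obtain ⟨t, ht3, ht1⟩ := h3e
  refine n2 h hIH hN (M := ((up κ).comp φ).range) hMN hne hMp π hπ hπk h1 h2 h3 h4 ?_ ?_ ?_
    (y := up κ (φ t)) ⟨t, rfl⟩ ?_ ?_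
  · exact mem_norm_pow' (by norm_num) h.x1_cube (conj_range h i hodd hperf φ hcomm hder (h.x1_comm i))
  · intro j
    exact mem_norm_pow' (h.prime j).pos (h.x_pow j) (conj_range h i hodd hperf φ hcomm hder (h.x_comm j i))
  · exact not_cent h hperf φ hone
  · rw [← map_pow, ← map_pow, ht3, map_one, map_one]
  · intro hy
    have e1 := hker0 t hy
    obtain ⟨a, ha⟩ := center_scalar hG e1
    have e2 : ∀ v, (φ t : V8 F ≃ₗ[F] V8 F) v = a • v := ha
    apply ht1
    apply hφ
    rw [map_one]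
    have e1' : ((1 : ↥(E (plusForm 4 F))) : P8 F) = ((φ t : ↥(E (plusForm 4 F))) : P8 F) := by
      apply h.up_eq
      rw [hy, map_one]
    obtain ⟨e, he, hev⟩ := sign_of_mk_eq hG e1'
    have h3' := pow_of_smul hev 3 (one8 F)
    have e4 : ((φ t : V8 F ≃ₗ[F] V8 F) ^ 3) = 1 := by
      have e5 : (φ t) ^ 3 = 1 := by rw [← map_pow, ht3, map_one]
      exact congrArg Subtype.val e5
    have e6 : (((1 : ↥(E (plusForm 4 F))) : V8 F ≃ₗ[F] V8 F) ^ 3) = 1 := by
      rw [Subgroup.coe_one, one_pow]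
    rw [e4, e6] at h3'
    have e7 : one8 F = e ^ 3 • one8 F := h3'
    have e8 : (1 - e ^ 3) • one8 F = 0 := by rw [sub_smul, one_smul, ← e7, sub_self]
    have e9 : one8 F ≠ 0 := fun h0 => by
      have h6 := norm_one8 (F := F)
      rw [h0, QuadraticMap.map_zero] at h6
      exact zero_ne_one h6
    have e10 := (smul_eq_zero.1 e8).resolve_right e9
    have he1 : e = 1 := eq_one_of_odd he (by decide) (sub_eq_zero.1 e10).symm
    apply Subtype.ext
    apply LinearEquiv.ext
    intro v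
    have := hev v
    rw [he1, one_smul] at this
    exact this

end Cfsg.Agent.H338.RC
end
end

-- part: H338/RC/DeadSL
section
prune_inst 0xe01030040840000000180012e0001c428200040220488c000403040004c18c620d016861812000194800044400310048100000200000000000000400011c008000800000a1480000020096000000000000000000000000000000000000010000000000002
set_option linter.all false
open scoped Cfsg.Agent.FastGrp

-- part: H179/RC/SlQ
section
/-!
# S3510, box B: `SL(W)` in the group `E Q` of a form with two complementary totally singular subspaces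
-/

set_option autoImplicit false
open Cfsg

namespace Cfsg.Agent.H179.RC

open QuadraticMap MulAction Matrix
open Cfsg.Agent.LieClassical.OrthCore Cfsg.Agent.LieClassical.OrthTrans
open Cfsg.Agent.LieClassical.OrthSimple Cfsg.Agent.ClassicalGeometry.OrthSemi
open Cfsg.Agent.ClassicalGeometry.OrthAut1 Cfsg.Agent.H106.RC Cfsg.Agent.H93.RC
open Cfsg.Agent.LieClassical.SLGen

/-! ### coordinates -/

section coord

variable {F V : Type*} [Field F] [AddCommGroup V] [Module F V] {Q : QuadraticForm F V}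

/-- hyperbolic coordinates -/
def HC (Q : QuadraticForm F V) {κ : Type*} [Fintype κ] (Φ : V ≃ₗ[F] (κ → F) × (κ → F)) : Prop :=
  ∀ v, Q v = (Φ v).1 ⬝ᵥ (Φ v).2

theorem HC.polar {κ : Type*} [Fintype κ] {Φ : V ≃ₗ[F] (κ → F) × (κ → F)} (h : HC Q Φ) (v w : V) :
    polar Q v w = (Φ v).1 ⬝ᵥ (Φ w).2 + (Φ w).1 ⬝ᵥ (Φ v).2 := by
  simp only [QuadraticMap.polar, h _, map_add, Prod.fst_add, Prod.snd_add, add_dotProduct, dotProduct_add]
  ring

theorem polar_sing {W : Submodule F V} (hW : ∀ v ∈ W, Q v = 0) {v w : V} (hv : v ∈ W) (hw : w ∈ W) :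
    polar Q v w = 0 := by
  rw [QuadraticMap.polar, hW _ (W.add_mem hv hw), hW _ hv, hW _ hw]
  ring

/-- existence of hyperbolic coordinates -/
theorem exists_HC [FiniteDimensional F V] (hQ : Nondeg Q) (W W' : Submodule F V) (hWW : IsCompl W W')
    (hW : ∀ v ∈ W, Q v = 0) (hW' : ∀ v ∈ W', Q v = 0) :
    ∃ (k : ℕ) (Φ : V ≃ₗ[F] (Fin k → F) × (Fin k → F)), HC Q Φ ∧ Module.finrank F V = 2 * k ∧
      (∀ v, v ∈ W ↔ (Φ v).2 = 0) ∧ ∀ v, v ∈ W' ↔ (Φ v).1 = 0 := by
  classical
  -- the general inequality of dimensions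
  have key : ∀ W W' : Submodule F V, IsCompl W W' → (∀ v ∈ W, Q v = 0) → (∀ v ∈ W', Q v = 0) →
      Module.finrank F W' ≤ Module.finrank F W := by
    intro W W' hWW hW hW'
    let f : W' →ₗ[F] Module.Dual F W :=
      { toFun := fun w' => (polarBilin Q (w' : V)).comp W.subtype
        map_add' := fun a b => by
          ext w
          show polarBilin Q ((a + b : W') : V) w = _
          rw [Submodule.coe_add, map_add]
          rfl
        map_smul' := fun c a => by
          ext w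
          show polarBilin Q ((c • a : W') : V) w = _
          rw [Submodule.coe_smul, map_smul]
          rfl }
    have hf : Function.Injective f := by
      rw [injective_iff_map_eq_zero]
      intro w' h0
      have h1 : (w' : V) = 0 := by
        apply hQ
        intro v
        have hv : v ∈ W ⊔ W' := by rw [hWW.sup_eq_top]; trivial
        obtain ⟨a, ha, b, hb, rfl⟩ := Submodule.mem_sup.1 hv
        rw [polar_add_right, polar_sing hW' w'.2 hb, add_zero]
        have := DFunLike.congr_fun h0 (⟨a, ha⟩ : W)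
        exact this
      exact Subtype.ext h1
    have h2 := LinearMap.finrank_le_finrank_of_injective hf
    rwa [Subspace.dual_finrank_eq] at h2
  have hdim : Module.finrank F W' = Module.finrank F W :=
    le_antisymm (key W W' hWW hW hW') (key W' W hWW.symm hW' hW)
  have hsum := Submodule.finrank_add_eq_of_isCompl hWW
  let b : Module.Basis (Fin (Module.finrank F W)) F W := Module.finBasis F W
  let pr : V →ₗ[F] W := W.projectionOnto W' hWW
  let Ψ : V →ₗ[F] (Fin (Module.finrank F W) → F) × (Fin (Module.finrank F W) → F) :=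
    LinearMap.prod (b.equivFun.toLinearMap ∘ₗ pr) (LinearMap.pi fun i => polarBilin Q (b i : V))
  have hΨ1 : ∀ v, (Ψ v).1 = b.equivFun (pr v) := fun v => rfl
  have hΨ2 : ∀ v i, (Ψ v).2 i = polar Q (b i : V) v := fun v i => rfl
  have hprW : ∀ v : V, v ∈ W → ((pr v : W) : V) = v := by
    intro v hv
    have := Submodule.projectionOnto_apply_left hWW ⟨v, hv⟩
    exact congrArg Subtype.val this
  have hprW' : ∀ v : V, v ∈ W' → pr v = 0 := by
    intro v hv
    exact Submodule.projectionOnto_apply_right hWW ⟨v, hv⟩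
  have hdec : ∀ v : V, v - (pr v : W) ∈ W' := by
    intro v
    have h1 : pr (v - (pr v : W)) = 0 := by
      rw [map_sub]
      apply Subtype.ext
      rw [Submodule.coe_sub, hprW _ (pr v).2, sub_self]
      rfl
    exact (Submodule.projectionOnto_apply_eq_zero_iff hWW).1 h1
  have hW0 : ∀ v ∈ W, (Ψ v).2 = 0 := by
    intro v hv
    funext i
    rw [hΨ2]
    exact polar_sing hW (b i).2 hv
  have hbas : ∀ w ∈ W, ∀ v : V, polar Q w v = (Ψ w).1 ⬝ᵥ (Ψ v).2 := by
    intro w hw v
    have h1 : (w : V) = ∑ i, (Ψ w).1 i • (b i : V) := by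
      have h2 := b.sum_equivFun (pr w)
      have h3 := congrArg (Subtype.val : W → V) h2
      rw [hprW w hw, AddSubmonoidClass.coe_finsetSum] at h3
      exact h3.symm
    conv_lhs => rw [h1]
    have h4 : ∀ s : Finset (Fin (Module.finrank F W)),
        polar Q (∑ i ∈ s, (Ψ w).1 i • (b i : V)) v = ∑ i ∈ s, (Ψ w).1 i * polar Q (b i : V) v := by
      intro s
      induction s using Finset.induction_on with
      | empty => simp only [QuadraticMap.polar, _root_.Finset.sum_empty, _root_.zero_add, _root_.map_zero, _root_.sub_zero, _root_.sub_self]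
      | insert i s hi ih =>
        rw [Finset.sum_insert hi, Finset.sum_insert hi, polar_add_left, ih, polar_smul_left, smul_eq_mul]
    rw [h4]
    rfl
  have hinj' : ∀ v ∈ W', (Ψ v).2 = 0 → v = 0 := by
    intro v hv h0
    apply hQ
    intro z
    have hz : z ∈ W ⊔ W' := by rw [hWW.sup_eq_top]; trivial
    obtain ⟨a, ha, c, hc, rfl⟩ := Submodule.mem_sup.1 hz
    rw [polar_add_right, polar_sing hW' hv hc, add_zero, polar_comm, hbas a ha, h0, dotProduct_zero]
  have hΨinj : Function.Injective Ψ := by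
    rw [injective_iff_map_eq_zero]
    intro v h0
    have h1 : pr v = 0 := by
      have h2 : (Ψ v).1 = 0 := by rw [h0]; rfl
      rw [hΨ1] at h2
      exact (LinearEquiv.map_eq_zero_iff _).1 h2
    have h3 := hdec v
    rw [h1, Submodule.coe_zero, sub_zero] at h3
    exact hinj' v h3 (by rw [h0]; rfl)
  have hfin : Module.finrank F V = Module.finrank F ((Fin (Module.finrank F W) → F) × (Fin (Module.finrank F W) → F)) := by
    rw [Module.finrank_prod, Module.finrank_fin_fun]
    omega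
  refine ⟨Module.finrank F W, LinearEquiv.ofInjectiveOfFinrankEq Ψ hΨinj hfin, ?_, by omega, ?_, ?_⟩
  · intro v
    show Q v = (Ψ v).1 ⬝ᵥ (Ψ v).2
    have h2 : (Ψ ((pr v : W) : V)).1 = (Ψ v).1 := by
      rw [hΨ1, hΨ1]
      congr 1
      apply Subtype.ext
      exact hprW _ (pr v).2
    rw [← h2, ← hbas _ (pr v).2]
    have h3 : ∀ a d : V, a ∈ W → Q d = 0 → a + d = v → Q v = polar Q a v := by
      intro a d ha hd h
      rw [← h, Q_add, hW _ ha, hd, polar_add_right, polar_sing hW ha ha]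
      ring
    exact h3 _ (v - (pr v : W)) (pr v).2 (hW' _ (hdec v)) (by abel)
  · intro v
    show v ∈ W ↔ (Ψ v).2 = 0
    refine ⟨fun h => hW0 v h, fun h => ?_⟩
    have h1 : (Ψ (v - (pr v : W))).2 = 0 := by
      rw [map_sub, Prod.snd_sub, h, hW0 _ (pr v).2, sub_zero]
    have h2 := hinj' _ (hdec v) h1
    rw [sub_eq_zero] at h2
    rw [h2]
    exact (pr v).2
  · intro v
    show v ∈ W' ↔ (Ψ v).1 = 0
    refine ⟨fun h => ?_, fun h => ?_⟩
    · rw [hΨ1, hprW' v h, map_zero]
    · rw [hΨ1, LinearEquiv.map_eq_zero_iff] at h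
      have h3 := hdec v
      rwa [h, Submodule.coe_zero, sub_zero] at h3

end coord

/-! ### the embedding of `SL` -/

section slq

variable {F V : Type*} [Field F] [AddCommGroup V] [Module F V] {Q : QuadraticForm F V}
  {κ : Type*} [Fintype κ] [DecidableEq κ]

theorem val_mul_inv (M : _root_.Matrix.SpecialLinearGroup κ F) : M.1 * (M⁻¹).1 = 1 := congrArg Subtype.val (mul_inv_cancel M)

theorem val_inv_mul (M : _root_.Matrix.SpecialLinearGroup κ F) : (M⁻¹).1 * M.1 = 1 := congrArg Subtype.val (inv_mul_cancel M)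

theorem val_inv_mul_rev (M N : _root_.Matrix.SpecialLinearGroup κ F) : ((M * N)⁻¹).1 = (N⁻¹).1 * (M⁻¹).1 :=
  congrArg Subtype.val (_root_.mul_inv_rev M N)

/-- `(x, y) ↦ (A x, A⁻ᵀ y)` in the coordinates `Φ` -/
def slF (Φ : V ≃ₗ[F] (κ → F) × (κ → F)) (A : _root_.Matrix.SpecialLinearGroup κ F) : V ≃ₗ[F] V where
  toFun v := Φ.symm (A.1 *ᵥ (Φ v).1, ((A⁻¹).1)ᵀ *ᵥ (Φ v).2)
  map_add' v w := by
    rw [← map_add, map_add Φ]
    congr 1
    refine Prod.ext ?_ ?_
    · exact Matrix.mulVec_add _ _ _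
    · exact Matrix.mulVec_add _ _ _
  map_smul' c v := by
    rw [RingHom.id_apply, LinearEquiv.symm_apply_eq]
    simp only [map_smul, LinearEquiv.apply_symm_apply]
    refine Prod.ext ?_ ?_
    · exact Matrix.mulVec_smul _ _ _
    · exact Matrix.mulVec_smul _ _ _
  invFun v := Φ.symm ((A⁻¹).1 *ᵥ (Φ v).1, (A.1)ᵀ *ᵥ (Φ v).2)
  left_inv v := by
    rw [LinearEquiv.symm_apply_eq, LinearEquiv.apply_symm_apply]
    refine Prod.ext ?_ ?_
    · show (A⁻¹).1 *ᵥ (A.1 *ᵥ (Φ v).1) = (Φ v).1
      rw [Matrix.mulVec_mulVec, val_inv_mul, Matrix.one_mulVec]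
    · show (A.1)ᵀ *ᵥ (((A⁻¹).1)ᵀ *ᵥ (Φ v).2) = (Φ v).2
      rw [Matrix.mulVec_mulVec, ← Matrix.transpose_mul, val_inv_mul, Matrix.transpose_one, Matrix.one_mulVec]
  right_inv v := by
    rw [LinearEquiv.symm_apply_eq, LinearEquiv.apply_symm_apply]
    refine Prod.ext ?_ ?_
    · show A.1 *ᵥ ((A⁻¹).1 *ᵥ (Φ v).1) = (Φ v).1
      rw [Matrix.mulVec_mulVec, val_mul_inv, Matrix.one_mulVec]
    · show ((A⁻¹).1)ᵀ *ᵥ ((A.1)ᵀ *ᵥ (Φ v).2) = (Φ v).2
      rw [Matrix.mulVec_mulVec, ← Matrix.transpose_mul, val_mul_inv, Matrix.transpose_one, Matrix.one_mulVec]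

theorem slF_apply (Φ : V ≃ₗ[F] (κ → F) × (κ → F)) (A : _root_.Matrix.SpecialLinearGroup κ F) (v : V) :
    Φ (slF Φ A v) = (A.1 *ᵥ (Φ v).1, ((A⁻¹).1)ᵀ *ᵥ (Φ v).2) :=
  LinearEquiv.apply_symm_apply _ _

/-- the homomorphism -/
def slL (Φ : V ≃ₗ[F] (κ → F) × (κ → F)) : _root_.Matrix.SpecialLinearGroup κ F →* (V ≃ₗ[F] V) where
  toFun A := slF Φ A
  map_one' := by
    apply LinearEquiv.ext
    intro v
    apply Φ.injective
    rw [slF_apply, inv_one]
    refine Prod.ext ?_ ?_
    · exact Matrix.one_mulVec _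
    · show ((1 : _root_.Matrix.SpecialLinearGroup κ F).1)ᵀ *ᵥ (Φ v).2 = (Φ v).2
      have : (1 : _root_.Matrix.SpecialLinearGroup κ F).1 = 1 := rfl
      rw [this, Matrix.transpose_one, Matrix.one_mulVec]
  map_mul' A B := by
    apply LinearEquiv.ext
    intro v
    apply Φ.injective
    rw [LinearEquiv.mul_apply, slF_apply, slF_apply, slF_apply]
    refine Prod.ext ?_ ?_
    · show (A * B).1 *ᵥ (Φ v).1 = A.1 *ᵥ (B.1 *ᵥ (Φ v).1)
      rw [Matrix.mulVec_mulVec]
      rfl
    · show (((A * B)⁻¹).1)ᵀ *ᵥ (Φ v).2 = ((A⁻¹).1)ᵀ *ᵥ (((B⁻¹).1)ᵀ *ᵥ (Φ v).2)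
      rw [val_inv_mul_rev, Matrix.transpose_mul, Matrix.mulVec_mulVec]

theorem slL_apply (Φ : V ≃ₗ[F] (κ → F) × (κ → F)) (A : _root_.Matrix.SpecialLinearGroup κ F) (v : V) :
    Φ (slL Φ A v) = (A.1 *ᵥ (Φ v).1, ((A⁻¹).1)ᵀ *ᵥ (Φ v).2) :=
  LinearEquiv.apply_symm_apply _ _

theorem trans_mulVec {i j : κ} (h : i ≠ j) (c : F) (v : κ → F) :
    (SpecialLinearGroup.transvection h c).1 *ᵥ v = v + (c * v j) • Pi.single i (1 : F) :=
  transvection_smul h c v

theorem trans_inv_mulVec {i j : κ} (h : i ≠ j) (c : F) (v : κ → F) :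
    (((SpecialLinearGroup.transvection h c)⁻¹).1)ᵀ *ᵥ v = v - (c * v i) • Pi.single j (1 : F) := by
  rw [SpecialLinearGroup.transvection_inv, SpecialLinearGroup.transvection_coe,
    Matrix.transpose_add, Matrix.transpose_one, Matrix.transpose_single, Matrix.add_mulVec, Matrix.one_mulVec,
    Matrix.single_mulVec]
  funext k
  by_cases hk : k = j
  · subst hk
    simp [sub_eq_add_neg]
  · simp [hk, Function.update]

theorem slL_transvection {Φ : V ≃ₗ[F] (κ → F) × (κ → F)} (hΦ : HC Q Φ) {i j : κ} (h : i ≠ j) (c : F)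
    (hu : Q (Φ.symm (Pi.single i 1, 0)) = 0)
    (hw : polar Q (Φ.symm (Pi.single i 1, 0)) (Φ.symm (0, Pi.single j (-c))) = 0) :
    slL Φ (SpecialLinearGroup.transvection h c) =
      siegel Q (Φ.symm (Pi.single i 1, 0)) (Φ.symm (0, Pi.single j (-c))) hu hw := by
  apply LinearEquiv.ext
  intro v
  apply Φ.injective
  rw [siegel_apply, slL_apply, trans_mulVec, trans_inv_mulVec, hΦ.polar, hΦ.polar, hΦ (Φ.symm (0, _))]
  have e1 : (Pi.single j (-c) : κ → F) ⬝ᵥ (Φ v).1 = -c * (Φ v).1 j := by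
    rw [single_dotProduct]
  have e2 : (Pi.single i 1 : κ → F) ⬝ᵥ (Φ v).2 = (Φ v).2 i := by
    rw [single_dotProduct, one_mul]
  simp only [map_sub, map_add, map_smul, LinearEquiv.apply_symm_apply, zero_dotProduct, dotProduct_zero,
    add_zero, zero_add, zero_mul, zero_smul, sub_zero, e2]
  rw [dotProduct_comm, e1]
  refine Prod.ext ?_ ?_
  · funext k
    simp only [_root_.Pi.add_apply, _root_.Pi.smul_apply, _root_.smul_eq_mul, _root_.Prod.smul_mk, _root_.smul_zero, _root_.neg_mul, _root_.neg_smul, _root_.Prod.neg_mk, _root_.neg_zero, _root_.Prod.fst_sub, _root_.Prod.fst_add, _root_.add_zero, _root_.Pi.sub_apply, _root_.Pi.neg_apply, _root_.sub_neg_eq_add]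
  · funext k
    by_cases hk : k = j
    · subst hk
      simp only [_root_.Pi.sub_apply, _root_.Pi.smul_apply, _root_.Pi.single_eq_same, _root_.smul_eq_mul, _root_.mul_one, _root_.Prod.smul_mk, _root_.smul_zero, _root_.neg_mul, _root_.neg_smul, _root_.Prod.neg_mk, _root_.neg_zero, _root_.Prod.snd_sub, _root_.Prod.snd_add, _root_.Pi.add_apply, _root_.mul_neg, _root_.Pi.zero_apply, _root_.sub_zero]
      ring
    · simp only [hk, _root_.Pi.sub_apply, _root_.Pi.smul_apply, _root_.ne_eq, _root_.not_false_eq_true, _root_.Pi.single_eq_of_ne, _root_.smul_eq_mul, _root_.MulZeroClass.mul_zero, _root_.sub_zero, _root_.Prod.smul_mk, _root_.smul_zero, _root_.neg_mul, _root_.neg_smul, _root_.Prod.neg_mk, _root_.neg_zero, _root_.Prod.snd_sub, _root_.Prod.snd_add, _root_.Pi.add_apply, _root_.add_zero, _root_.Pi.zero_apply]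

omit [DecidableEq κ] in
theorem sing1 {Φ : V ≃ₗ[F] (κ → F) × (κ → F)} (hΦ : HC Q Φ) (x : κ → F) : Q (Φ.symm (x, 0)) = 0 := by
  rw [hΦ, LinearEquiv.apply_symm_apply, dotProduct_zero]

omit [DecidableEq κ] in
theorem polar12 {Φ : V ≃ₗ[F] (κ → F) × (κ → F)} (hΦ : HC Q Φ) (x y : κ → F) :
    polar Q (Φ.symm (x, 0)) (Φ.symm (0, y)) = x ⬝ᵥ y := by
  rw [hΦ.polar, LinearEquiv.apply_symm_apply, LinearEquiv.apply_symm_apply, zero_dotProduct, add_zero]

theorem slL_mem_E {Φ : V ≃ₗ[F] (κ → F) × (κ → F)} (hΦ : HC Q Φ) (A : _root_.Matrix.SpecialLinearGroup κ F) :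
    slL Φ A ∈ E Q := by
  have h1 : (⊤ : Subgroup (_root_.Matrix.SpecialLinearGroup κ F)) ≤ (E Q).comap (slL Φ) := by
    rw [← closure_transvections, Subgroup.closure_le]
    rintro _ ⟨i, j, h, c, rfl⟩
    have hw : polar Q (Φ.symm (Pi.single i 1, 0)) (Φ.symm (0, Pi.single j (-c))) = 0 := by
      rw [polar12 hΦ, single_dotProduct, Pi.single_eq_of_ne h, mul_zero]
    rw [SetLike.mem_coe, Subgroup.mem_comap, slL_transvection hΦ h c (sing1 hΦ _) hw]
    exact siegel_mem_E _ hw
  exact h1 (Subgroup.mem_top A)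

/-- the embedding `SL κ F →* E Q` -/
def slE {Φ : V ≃ₗ[F] (κ → F) × (κ → F)} (hΦ : HC Q Φ) : _root_.Matrix.SpecialLinearGroup κ F →* ↥(E Q) :=
  (slL Φ).codRestrict _ (slL_mem_E hΦ)

theorem slE_apply {Φ : V ≃ₗ[F] (κ → F) × (κ → F)} (hΦ : HC Q Φ) (A : _root_.Matrix.SpecialLinearGroup κ F) (v : V) :
    Φ ((slE hΦ A : V ≃ₗ[F] V) v) = (A.1 *ᵥ (Φ v).1, ((A⁻¹).1)ᵀ *ᵥ (Φ v).2) := slL_apply Φ A v

theorem slE_injective {Φ : V ≃ₗ[F] (κ → F) × (κ → F)} (hΦ : HC Q Φ) : Function.Injective (slE hΦ) := by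
  intro A B hAB
  apply smul_ext
  intro x
  have h1 := slE_apply hΦ A (Φ.symm (x, 0))
  have h2 := slE_apply hΦ B (Φ.symm (x, 0))
  rw [← hAB, h1] at h2
  have h3 := congrArg Prod.fst h2
  rw [LinearEquiv.apply_symm_apply] at h3
  exact h3

/-- an isometry which is trivial on the first summand and preserves the second one is trivial -/
theorem eq_one_of_fix {Φ : V ≃ₗ[F] (κ → F) × (κ → F)} (hΦ : HC Q Φ) {g : V ≃ₗ[F] V} (hg : g ∈ O Q)
    (h1 : ∀ x, g (Φ.symm (x, 0)) = Φ.symm (x, 0)) (h2 : ∀ y, (Φ (g (Φ.symm (0, y)))).1 = 0) : g = 1 := by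
  have h3 : ∀ y, g (Φ.symm (0, y)) = Φ.symm (0, y) := by
    intro y
    apply Φ.injective
    rw [LinearEquiv.apply_symm_apply]
    refine Prod.ext (h2 y) ?_
    funext i
    have h4 := polar_map hg (Φ.symm (Pi.single i 1, 0)) (Φ.symm (0, y))
    rw [h1, hΦ.polar, polar12 hΦ, LinearEquiv.apply_symm_apply, single_dotProduct, single_dotProduct, one_mul,
      one_mul, dotProduct_zero, add_zero] at h4
    exact h4
  apply LinearEquiv.ext
  intro v
  have h5 : v = Φ.symm ((Φ v).1, 0) + Φ.symm (0, (Φ v).2) := by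
    rw [← map_add, Prod.mk_add_mk, add_zero, zero_add, Prod.mk.eta, LinearEquiv.symm_apply_apply]
  rw [h5, map_add, h1, h3]
  rfl

end slq

end Cfsg.Agent.H179.RC
end

-- part: H179/RC/BoxB
section
/-!
# S3510, box B: the stabiliser of two complementary totally singular subspaces
-/

set_option autoImplicit false
open Cfsg

namespace Cfsg.Agent.H179.RC

open QuadraticMap MulAction Matrix
open Cfsg.Agent.LieClassical.OrthCore Cfsg.Agent.LieClassical.OrthTrans
open Cfsg.Agent.LieClassical.OrthSimple Cfsg.Agent.ClassicalGeometry.OrthSemi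
open Cfsg.Agent.ClassicalGeometry.OrthAut1 Cfsg.Agent.H106.RC Cfsg.Agent.H93.RC
open Cfsg.Agent.LieClassical.SLGen
open scoped commutatorElement

section rep

variable {F V : Type*} [Field F] [AddCommGroup V] [Module F V] {Q : QuadraticForm F V}
variable {G : Type*} [Group G]

end rep

section mrule

end mrule

section psl

end psl

section conj

variable {F V : Type*} [Field F] [AddCommGroup V] [Module F V]
  {Q : QuadraticForm F V} {κ : Type*} [Fintype κ] [DecidableEq κ]
  {Φ : V ≃ₗ[F] (κ → F) × (κ → F)}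

omit [DecidableEq κ] [Fintype κ] in
theorem split (Φ : V ≃ₗ[F] (κ → F) × (κ → F)) (v : V) :
    v = Φ.symm ((Φ v).1, 0) + Φ.symm (0, (Φ v).2) := by
  rw [← map_add, Prod.mk_add_mk, add_zero, zero_add, Prod.mk.eta, LinearEquiv.symm_apply_apply]

theorem slE_symm1 (hΦ : HC Q Φ) (A : _root_.Matrix.SpecialLinearGroup κ F) (x : κ → F) :
    (slE hΦ A : V ≃ₗ[F] V) (Φ.symm (x, 0)) = Φ.symm (A.1 *ᵥ x, 0) := by
  apply Φ.injective
  rw [slE_apply, LinearEquiv.apply_symm_apply, LinearEquiv.apply_symm_apply, Matrix.mulVec_zero]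

theorem slE_symm2 (hΦ : HC Q Φ) (A : _root_.Matrix.SpecialLinearGroup κ F) (y : κ → F) :
    (slE hΦ A : V ≃ₗ[F] V) (Φ.symm (0, y)) = Φ.symm (0, ((A⁻¹).1)ᵀ *ᵥ y) := by
  apply Φ.injective
  rw [slE_apply, LinearEquiv.apply_symm_apply, LinearEquiv.apply_symm_apply, Matrix.mulVec_zero]

variable {G : Type*} [Group G] {N : Subgroup G} {ρ : ↥(E Q) →* G}

end conj

section final

variable {F V : Type} [Field F] [Finite F] [AddCommGroup V] [Module F V] [FiniteDimensional F V]
  {Q : QuadraticForm F V} {G Ω : Type} [Group G] [Finite G] [MulAction G Ω] [Nonempty Ω]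
  {N : Subgroup G} {ρ : ↥(E Q) →* G}

end final

end Cfsg.Agent.H179.RC
end

-- part: H338/RC/SLData
section
/-!
# S3510, triality type iii, MIXED (b) (helper338, second line): the subgroup `SL₃` of the centraliser of `c`

`c` has the four different eigenvalues `a, a⁻¹, b, b⁻¹` with multiplicities `3, 3, 1, 1`: the derived group of the
centraliser of `c` is `SL₃(F)`.
-/

set_option autoImplicit false
set_option linter.unusedSectionVars false
open Cfsg

namespace Cfsg.Agent.H338.RC.SLD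

open QuadraticMap Module Matrix
open Cfsg.Agent.LieClassical.OrthCore
open Cfsg.Agent.LieClassical.OrthTrans Cfsg.Agent.ClassicalGeometry.OrthSemi Cfsg.Agent.ClassicalGeometry.OrthAut1
open Cfsg.Agent.H106.RC Cfsg.Agent.H93.RC Cfsg.Agent.H188.RC Cfsg.Agent.GenOrth Cfsg.Agent.H338.RC
open Cfsg.Agent.H510.Tri3 Cfsg.Agent.H179.RC Cfsg.Agent.LieClassical.SLGen
open scoped commutatorElement

variable {F V : Type} [Field F] [Finite F] [AddCommGroup V] [Module F V] [FiniteDimensional F V]

/-- eigenspace -/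
abbrev Eg (c : V ≃ₗ[F] V) (z : F) : Submodule F V := Module.End.eigenspace (c : V →ₗ[F] V) z

theorem mem_Eg {c : V ≃ₗ[F] V} {z : F} {v : V} : v ∈ Eg c z ↔ c v = z • v := Module.End.mem_eigenspace_iff

/-- the situation -/
structure CL (Q : QuadraticForm F V) (c : V ≃ₗ[F] V) (a b : F) : Prop where
  iso : c ∈ O Q
  nd : Nondeg Q
  ha : a ≠ 0
  hb : b ≠ 0
  haa : a * a ≠ 1
  hbb : b * b ≠ 1
  hab : a ≠ b
  hab1 : a * b ≠ 1
  h1 : finrank F (Eg c a) = 3
  h2 : finrank F (Eg c a⁻¹) = 3
  h3 : finrank F (Eg c b) = 1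
  h4 : finrank F (Eg c b⁻¹) = 1
  h8 : finrank F V = 8

variable {Q : QuadraticForm F V} {c : V ≃ₗ[F] V} {a b : F}

theorem polar_eig (hc : c ∈ O Q) {x y : F} (hxy : x * y ≠ 1) {v w : V} (hv : v ∈ Eg c x) (hw : w ∈ Eg c y) :
    polar Q v w = 0 := by
  have h1 := polar_map hc v w
  rw [mem_Eg.1 hv, mem_Eg.1 hw, polar_smul_left, polar_smul_right, smul_eq_mul, smul_eq_mul] at h1
  have h2 : (x * y - 1) * polar Q v w = 0 := by linear_combination h1
  exact (mul_eq_zero.1 h2).resolve_left (sub_ne_zero.2 hxy)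

theorem sing_eig (hc : c ∈ O Q) {x : F} (hx : x * x ≠ 1) {v : V} (hv : v ∈ Eg c x) : Q v = 0 := by
  have h1 : Q (c v) = Q v := hc v
  rw [mem_Eg.1 hv, QuadraticMap.map_smul, smul_eq_mul] at h1
  have h2 : (x * x - 1) * Q v = 0 := by linear_combination h1
  exact (mul_eq_zero.1 h2).resolve_left (sub_ne_zero.2 hx)

theorem disj_eig {x y : F} (hxy : x ≠ y) : Disjoint (Eg c x) (Eg c y) := by
  rw [Submodule.disjoint_def]
  intro v hv hw
  rw [mem_Eg] at hv hw
  rw [hv, ← sub_eq_zero, ← sub_smul] at hw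
  exact (smul_eq_zero.1 hw).resolve_left (sub_ne_zero.2 hxy)

theorem map_eig {f : V ≃ₗ[F] V} (hf : ∀ v, f (c v) = c (f v)) {x : F} {v : V} (hv : v ∈ Eg c x) : f v ∈ Eg c x := by
  rw [mem_Eg] at hv ⊢
  rw [← hf, hv, map_smul]

theorem comm_one {f g : V ≃ₗ[F] V} (hf : ∀ v, f (c v) = c (f v)) (hg : ∀ v, g (c v) = c (g v)) {x : F}
    (h1 : finrank F (Eg c x) = 1) {v : V} (hv : v ∈ Eg c x) : (f * g * f⁻¹ * g⁻¹) v = v := by
  have key : ∀ w ∈ Eg c x, f (g w) = g (f w) := by
    intro w hw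
    by_cases h0 : w = 0
    · rw [h0, map_zero, map_zero, map_zero]
    have h2 := (finrank_eq_one_iff_of_nonzero' (⟨w, hw⟩ : Eg c x) (fun h => h0 (congrArg Subtype.val h))).1 h1
    obtain ⟨y, hy⟩ := h2 ⟨f w, map_eig hf hw⟩
    obtain ⟨z, hz⟩ := h2 ⟨g w, map_eig hg hw⟩
    have hy' : f w = y • w := (congrArg Subtype.val hy).symm
    have hz' : g w = z • w := (congrArg Subtype.val hz).symm
    rw [hy', hz', map_smul, map_smul, hy', hz', smul_comm]
  have hf' := fun v => SUD.inv_comm hf v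
  have hg' := fun v => SUD.inv_comm hg v
  change f (g (f⁻¹ (g⁻¹ v))) = v
  rw [key _ (map_eig hf' (map_eig hg' hv))]
  change g ((f * f⁻¹) (g⁻¹ v)) = v
  rw [mul_inv_cancel]
  change (g * g⁻¹) v = v
  rw [mul_inv_cancel]
  rfl

namespace CL

variable (h : CL Q c a b)
include h

theorem a_ne : a ≠ a⁻¹ := fun h1 => h.haa (by nth_rw 2 [h1]; exact mul_inv_cancel₀ h.ha)

theorem b_ne : b ≠ b⁻¹ := fun h1 => h.hbb (by nth_rw 2 [h1]; exact mul_inv_cancel₀ h.hb)

theorem aa' : a⁻¹ * a⁻¹ ≠ 1 := by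
  intro h1
  apply h.haa
  have h2 : (a * a) * (a⁻¹ * a⁻¹) = 1 := by
    have := h.ha
    field_simp
  rwa [h1, mul_one] at h2

theorem quad {x : F} (hx : x ≠ 0) {v : V} (hv : v ∈ Eg c x) : c (c v) + v = (x + x⁻¹) • c v := by
  rw [mem_Eg.1 hv, map_smul, mem_Eg.1 hv, smul_smul, smul_smul, add_mul, inv_mul_cancel₀ hx, add_smul, one_smul]

/-- the 6-dimensional space -/
abbrev W (_ : CL Q c a b) : Submodule F V := Eg c a ⊔ Eg c a⁻¹

/-- the plane -/
abbrev P (_ : CL Q c a b) : Submodule F V := Eg c b ⊔ Eg c b⁻¹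

theorem quadW {v : V} (hv : v ∈ h.W) : c (c v) + v = (a + a⁻¹) • c v := by
  obtain ⟨u, hu, w, hw, rfl⟩ := Submodule.mem_sup.1 hv
  have h1 := h.quad h.ha hu
  have h2 := h.quad (inv_ne_zero h.ha) hw
  rw [inv_inv, add_comm a⁻¹ a] at h2
  rw [map_add, map_add, smul_add, ← h1, ← h2]
  abel

theorem quadP {v : V} (hv : v ∈ h.P) : c (c v) + v = (b + b⁻¹) • c v := by
  obtain ⟨u, hu, w, hw, rfl⟩ := Submodule.mem_sup.1 hv
  have h1 := h.quad h.hb hu
  have h2 := h.quad (inv_ne_zero h.hb) hw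
  rw [inv_inv, add_comm b⁻¹ b] at h2
  rw [map_add, map_add, smul_add, ← h1, ← h2]
  abel

theorem tau_ne : a + a⁻¹ - (b + b⁻¹) ≠ 0 := by
  intro h1
  have ha := h.ha
  have hb := h.hb
  have h2 : (a - b) * (a * b - 1) = 0 := by
    field_simp at h1
    linear_combination h1
  rcases mul_eq_zero.1 h2 with h3 | h3
  · exact h.hab (sub_eq_zero.1 h3)
  · exact h.hab1 (sub_eq_zero.1 h3)

theorem disjWP : Disjoint h.W h.P := by
  rw [Submodule.disjoint_def]
  intro v hv hw
  have h1 : (a + a⁻¹ - (b + b⁻¹)) • c v = 0 := by rw [sub_smul, ← h.quadW hv, ← h.quadP hw, sub_self]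
  exact (LinearEquiv.map_eq_zero_iff c).1 ((smul_eq_zero.1 h1).resolve_left h.tau_ne)

theorem finrank_W : finrank F h.W = 6 := by
  have h1 := Submodule.finrank_sup_add_finrank_inf_eq (Eg c a) (Eg c a⁻¹)
  rw [(disj_eig h.a_ne).eq_bot, finrank_bot, h.h1, h.h2] at h1
  exact h1

theorem finrank_P : finrank F h.P = 2 := by
  have h1 := Submodule.finrank_sup_add_finrank_inf_eq (Eg c b) (Eg c b⁻¹)
  rw [(disj_eig h.b_ne).eq_bot, finrank_bot, h.h3, h.h4] at h1
  exact h1

theorem sup_top : h.W ⊔ h.P = ⊤ := by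
  have h1 := Submodule.finrank_sup_add_finrank_inf_eq h.W h.P
  rw [h.disjWP.eq_bot, finrank_bot, h.finrank_W, h.finrank_P] at h1
  apply Submodule.eq_top_of_finrank_eq
  rw [h.h8]
  exact h1

theorem polarWP {v w : V} (hv : v ∈ h.W) (hw : w ∈ h.P) : polar Q v w = 0 := by
  obtain ⟨u, hu, u', hu', rfl⟩ := Submodule.mem_sup.1 hv
  obtain ⟨p, hp, p', hp', rfl⟩ := Submodule.mem_sup.1 hw
  have ha := h.ha
  have hb := h.hb
  have e1 : a * b⁻¹ ≠ 1 := fun h1 => h.hab (by rw [mul_inv_eq_one₀ hb] at h1; exact h1)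
  have e2 : a⁻¹ * b ≠ 1 := fun h1 => h.hab (by rw [inv_mul_eq_one₀ ha] at h1; exact h1)
  have e3 : a⁻¹ * b⁻¹ ≠ 1 := fun h1 => h.hab1 (by
    rw [← mul_inv, inv_eq_one] at h1
    exact h1)
  rw [polar_add_left, polar_add_right, polar_add_right, polar_eig h.iso h.hab1 hu hp, polar_eig h.iso e1 hu hp',
    polar_eig h.iso e2 hu' hp, polar_eig h.iso e3 hu' hp']
  simp

theorem ndW : Nondeg (Q.comp (h.W).subtype) := by
  intro w hw
  apply Subtype.ext
  apply h.nd
  intro v
  have hv : v ∈ h.W ⊔ h.P := by rw [h.sup_top]; trivial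
  obtain ⟨u, hu, p, hp, rfl⟩ := Submodule.mem_sup.1 hv
  rw [polar_add_right, h.polarWP w.2 hp, add_zero]
  exact hw ⟨u, hu⟩

/-- hyperbolic coordinates -/
theorem exists_coord : ∃ Φ : h.W ≃ₗ[F] (Fin 3 → F) × (Fin 3 → F), HC (Q.comp (h.W).subtype) Φ ∧
    (∀ v : h.W, (v : V) ∈ Eg c a ↔ (Φ v).2 = 0) ∧ ∀ v : h.W, (v : V) ∈ Eg c a⁻¹ ↔ (Φ v).1 = 0 := by
  have hcompl : IsCompl ((Eg c a).comap (h.W).subtype) ((Eg c a⁻¹).comap (h.W).subtype) := by
    constructor
    · rw [Submodule.disjoint_def]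
      intro v hv hw
      apply Subtype.ext
      exact (Submodule.disjoint_def.1 (disj_eig (c := c) h.a_ne)) (v : V) hv hw
    · rw [codisjoint_iff, eq_top_iff]
      intro v _
      obtain ⟨u, hu, w, hw, hv⟩ := Submodule.mem_sup.1 v.2
      refine Submodule.mem_sup.2 ⟨⟨u, Submodule.mem_sup_left hu⟩, hu, ⟨w, Submodule.mem_sup_right hw⟩, hw, ?_⟩
      exact Subtype.ext hv
  obtain ⟨k, Φ, hΦ, hk, h1, h2⟩ := exists_HC h.ndW _ _ hcompl (fun v hv => sing_eig h.iso h.haa hv)
    (fun v hv => sing_eig h.iso h.aa' hv)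
  have hk3 : k = 3 := by
    have := h.finrank_W
    omega
  subst hk3
  exact ⟨Φ, hΦ, h1, h2⟩

end CL

section ext

variable {W : Submodule F V}

/-- extension commutes with `c` -/
theorem ext_comm (hnd : Nondeg (Q.comp W.subtype)) (hcO : c ∈ O Q) (hcW : ∀ v ∈ W, c v ∈ W) (f : W ≃ₗ[F] W)
    (hf : ∀ w : W, ((f ⟨c w, hcW w w.2⟩ : W) : V) = c (f w)) (v : V) :
    (embW hnd).ext f (c v) = c ((embW hnd).ext f v) := by
  have hVf : Finite V := Module.finite_of_finite F
  have hc : IsSS Q (RingEquiv.refl F) 1 (c.toEquiv) :=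
    ⟨one_ne_zero, fun u v => map_add c u v, fun a v => map_smul c a v, fun v => by
      rw [one_mul]; exact hcO v⟩
  obtain ⟨L, hL, hLc⟩ := exists_restr (W := W) hc hcW
  have hπ := π_restr hnd hc hL hLc v
  have hLα : ∀ w : W, L w = ⟨c w, hcW w w.2⟩ := by
    intro w
    apply Subtype.ext
    rw [hLc]
    rfl
  have hπ' : (embW hnd).π (c v) = ⟨c ((embW hnd).π v), hcW _ ((embW hnd).π v).2⟩ := by
    rw [← hLα]
    exact hπ
  rw [Emb.ext_apply, Emb.ext_apply, hπ', map_add, map_sub, map_sub, map_sub]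
  congr 1
  rw [embW_j, embW_j, embW_j, embW_j, hf]

end ext

/-- the group theoretic facts about `SL₃` -/
theorem sl3_facts : commutator (_root_.Matrix.SpecialLinearGroup (Fin 3) F) = ⊤ ∧
    IsSimpleGroup (_root_.Matrix.SpecialLinearGroup (Fin 3) F ⧸ Subgroup.center (_root_.Matrix.SpecialLinearGroup (Fin 3) F)) ∧
    ¬ IsMulCommutative (_root_.Matrix.SpecialLinearGroup (Fin 3) F ⧸ Subgroup.center (_root_.Matrix.SpecialLinearGroup (Fin 3) F)) ∧
    Cl (_root_.Matrix.SpecialLinearGroup (Fin 3) F ⧸ Subgroup.center (_root_.Matrix.SpecialLinearGroup (Fin 3) F)) ∧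
    ¬ Exc (_root_.Matrix.SpecialLinearGroup (Fin 3) F ⧸ Subgroup.center (_root_.Matrix.SpecialLinearGroup (Fin 3) F)) := by
  have hcard : 3 ≤ Fintype.card (Fin 3) := by rw [Fintype.card_fin]
  have hperf : commutator (_root_.Matrix.SpecialLinearGroup (Fin 3) F) = ⊤ := commutator_eq_top hcard
  have hsimp : IsSimpleGroup (_root_.Matrix.SpecialLinearGroup (Fin 3) F ⧸ Subgroup.center (_root_.Matrix.SpecialLinearGroup (Fin 3) F)) :=
    psl_isSimpleGroup hcard
  have hfin : Fintype F := Fintype.ofFinite F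
  refine ⟨hperf, hsimp, not_comm_of_perf' hperf (QuotientGroup.mk' _) (QuotientGroup.mk'_surjective _) hsimp, ?_, ?_⟩
  · exact Or.inl ⟨F, inferInstance, hfin, 3, by omega, fun h => by omega, ⟨MulEquiv.refl _⟩⟩
  · intro h
    rcases psl_exc (F := F) (n := 3) (by omega) h with ⟨h1, -⟩ | ⟨h1, -⟩ <;> omega

/-- an element of order three -/
theorem exists_three : ∃ s : _root_.Matrix.SpecialLinearGroup (Fin 3) F, s ^ 3 = 1 ∧ s ≠ 1 := by
  let M : Matrix (Fin 3) (Fin 3) F := !![0, 1, 0; 0, 0, 1; 1, 0, 0]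
  have hd : M.det = 1 := by
    rw [Matrix.det_fin_three]
    simp [M]
  let s : _root_.Matrix.SpecialLinearGroup (Fin 3) F := ⟨M, hd⟩
  refine ⟨s, ?_, ?_⟩
  · rw [pow_three]
    apply Subtype.ext
    change M * (M * M) = 1
    ext i j
    (revert i j; simp only [M, Matrix.mul_apply, Fin.sum_univ_three, _root_.Fin.forall_fin_succ, _root_.Matrix.cons_mul, _root_.Nat.succ_eq_add_one, Nat.reduceAdd, _root_.Matrix.vecMul_cons, _root_.Matrix.head_cons, _root_.zero_smul, _root_.Matrix.tail_cons, _root_.one_smul, _root_.Matrix.empty_vecMul, _root_.add_zero, _root_.zero_add, _root_.Matrix.empty_mul, _root_.Equiv.symm_apply_apply, _root_.Matrix.of_apply, _root_.Matrix.cons_val', _root_.Matrix.cons_val_fin_one, Fin.isValue, _root_.Matrix.cons_val_zero, _root_.Matrix.cons_val_one, _root_.Matrix.cons_val, _root_.MulZeroClass.mul_zero, _root_.mul_one, _root_.Matrix.cons_val_succ, _root_.IsEmpty.forall_iff, _root_.and_true, _root_.Matrix.one_apply_eq, _root_.Fin.succ_zero_eq_one,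 _root_.ne_eq, _root_.zero_ne_one, _root_.not_false_eq_true, _root_.Matrix.one_apply_ne, _root_.Fin.succ_one_eq_two, Fin.reduceEq, _root_.and_self, _root_.Fin.succ_ne_zero, _root_.true_and])
  · intro h1
    have h2 := congrArg (fun s : _root_.Matrix.SpecialLinearGroup (Fin 3) F => s.1 0 0) h1
    change (0 : F) = 1 at h2
    exact zero_ne_one h2

/-- the one-parameter group -/
theorem exists_one {W : Submodule F V} (hnd : Nondeg (Q.comp W.subtype))
    {Φ : W ≃ₗ[F] (Fin 3 → F) × (Fin 3 → F)} (hΦ : HC (Q.comp W.subtype) Φ) :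
    ∃ Y : V →ₗ[F] V, Y ≠ 0 ∧ ∀ t : F, ∃ s, ∀ v,
      ((((embW hnd).extE.comp (slE hΦ)) s : ↥(E Q)) : V ≃ₗ[F] V) v = v + t • Y v := by
  have h01 : (0 : Fin 3) ≠ 1 := by decide
  let Z : W →ₗ[F] W :=
    { toFun := fun w => Φ.symm ((Φ w).1 1 • Pi.single 0 (1 : F), -((Φ w).2 0 • Pi.single 1 (1 : F)))
      map_add' := fun u v => by
        rw [← map_add]
        congr 1
        rw [map_add, Prod.mk_add_mk]
        refine Prod.ext ?_ ?_
        · simp only [Prod.fst_add, Pi.add_apply, add_smul]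
        · simp only [Prod.snd_add, Pi.add_apply, add_smul, neg_add]
      map_smul' := fun t v => by
        rw [RingHom.id_apply, ← map_smul Φ.symm, map_smul Φ]
        congr 1
        refine Prod.ext ?_ ?_
        · simp only [Prod.smul_fst, Pi.smul_apply, smul_eq_mul, mul_smul]
        · simp only [Prod.smul_snd, Pi.smul_apply, smul_eq_mul, mul_smul, smul_neg] }
  have hZ : ∀ w, Φ (Z w) = ((Φ w).1 1 • Pi.single 0 (1 : F), -((Φ w).2 0 • Pi.single 1 (1 : F))) :=
    fun w => LinearEquiv.apply_symm_apply _ _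
  refine ⟨(embW hnd).j ∘ₗ Z ∘ₗ (embW hnd).π, ?_, ?_⟩
  · intro h0
    have h1 := congrArg (fun f : V →ₗ[F] V => f ((embW hnd).j (Φ.symm (Pi.single 1 1, 0)))) h0
    change (embW hnd).j (Z ((embW hnd).π ((embW hnd).j _))) = 0 at h1
    rw [Emb.π_j] at h1
    have h2 : Z (Φ.symm (Pi.single 1 1, 0)) = 0 := (embW hnd).j_injective (by rw [h1, map_zero])
    have h3 := congrArg (fun w => (Φ w).1 0) h2
    change (Φ (Z _)).1 0 = (Φ 0).1 0 at h3
    rw [hZ, LinearEquiv.apply_symm_apply, map_zero] at h3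
    simp at h3
  · intro t
    refine ⟨SpecialLinearGroup.transvection h01 t, fun v => ?_⟩
    change (((embW hnd).extE (slE hΦ (SpecialLinearGroup.transvection h01 t)) : ↥(E Q)) : V ≃ₗ[F] V) v = _
    rw [Emb.extE_coe, Emb.ext_apply]
    congr 1
    change (embW hnd).j _ = t • (embW hnd).j (Z ((embW hnd).π v))
    rw [← map_smul]
    congr 1
    set w := (embW hnd).π v
    apply Φ.injective
    rw [map_sub, slE_apply, trans_mulVec, trans_inv_mulVec, map_smul, hZ]
    refine Prod.ext ?_ ?_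
    · simp only [Prod.fst_sub, Prod.smul_fst, mul_smul, add_sub_cancel_left]
    · simp only [Prod.snd_sub, Prod.smul_snd, mul_smul, smul_neg]
      abel

namespace CL

variable (h : CL Q c a b)
include h

theorem hcW {f : V ≃ₗ[F] V} (hf : ∀ v, f (c v) = c (f v)) : ∀ v ∈ h.W, f v ∈ h.W := by
  intro v hv
  obtain ⟨u, hu, w, hw, rfl⟩ := Submodule.mem_sup.1 hv
  rw [map_add]
  exact Submodule.add_mem _ (Submodule.mem_sup_left (map_eig hf hu)) (Submodule.mem_sup_right (map_eig hf hw))

/-- the image of `SL₃` commutes with `c` -/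
theorem slE_comm {Φ : h.W ≃ₗ[F] (Fin 3 → F) × (Fin 3 → F)} (hΦ : HC (Q.comp (h.W).subtype) Φ)
    (hΦ1 : ∀ v : h.W, (v : V) ∈ Eg c a ↔ (Φ v).2 = 0) (hΦ2 : ∀ v : h.W, (v : V) ∈ Eg c a⁻¹ ↔ (Φ v).1 = 0)
    (s : _root_.Matrix.SpecialLinearGroup (Fin 3) F) (v : V) :
    ((((embW h.ndW).extE.comp (slE hΦ)) s : ↥(E Q)) : V ≃ₗ[F] V) (c v) =
      c (((((embW h.ndW).extE.comp (slE hΦ)) s : ↥(E Q)) : V ≃ₗ[F] V) v) := by
  change (((embW h.ndW).extE (slE hΦ s) : ↥(E Q)) : V ≃ₗ[F] V) (c v) =
    c ((((embW h.ndW).extE (slE hΦ s) : ↥(E Q)) : V ≃ₗ[F] V) v)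
  rw [Emb.extE_coe]
  have hcW := h.hcW (f := c) (fun _ => rfl)
  -- `c` in coordinates
  have hc : ∀ w : h.W, Φ ⟨c w, hcW w w.2⟩ = (a • (Φ w).1, a⁻¹ • (Φ w).2) := by
    intro w
    have e1 : ((Φ.symm ((Φ w).1, 0) : h.W) : V) ∈ Eg c a := (hΦ1 _).2 (by rw [LinearEquiv.apply_symm_apply])
    have e2 : ((Φ.symm (0, (Φ w).2) : h.W) : V) ∈ Eg c a⁻¹ := (hΦ2 _).2 (by rw [LinearEquiv.apply_symm_apply])
    have e3 : (⟨c w, hcW w w.2⟩ : h.W) = a • Φ.symm ((Φ w).1, 0) + a⁻¹ • Φ.symm (0, (Φ w).2) := by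
      apply Subtype.ext
      change c (w : V) = a • ((Φ.symm ((Φ w).1, 0) : h.W) : V) + a⁻¹ • ((Φ.symm (0, (Φ w).2) : h.W) : V)
      rw [← mem_Eg.1 e1, ← mem_Eg.1 e2, ← map_add]
      congr 1
      exact congrArg Subtype.val (split Φ w)
    rw [e3, map_add, map_smul, map_smul, LinearEquiv.apply_symm_apply, LinearEquiv.apply_symm_apply, Prod.smul_mk,
      Prod.smul_mk, smul_zero, smul_zero, Prod.mk_add_mk, add_zero, zero_add]
  refine ext_comm h.ndW h.iso hcW _ (fun w => ?_) v
  have e4 : (slE hΦ s : h.W ≃ₗ[F] h.W) ⟨c w, hcW w w.2⟩ = ⟨c ((slE hΦ s : h.W ≃ₗ[F] h.W) w), hcW _ (Subtype.mem _)⟩ := by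
    apply Φ.injective
    rw [slE_apply, hc, hc, slE_apply, Matrix.mulVec_smul, Matrix.mulVec_smul]
  exact congrArg Subtype.val e4

/-- commutators of the centraliser of `c` -/
theorem der {Φ : h.W ≃ₗ[F] (Fin 3 → F) × (Fin 3 → F)} (hΦ : HC (Q.comp (h.W).subtype) Φ)
    (hΦ1 : ∀ v : h.W, (v : V) ∈ Eg c a ↔ (Φ v).2 = 0) (hΦ2 : ∀ v : h.W, (v : V) ∈ Eg c a⁻¹ ↔ (Φ v).1 = 0)
    (f g : ↥(E Q)) (hf : ∀ v, (f : V ≃ₗ[F] V) (c v) = c ((f : V ≃ₗ[F] V) v))
    (hg : ∀ v, (g : V ≃ₗ[F] V) (c v) = c ((g : V ≃ₗ[F] V) v)) :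
    ⁅f, g⁆ ∈ ((embW h.ndW).extE.comp (slE hΦ)).range := by
  have hVf : Finite V := Module.finite_of_finite F
  set k : V ≃ₗ[F] V := (f : V ≃ₗ[F] V) * (g : V ≃ₗ[F] V) * (f : V ≃ₗ[F] V)⁻¹ * (g : V ≃ₗ[F] V)⁻¹ with hk
  have hkO : k ∈ O Q :=
    (O Q).mul_mem ((O Q).mul_mem ((O Q).mul_mem (E_le_O f.2) (E_le_O g.2)) ((O Q).inv_mem (E_le_O f.2)))
      ((O Q).inv_mem (E_le_O g.2))
  have hkc : ∀ v, k (c v) = c (k v) := by
    intro v
    change (f : V ≃ₗ[F] V) ((g : V ≃ₗ[F] V) ((f : V ≃ₗ[F] V)⁻¹ ((g : V ≃ₗ[F] V)⁻¹ (c v)))) =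
      c ((f : V ≃ₗ[F] V) ((g : V ≃ₗ[F] V) ((f : V ≃ₗ[F] V)⁻¹ ((g : V ≃ₗ[F] V)⁻¹ v))))
    rw [SUD.inv_comm hg, SUD.inv_comm hf, hg, hf]
  have hkP : ∀ v ∈ h.P, k v = v := by
    intro v hv
    obtain ⟨u, hu, w, hw, rfl⟩ := Submodule.mem_sup.1 hv
    rw [map_add, comm_one hf hg h.h3 hu, comm_one hf hg h.h4 hw]
  -- the restrictions to the eigenspace
  have key : ∀ f : V ≃ₗ[F] V, (∀ v, f (c v) = c (f v)) → ∃ A : Eg c a ≃ₗ[F] Eg c a, ∀ w, ((A w : Eg c a) : V) = f w := by
    intro f hf
    let m : Eg c a →ₗ[F] Eg c a := (f : V →ₗ[F] V).restrict (fun v hv => map_eig hf hv)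
    have hm : Function.Injective m := fun u v huv => Subtype.ext (f.injective (congrArg Subtype.val huv))
    exact ⟨LinearEquiv.ofInjectiveEndo m hm, fun w => rfl⟩
  obtain ⟨A, hA⟩ := key f hf
  obtain ⟨B, hB⟩ := key g hg
  have hinv : ∀ {f : V ≃ₗ[F] V} {A : Eg c a ≃ₗ[F] Eg c a}, (∀ w, ((A w : Eg c a) : V) = f w) →
      ∀ w, ((A⁻¹ w : Eg c a) : V) = f⁻¹ w := by
    intro f A hA w
    apply f.injective
    rw [← hA]
    change (((A * A⁻¹) w : Eg c a) : V) = (f * f⁻¹) w
    rw [mul_inv_cancel, mul_inv_cancel]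
    rfl
  have hAB : ∀ w, (((A * B * A⁻¹ * B⁻¹) w : Eg c a) : V) = k w := by
    intro w
    change ((A (B (A⁻¹ (B⁻¹ w))) : Eg c a) : V) =
      (f : V ≃ₗ[F] V) ((g : V ≃ₗ[F] V) ((f : V ≃ₗ[F] V)⁻¹ ((g : V ≃ₗ[F] V)⁻¹ w)))
    rw [hA, hB, hinv hA, hinv hB]
  have hdet : LinearEquiv.det (A * B * A⁻¹ * B⁻¹) = 1 := by
    rw [map_mul, map_mul, map_mul, map_inv, map_inv]
    rw [mul_right_comm (LinearEquiv.det A) (LinearEquiv.det B), mul_inv_cancel, one_mul, mul_inv_cancel]
  -- the coordinates of the eigenspace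
  let e : (Fin 3 → F) →ₗ[F] Eg c a :=
    { toFun := fun x => ⟨((Φ.symm (x, 0) : h.W) : V), (hΦ1 _).2 (by rw [LinearEquiv.apply_symm_apply])⟩
      map_add' := fun x y => by
        apply Subtype.ext
        change ((Φ.symm (x + y, 0) : h.W) : V) = ((Φ.symm (x, 0) + Φ.symm (y, 0) : h.W) : V)
        rw [← map_add, Prod.mk_add_mk, add_zero]
      map_smul' := fun t x => by
        apply Subtype.ext
        change ((Φ.symm (t • x, 0) : h.W) : V) = ((t • Φ.symm (x, 0) : h.W) : V)
        rw [← map_smul, Prod.smul_mk, smul_zero] }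
  have heinj : Function.Injective e := by
    intro x y hxy
    have h0 : ((Φ.symm (x, 0) : h.W) : V) = ((Φ.symm (y, 0) : h.W) : V) := congrArg (fun w : Eg c a => (w : V)) hxy
    have h1 : Φ.symm (x, 0) = Φ.symm (y, 0) := Subtype.ext h0
    exact congrArg Prod.fst (Φ.symm.injective h1)
  let ee : (Fin 3 → F) ≃ₗ[F] Eg c a := LinearEquiv.ofInjectiveOfFinrankEq e heinj (by
    rw [h.h1, Module.finrank_fin_fun])
  have hee : ∀ x, ((ee x : Eg c a) : V) = ((Φ.symm (x, 0) : h.W) : V) := fun x => rfl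
  let M : Matrix (Fin 3) (Fin 3) F := LinearMap.toMatrix' ((ee.symm : Eg c a →ₗ[F] (Fin 3 → F)) ∘ₗ
    ((A * B * A⁻¹ * B⁻¹ : Eg c a ≃ₗ[F] Eg c a) : Eg c a →ₗ[F] Eg c a) ∘ₗ (ee : (Fin 3 → F) →ₗ[F] Eg c a))
  have hMd : M.det = 1 := by
    rw [LinearMap.det_toMatrix']
    have h1 := LinearMap.det_conj ((A * B * A⁻¹ * B⁻¹ : Eg c a ≃ₗ[F] Eg c a) : Eg c a →ₗ[F] Eg c a) ee.symm
    rw [LinearEquiv.symm_symm] at h1
    rw [h1, ← LinearEquiv.coe_det, hdet]
    rfl
  have hMv : ∀ x, M *ᵥ x = ee.symm ((A * B * A⁻¹ * B⁻¹) (ee x)) := by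
    intro x
    rw [LinearMap.toMatrix'_mulVec]
    rfl
  let S : _root_.Matrix.SpecialLinearGroup (Fin 3) F := ⟨M, hMd⟩
  have hcW' := h.hcW hkc
  -- the restriction of `k` to `W`
  let kl : h.W →ₗ[F] h.W := (k : V →ₗ[F] V).restrict hcW'
  have hkl : Function.Injective kl := fun u v huv => Subtype.ext (k.injective (congrArg Subtype.val huv))
  let kW : h.W ≃ₗ[F] h.W := LinearEquiv.ofInjectiveEndo kl hkl
  have hkW : ∀ w, ((kW w : h.W) : V) = k w := fun w => rfl
  have hkWO : kW ∈ O (Q.comp (h.W).subtype) := by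
    intro w
    change Q ((kW w : h.W) : V) = Q (w : V)
    rw [hkW]
    exact hkO w
  have hkey : (slE hΦ S : h.W ≃ₗ[F] h.W)⁻¹ * kW = 1 := by
    apply eq_one_of_fix hΦ
    · exact (O _).mul_mem ((O _).inv_mem (E_le_O (slE hΦ S).2)) hkWO
    · intro x
      have e1 : kW (Φ.symm (x, 0)) = (slE hΦ S : h.W ≃ₗ[F] h.W) (Φ.symm (x, 0)) := by
        rw [slE_symm1]
        apply Subtype.ext
        rw [hkW, ← hee, ← hee, ← hAB]
        change _ = ((ee (M *ᵥ x) : Eg c a) : V)
        rw [hMv, LinearEquiv.apply_symm_apply]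
      change (slE hΦ S : h.W ≃ₗ[F] h.W)⁻¹ (kW (Φ.symm (x, 0))) = _
      rw [e1]
      exact LinearEquiv.symm_apply_apply _ _
    · intro y
      have e1 : (Φ (kW (Φ.symm (0, y)))).1 = 0 := by
        rw [← hΦ2, hkW]
        apply map_eig hkc
        rw [hΦ2, LinearEquiv.apply_symm_apply]
      have e2 : kW (Φ.symm (0, y)) = Φ.symm (0, (Φ (kW (Φ.symm (0, y)))).2) := by
        apply Φ.injective
        rw [LinearEquiv.apply_symm_apply]
        exact Prod.ext e1 rfl
      change (Φ ((slE hΦ S : h.W ≃ₗ[F] h.W)⁻¹ (kW (Φ.symm (0, y))))).1 = 0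
      have e3 : (slE hΦ S : h.W ≃ₗ[F] h.W)⁻¹ = (slE hΦ S⁻¹ : h.W ≃ₗ[F] h.W) := by
        rw [map_inv]
        rfl
      rw [e2, e3, slE_symm2, LinearEquiv.apply_symm_apply]
  have hkey' : kW = (slE hΦ S : h.W ≃ₗ[F] h.W) := by
    rw [inv_mul_eq_one] at hkey
    exact hkey.symm
  refine ⟨S, ?_⟩
  apply Subtype.ext
  apply LinearEquiv.ext
  intro v
  change (((embW h.ndW).extE (slE hΦ S) : ↥(E Q)) : V ≃ₗ[F] V) v = k v
  rw [Emb.extE_coe, ← hkey']
  have hv : v ∈ h.W ⊔ h.P := by rw [h.sup_top]; trivial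
  obtain ⟨u, hu, p, hp, rfl⟩ := Submodule.mem_sup.1 hv
  have e1 : (embW h.ndW).ext kW u = k u := by
    have e2 := (embW h.ndW).ext_j kW ⟨u, hu⟩
    rw [embW_j, embW_j, hkW] at e2
    exact e2
  have e3 : (embW h.ndW).ext kW p = p := by
    apply (embW h.ndW).ext_of_π_eq_zero
    rw [SUD.π_eq_zero_iff]
    intro w hw
    rw [polar_comm]
    exact h.polarWP hw hp
  rw [map_add, map_add, e1, e3, hkP p hp]

end CL

/-- the group `SL₃` in the centraliser of `c` -/
theorem sl3_data (h : CL Q c a b) :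
    ∃ φ : _root_.Matrix.SpecialLinearGroup (Fin 3) F →* ↥(E Q), Function.Injective φ ∧
      (∀ s v, ((φ s : ↥(E Q)) : V ≃ₗ[F] V) (c v) = c (((φ s : ↥(E Q)) : V ≃ₗ[F] V) v)) ∧
      (∀ f g : ↥(E Q), (∀ v, (f : V ≃ₗ[F] V) (c v) = c ((f : V ≃ₗ[F] V) v)) →
        (∀ v, (g : V ≃ₗ[F] V) (c v) = c ((g : V ≃ₗ[F] V) v)) → ⁅f, g⁆ ∈ φ.range) ∧
      ∃ Y : V →ₗ[F] V, Y ≠ 0 ∧ ∀ t : F, ∃ s, ∀ v, ((φ s : ↥(E Q)) : V ≃ₗ[F] V) v = v + t • Y v := by
  obtain ⟨Φ, hΦ, hΦ1, hΦ2⟩ := h.exists_coord
  exact ⟨(embW h.ndW).extE.comp (slE hΦ), (embW h.ndW).extE_injective.comp (slE_injective hΦ),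
    h.slE_comm hΦ hΦ1 hΦ2, h.der hΦ hΦ1 hΦ2, exists_one h.ndW hΦ⟩

end Cfsg.Agent.H338.RC.SLD
end

-- part: H338/RC/DeadSL
section
/-!
# S3510, triality type iii, MIXED (b) (helper338, second line)

`dead_sl3` : a member `g i` of odd order with eigenvalues `a, a⁻¹, b, b⁻¹` of multiplicities `3, 3, 1, 1`: contradiction.
-/

set_option autoImplicit false
open Cfsg

namespace Cfsg.Agent.H338.RC

open Module QuadraticMap MulAction
open Cfsg.Agent.LieClassical.OrthCore Cfsg.Agent.LieClassical.OrthTrans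
open Cfsg.Agent.LieClassical.OrthSimple Cfsg.Agent.LieClassical.QuadForms
open Cfsg.Agent.ClassicalGeometry.Triality Cfsg.Agent.H106.RC Cfsg.Agent.H93.RC Cfsg.Agent.H566.RC
open Cfsg.Agent.H198.TriAut Cfsg.Agent.H864.RC
open scoped commutatorElement

variable {F : Type} [Field F] {G Ω ι : Type} [Group G] [MulAction G Ω] {N : Subgroup G}
    {hG : Good (plusForm 4 F)} {κ : P8 F →* G} {s : F ≃+* F} {x₁ : G} {x : ι → G} {r : ι → ℕ}
    {g : ι → (V8 F ≃ₗ[F] V8 F)}

theorem dead_sl3 [Finite F] [Finite G] [Finite ι] [Nonempty Ω] (h : T3 hG N κ s Ω x₁ x r g) (hIH : IH (Nat.card N))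
    (hN : NoN Ω N) (i : ι) (hodd : r i ≠ 2) {a b : F} (ha : a ≠ 0) (hb : b ≠ 0) (haa : a * a ≠ 1) (hbb : b * b ≠ 1)
    (hab : a ≠ b) (hab1 : a * b ≠ 1) (h1 : finrank F (Eg (g i) a) = 3) (h2 : finrank F (Eg (g i) a⁻¹) = 3)
    (h3 : finrank F (Eg (g i) b) = 1) (h4 : finrank F (Eg (g i) b⁻¹) = 1) : False := by
  have hcl : SLD.CL (plusForm 4 F) (g i) a b := by
    refine ⟨E_le_O (h.mem i).1, hG.nondeg, ha, hb, haa, hbb, hab, hab1, h1, h2, h3, h4, ?_⟩
    rw [Module.finrank_fintype_fun_eq_card, Fintype.card_sum, Fintype.card_fin]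
  obtain ⟨φ, hφ, hcomm, hder, hY⟩ := SLD.sl3_data hcl
  obtain ⟨hperf, hS, hSn, hCl, hEx⟩ := SLD.sl3_facts (F := F)
  refine m_end h hIH hN hperf hS hSn hCl hEx φ hφ i hodd (fun s => LinearEquiv.ext (hcomm s)) ?_
    hY SLD.exists_three
  intro a b ha hb
  exact hder a b (fun v => congrArg (fun f : V8 F ≃ₗ[F] V8 F => f v) ha)
    (fun v => congrArg (fun f : V8 F ≃ₗ[F] V8 F => f v) hb)

end Cfsg.Agent.H338.RC
end

private theorem dce_3c17d3a0dfde : _root_.True := by
  try have : _root_.True := by simp only [_root_.Cfsg.Agent.H179.RC.slE.congr_simp]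
  exact _root_.True.intro
end

-- part: H322/RC/Desc
section
prune_inst 0xe15074043162100000000596d1001c4286000490000888000802014204818c0048024060bb20300a0088000400310068110000a0424000000e000400011c01800080000020400000020090000000000000000000000000000000000000010004000000002
set_option linter.all false
open scoped Cfsg.Agent.FastGrp

-- part: H322/RC/Base
section
/-!
# S3510, family E, box E11b: linear involutions for `n = 3`, `q` even (helper322)

* `lin_iso` : linear lifts preserve the form;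
* `transv_of_inv` : a linear isometry of order two (`n = 3`, characteristic two) is a transvection;
* `fix_of_comm` : an element commuting with a root element fixes its centre;
* `inv_transv` : a linear element of order two of `G` is a root element;
* `no_lin_two` : no cover with a linear member of order two, the others of odd order.
-/

set_option autoImplicit false

namespace Cfsg.Agent.H322.RC

open Matrix Cfsg Cfsg.Agent.LieClassical.HermBasic Cfsg.Agent.LieClassical.HermSiegel
  Cfsg.Agent.LieClassical.HermGen Cfsg.Agent.LieClassical.SUBasic Cfsg.Agent.ClassicalGeometry.PSUAutBasic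
  Cfsg.Agent.ClassicalGeometry.PSUAutCount Cfsg.Agent.LieClassical.FieldTransfer Cfsg.Agent.ClassicalGeometry
open Cfsg.Agent.H380.RC

section alg

variable {F : Type*} [Field F] [Fintype F] {n q : ℕ}

/-- linear isometries of order two in dimension three, characteristic two -/
theorem transv_of_inv (hF : Fintype.card F = q ^ 2) (hn : n = 3) (h2 : (2 : F) = 0) {g : (Fin n → F) → (Fin n → F)}
    (hadd : ∀ v w, g (v + w) = g v + g w) (hlin : Lin g)
    (hh : ∀ v w, hermForm n F q (g v) (g w) = hermForm n F q v w) (hgg : ∀ v, g (g v) = v) {v₀ : Fin n → F}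
    (hne : g v₀ ≠ v₀) :
    ∃ (u : Fin n → F) (_ : u ≠ 0) (hu : hermForm n F q u u = 0) (μ : F) (hμ : μ + μ ^ q = 0) (_ : μ ≠ 0),
      ∀ v, g v = act (transv hF u hu μ hμ) v := by
  have hV2 : ∀ v : Fin n → F, v + v = 0 := by
    intro v
    have : v + v = (2 : F) • v := by rw [two_smul]
    rw [this, h2, zero_smul]
  have hgneg : ∀ v w, g (v - w) = g v - g w := by
    intro v w
    rw [eq_sub_iff_add_eq, ← hadd, sub_add_cancel]
  let δ : Module.End F (Fin n → F) :=
    { toFun := fun v => g v - v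
      map_add' := fun v w => by rw [hadd]; abel
      map_smul' := fun c v => by rw [hlin, RingHom.id_apply, smul_sub] }
  have hδ : ∀ v, δ v = g v - v := fun v => rfl
  have hδδ : ∀ v, δ (δ v) = 0 := by
    intro v
    rw [hδ, hδ, hgneg, hgg]
    have h1 := hV2 v
    have h3 := hV2 (g v)
    have e : v - g v - (g v - v) = (v + v) - (g v + g v) := by abel
    rw [e, h1, h3, sub_zero]
  have hsa : ∀ v w, hermForm n F q (δ v) w = hermForm n F q v (δ w) := by
    intro v w
    rw [hδ, hδ, herm_sub_left, herm_sub_right hF, ← hh (g v) w, hgg]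
  have hle : LinearMap.range δ ≤ LinearMap.ker δ := by
    rintro _ ⟨v, rfl⟩
    exact hδδ v
  have hrk := δ.finrank_range_add_finrank_ker
  rw [Module.finrank_fin_fun] at hrk
  have hle' := Submodule.finrank_mono hle
  have h1 : Module.finrank F (LinearMap.range δ) ≤ 1 := by omega
  obtain ⟨u, hu⟩ : ∃ u, u = δ v₀ := ⟨_, rfl⟩
  have hu0 : u ≠ 0 := by
    rw [hu, hδ]
    exact sub_ne_zero.2 hne
  have hspan : Submodule.span F {u} = LinearMap.range δ := by
    apply Submodule.eq_of_le_of_finrank_le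
    · rw [Submodule.span_singleton_le_iff_mem]
      exact ⟨v₀, hu.symm⟩
    · rw [finrank_span_singleton hu0]
      exact h1
  have hL : ∀ v, ∃ a : F, a • u = δ v := by
    intro v
    have : δ v ∈ Submodule.span F {u} := by
      rw [hspan]
      exact ⟨v, rfl⟩
    exact Submodule.mem_span_singleton.1 this
  have hδu : δ u = 0 := by rw [hu]; exact hδδ _
  have huu : hermForm n F q u u = 0 := by
    nth_rewrite 1 [hu]
    rw [hsa, hδu, herm_zero_right hF]
  obtain ⟨w, hw⟩ := exists_herm_ne_zero hF hu0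
  obtain ⟨a, ha⟩ := hL w
  have hform : ∀ v, δ v = (a ^ q * (hermForm n F q u w)⁻¹ * hermForm n F q v u) • u := by
    intro v
    obtain ⟨b, hb⟩ := hL v
    have h3 := hsa v w
    rw [← ha, ← hb, herm_smul_left, herm_smul_right] at h3
    rw [← hb]
    congr 1
    field_simp
    linear_combination h3
  obtain ⟨μ, hμdef⟩ : ∃ μ, μ = a ^ q * (hermForm n F q u w)⁻¹ := ⟨_, rfl⟩
  rw [← hμdef] at hform
  have hμ0 : μ ≠ 0 := by
    rintro h0
    apply hu0
    rw [hu, hform, h0, zero_mul, zero_smul]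
  have hμ : μ + μ ^ q = 0 := by
    have h3 := hsa w w
    rw [hform w, herm_smul_left, herm_smul_right, mul_pow] at h3
    have h4 : (hermForm n F q w u) ^ q = hermForm n F q u w := (herm_swap hF w u).symm
    have hwu : hermForm n F q w u ≠ 0 := fun h0 => hw (herm_eq_zero_swap hF h0)
    rw [h4] at h3
    have h5 : (μ - μ ^ q) * (hermForm n F q w u * hermForm n F q u w) = 0 := by linear_combination h3
    rcases mul_eq_zero.1 h5 with h6 | h6
    · linear_combination h6 + μ ^ q * h2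
    · rcases mul_eq_zero.1 h6 with h7 | h7
      · exact absurd h7 hwu
      · exact absurd h7 hw
  refine ⟨u, hu0, huu, μ, hμ, hμ0, fun v => ?_⟩
  rw [act_transv, ← hform, hδ]
  abel

/-- square roots of norm one elements in characteristic two -/
theorem exists_sqrt (hF : Fintype.card F = q ^ 2) (h2 : (2 : F) = 0) {c : F} (hc : c * c ^ q = 1) :
    ∃ d : F, d * d = c ∧ d * d ^ q = 1 := by
  have hchar : CharP F 2 := CharTwo.of_one_ne_zero_of_two_eq_zero one_ne_zero h2
  obtain ⟨d, hd⟩ : ∃ d : F, d ^ 2 = c := by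
    have := surjective_frobenius F 2
    obtain ⟨d, hd⟩ := this c
    exact ⟨d, hd⟩
  refine ⟨d, by rw [← sq, hd], ?_⟩
  have h1 : (d * d ^ q) ^ 2 = 1 := by
    rw [← hd] at hc
    linear_combination hc
  have h3 : (d * d ^ q - 1) ^ 2 = 0 := by
    linear_combination h1 - (d * d ^ q - 1) * h2
  exact sub_eq_zero.1 (pow_eq_zero_iff two_ne_zero |>.1 h3)

end alg

section env

variable {G Ω : Type*} [Group G] [MulAction G Ω] {N : Subgroup G} {F : Type*} [Field F] [Fintype F] {n q : ℕ}
  {U : UEnv G Ω N F n q} {x : G} {f : (Fin n → F) → (Fin n → F)}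

theorem f_zero (h : U.Lft x f) : f 0 = 0 := Ind.map_zero h

theorem exists_ne (U : UEnv G Ω N F n q) : ∃ v : Fin n → F, v ≠ 0 := by
  have hn := U.hn
  refine ⟨fun _ => 1, fun h => one_ne_zero (congrFun h ⟨0, by omega⟩)⟩

/-- linear lifts preserve the form -/
theorem lin_iso (h : U.Lft x f) (hl : Lin f) (v w : Fin n → F) :
    hermForm n F q (f v) (f w) = hermForm n F q v w := by
  obtain ⟨ρ, hs, hh⟩ := Ind.exists_rho h
  obtain ⟨v₀, hv₀⟩ := exists_ne U
  have hfv : f v₀ ≠ 0 := by
    intro h0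
    rw [← f_zero h] at h0
    exact hv₀ (Ind.injective h h0)
  have hρ : ∀ a : F, ρ a = a := by
    intro a
    have h1 := hs a v₀
    rw [hl] at h1
    have h3 : (a - ρ a) • f v₀ = 0 := by rw [sub_smul, h1, sub_self]
    exact (sub_eq_zero.1 ((smul_eq_zero.1 h3).resolve_right hfv)).symm
  rw [hh, hρ]

/-- scalar lifts have norm one -/
theorem norm_of_scalar (U : UEnv G Ω N F n q) (h : U.Lft x f) {c : F} (hc : ∀ v, f v = c • v) : c * c ^ q = 1 := by
  obtain ⟨d, hd, hd'⟩ := U.lft_one.unique (x := 1) (g := f) (by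
    have : x = 1 := h.eq_one_iff.2 ⟨c, hc⟩
    rwa [this] at h)
  obtain ⟨v₀, hv₀⟩ := exists_ne U
  have h1 : (c - d) • v₀ = 0 := by rw [sub_smul, ← hc, hd', sub_self]
  have h3 := sub_eq_zero.1 ((smul_eq_zero.1 h1).resolve_right hv₀)
  rw [h3, hd]

/-- lifts of commuting elements, one of them a root element, commute -/
theorem comm_transv (h : U.Lft x f) {u : Fin n → F} {hu : hermForm n F q u u = 0} (hu0 : u ≠ 0) {μ : F}
    {hμ : μ + μ ^ q = 0}
    (hc : x * U.el (transv U.hF u hu μ hμ) = U.el (transv U.hF u hu μ hμ) * x) (v : Fin n → F) :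
    f (act (transv U.hF u hu μ hμ) v) = act (transv U.hF u hu μ hμ) (f v) := by
  have h1 := h.mul (U.lft_el (transv U.hF u hu μ hμ))
  have h2 := (U.lft_el (transv U.hF u hu μ hμ)).mul h
  rw [← hc] at h2
  obtain ⟨κ, -, hκ⟩ := h1.unique h2
  have hfu : f u ≠ 0 := by
    intro h0
    rw [← f_zero h] at h0
    exact hu0 (Ind.injective h h0)
  have h3 := hκ u
  rw [act_transv U.hF hu hμ u, hu, mul_zero, zero_smul, add_zero, act_transv] at h3
  have hκ1 : κ = 1 := by
    by_contra hne
    have h4 : (κ - 1) • f u = (μ * hermForm n F q (f u) u) • u := by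
      rw [sub_smul, one_smul, ← h3]; abel
    have h5 : f u = ((κ - 1)⁻¹ * (μ * hermForm n F q (f u) u)) • u := by
      rw [mul_smul, ← h4, smul_smul, inv_mul_cancel₀ (sub_ne_zero.2 hne), one_smul]
    have h6 : hermForm n F q (f u) u = 0 := by
      rw [h5, herm_smul_left, hu, mul_zero]
    rw [h6, mul_zero, zero_smul] at h4
    rcases smul_eq_zero.1 h4 with h7 | h7
    · exact hne (sub_eq_zero.1 h7)
    · exact hfu h7
  have h4 := hκ v
  rw [hκ1, one_smul] at h4
  exact h4.symm

/-- an element commuting with a root element fixes its centre -/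
theorem fix_of_comm (h : U.Lft x f) {u : Fin n → F} {hu : hermForm n F q u u = 0} (hu0 : u ≠ 0) {μ : F}
    {hμ : μ + μ ^ q = 0} (hμ0 : μ ≠ 0)
    (hc : x * U.el (transv U.hF u hu μ hμ) = U.el (transv U.hF u hu μ hμ) * x) : ∃ c : F, f u = c • u := by
  have h1 := comm_transv h hu0 hc
  obtain ⟨w, hw⟩ := exists_herm_ne_zero U.hF hu0
  have hw' : hermForm n F q w u ≠ 0 := fun h0 => hw (herm_eq_zero_swap U.hF h0)
  obtain ⟨v, hv⟩ : ∃ v, v = (μ * hermForm n F q w u)⁻¹ • w := ⟨_, rfl⟩
  have hv1 : μ * hermForm n F q v u = 1 := by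
    rw [hv, herm_smul_left]
    field_simp
  have h3 := h1 v
  rw [act_transv, act_transv, hv1, one_smul, Ind.map_add h, add_right_inj] at h3
  exact ⟨_, h3⟩

/-- an element commuting with a root group: the field automorphism and the norm of the eigenvalue -/
theorem rho_of_comm (h : U.Lft x f) {ρ : F ≃+* F} (hs : ∀ (c : F) (v : Fin n → F), f (c • v) = ρ c • f v)
    (hh : ∀ u v, hermForm n F q (f u) (f v) = ρ (hermForm n F q u v)) {u : Fin n → F}
    {hu : hermForm n F q u u = 0} (hu0 : u ≠ 0) {c : F} (hcu : f u = c • u) {μ : F}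
    {hμ : μ + μ ^ q = 0}
    (hc : x * U.el (transv U.hF u hu μ hμ) = U.el (transv U.hF u hu μ hμ) * x) : c * c ^ q * ρ μ = μ := by
  have h1 := comm_transv h hu0 hc
  obtain ⟨w, hw⟩ := exists_herm_ne_zero U.hF hu0
  have hw' : hermForm n F q w u ≠ 0 := fun h0 => hw (herm_eq_zero_swap U.hF h0)
  have hc0 : c ≠ 0 := by
    rintro rfl
    rw [zero_smul, ← f_zero h] at hcu
    exact hu0 (Ind.injective h hcu)
  have h3 := h1 w
  rw [act_transv, act_transv, Ind.map_add h, add_right_inj, hs, hcu, smul_smul] at h3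
  have h4 : (ρ (μ * hermForm n F q w u) * c - μ * hermForm n F q (f w) u) • u = 0 := by
    rw [sub_smul, h3, sub_self]
  have h5 := sub_eq_zero.1 ((smul_eq_zero.1 h4).resolve_right hu0)
  have h6 := hh w u
  rw [hcu, herm_smul_right] at h6
  rw [map_mul, ← h6] at h5
  have h7 : hermForm n F q (f w) u ≠ 0 := by
    intro h0
    rw [h0, mul_zero] at h6
    exact hw' ((map_eq_zero_iff ρ ρ.injective).1 h6.symm)
  have h8 : (c * c ^ q * ρ μ - μ) * hermForm n F q (f w) u = 0 := by linear_combination h5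
  exact sub_eq_zero.1 ((mul_eq_zero.1 h8).resolve_right h7)

/-- **Linear elements of order two are root elements.** -/
theorem inv_transv (U : UEnv G Ω N F n q) (hn : n = 3) (h2 : (2 : F) = 0) (h : U.Lft x f) (hl : Lin f)
    (hx : x ^ 2 = 1) (hx1 : x ≠ 1) :
    ∃ (u : Fin n → F) (_ : u ≠ 0) (hu : hermForm n F q u u = 0) (μ : F) (hμ : μ + μ ^ q = 0) (_ : μ ≠ 0),
      x = U.el (transv U.hF u hu μ hμ) := by
  obtain ⟨c, hc⟩ := (h.pow 2).eq_one_iff.1 hx
  have hcc := norm_of_scalar U (h.pow 2) hc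
  obtain ⟨d, hd, hdd⟩ := exists_sqrt U.hF h2 hcc
  have hd0 : d ≠ 0 := by
    rintro rfl
    rw [zero_mul] at hdd
    exact zero_ne_one hdd
  have hdi : d⁻¹ * (d⁻¹) ^ q = 1 := by rw [inv_pow, ← mul_inv, hdd, inv_one]
  obtain ⟨g, hg⟩ : ∃ g : (Fin n → F) → (Fin n → F), g = fun v => d⁻¹ • f v := ⟨_, rfl⟩
  have hgL : U.Lft x g := by rw [hg]; exact h.scalar hdi
  have hgl : Lin g := by
    intro a v
    rw [hg]
    change d⁻¹ • f (a • v) = a • d⁻¹ • f v
    rw [hl, smul_comm]
  have hgg : ∀ v, g (g v) = v := by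
    intro v
    rw [hg]
    change d⁻¹ • f (d⁻¹ • f v) = v
    have h3 := hc v
    rw [Function.iterate_succ_apply, Function.iterate_one] at h3
    rw [hl, h3, smul_smul, smul_smul, ← hd]
    field_simp
    rw [one_smul]
  obtain ⟨v₀, hv₀⟩ : ∃ v₀, g v₀ ≠ v₀ := by
    by_contra hcon
    push Not at hcon
    exact hx1 (hgL.eq_one_iff.2 ⟨1, fun v => by rw [hcon, one_smul]⟩)
  obtain ⟨u, hu0, hu, μ, hμ, hμ0, hact⟩ := transv_of_inv U.hF hn h2 (Ind.map_add hgL) hgl (lin_iso hgL hgl) hgg hv₀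
  refine ⟨u, hu0, hu, μ, hμ, hμ0, ?_⟩
  have h4 := U.lft_el (transv U.hF u hu μ hμ)
  have h5 : g = act (transv U.hF u hu μ hμ) := funext hact
  rw [h5] at hgL
  exact hgL.inj h4

/-- odd primes are prime to `q` -/
theorem coprime_of_two (U : UEnv G Ω N F n q) (h2 : (2 : F) = 0) {r : ℕ} (hr : r.Prime) (hr2 : r ≠ 2) :
    r.Coprime q := by
  obtain ⟨p, k, hp, hchar, hk, hk0⟩ := exists_prime_pow U.hF
  have h1 : p ∣ 2 := (CharP.cast_eq_zero_iff F p 2).1 (by exact_mod_cast h2)
  have h3 : p = 2 := (Nat.prime_dvd_prime_iff_eq hp Nat.prime_two).1 h1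
  rw [hk, h3]
  exact ((Nat.coprime_primes hr Nat.prime_two).2 hr2).pow_right k

end env

section nolin

variable {G Ω : Type*} [Group G] [Finite G] [MulAction G Ω] [Nonempty Ω] {N : Subgroup G} {F : Type*} [Field F]
  [Fintype F] {n q : ℕ}

/-- **No cover with a linear member of order two, the others of odd order.** -/
theorem no_lin_two (U : UEnv G Ω N F n q) (hn : n = 3) (h2 : (2 : F) = 0) {ι : Type*} [Finite ι] {x : ι → G}
    {f : ι → (Fin n → F) → (Fin n → F)} {r : ι → ℕ} (hfam : UFam U x f r) (hcov : H106.RC.Cov Ω x) {s : ι}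
    (hl : Lin (f s)) (hs : r s = 2) : False := by
  obtain ⟨u, hu0, hu, μ, hμ, hμ0, hx⟩ := inv_transv U hn h2 (hfam.lft s) hl (by rw [← hs]; exact hfam.pf.pow s)
    (hfam.pf.ne s)
  refine U.root (ι := {j : ι // j ≠ s}) (x := fun j => x j.1) (f := fun j => f j.1) (r := fun j => r j.1)
    (fun j => hfam.pf.prime _) (fun j => coprime_of_two U h2 (hfam.pf.prime _) ?_) (fun j => hfam.pf.pow _)
    (fun j => hfam.pf.ne _) (fun i j => hfam.pf.comm _ _) (fun j => hfam.lft _) hu0 hu (fun j => ?_) hμ hμ0 (fun ω => ?_)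
  · intro h
    exact j.2 (hfam.pf.inj (h.trans hs.symm))
  · refine fix_of_comm (hu := hu) (hμ := hμ) (hfam.lft _) hu0 hμ0 ?_
    rw [← hx]
    exact hfam.pf.comm _ _
  · obtain ⟨j, hj⟩ := hcov ω
    by_cases hjs : j = s
    · left
      rw [← hx, ← hjs]
      exact hj
    · exact Or.inr ⟨⟨j, hjs⟩, hj⟩

end nolin

end Cfsg.Agent.H322.RC
end

-- part: H322/RC/Plane
section
/-!
# S3510, family E, box E11b: the rule for an invariant nondegenerate plane (helper322)

* `CenA U A x` : `x` commutes with the root elements with centre in `A`;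
* `plane` : `A` an invariant nondegenerate plane, `q ≥ 4`, at most one member satisfies `CenA`, and this member is
  not linear : no cover;
* `scal_of_cen` : a linear member with `CenA` is a scalar on `A`;
* `rho_of_cen` : the field automorphism of an element with `CenA` fixes the trace zero elements up to a norm.
-/

set_option autoImplicit false

namespace Cfsg.Agent.H322.RC

open Matrix Cfsg Module Cfsg.Agent.LieClassical.HermBasic Cfsg.Agent.LieClassical.HermSiegel
  Cfsg.Agent.LieClassical.HermGen Cfsg.Agent.LieClassical.SUBasic Cfsg.Agent.ClassicalGeometry.PSUAutBasic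
  Cfsg.Agent.ClassicalGeometry.PSUAutCount Cfsg.Agent.LieClassical.FieldTransfer Cfsg.Agent.ClassicalGeometry
open Cfsg.Agent.H380.RC Cfsg.Agent.H452.RC
open Cfsg.Agent.H189.SN (ON phi Im phi_Im phi_perp phi_injective pr_phi_injective decomp Im_mulVec Im_injective
  herm_Im)

section cen

variable {G Ω : Type*} [Group G] [MulAction G Ω] {N : Subgroup G} {F : Type*} [Field F] [Fintype F] {n q : ℕ}

/-- `x` commutes with the root elements with centre in `A` -/
def CenA (U : UEnv G Ω N F n q) (A : Submodule F (Fin n → F)) (x : G) : Prop :=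
  ∀ e ∈ A, ∀ (he : hermForm n F q e e = 0) (μ : F) (hμ : μ + μ ^ q = 0),
    x * U.el (transv U.hF e he μ hμ) = U.el (transv U.hF e he μ hμ) * x

/-- a nondegenerate plane contains a singular vector -/
theorem exists_sing_mem (hF : Fintype.card F = q ^ 2) {A : Submodule F (Fin n → F)} (hA : NDeg q A)
    (hA2 : finrank F A = 2) : ∃ e ∈ A, e ≠ 0 ∧ hermForm n F q e e = 0 := by
  obtain ⟨b, hb, hbA, -⟩ := exists_basis hF hA hA2
  obtain ⟨e, he0, he⟩ := exists_sing (F := F) (q := q) (m := 2) hF le_rfl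
  refine ⟨Im b *ᵥ e, hbA e, ?_, by rw [herm_Im hF hb, he]⟩
  intro h
  apply he0
  apply Im_injective hb
  change Im b *ᵥ e = Im b *ᵥ 0
  rw [h, mulVec_zero]

end cen

section plane

variable {G Ω : Type} [Group G] [Finite G] [Finite Ω] [Nonempty Ω] [MulAction G Ω] {N : Subgroup G} {F : Type} [Field F]
  [Fintype F] {n q : ℕ}

/-- **The plane rule.** -/
theorem plane (U : UEnv G Ω N F n q) (hq : 4 ≤ q) {ι : Type} [Finite ι] {x : ι → G}
    {f : ι → (Fin n → F) → (Fin n → F)} {r : ι → ℕ} (hpf : H106.RC.PF x r) (hlft : ∀ i, U.Lft (x i) (f i))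
    (hcov : H106.RC.Cov Ω x) {A : Submodule F (Fin n → F)} (hA : NDeg q A) (hA2 : finrank F A = 2)
    (hst : ∀ i, Stab (f i) A) (hRC : H106.RC.RC (PSU 2 F q)) (hJ : ∀ j, CenA U A (x j) → ¬ Lin (f j))
    (hJ1 : ∀ i j, CenA U A (x i) → CenA U A (x j) → i = j) : False := by
  classical
  obtain ⟨b, hb, hbA, hAb⟩ := exists_basis U.hF hA hA2
  have hn := U.hn
  have hmn : 2 < n := by omega
  have hinv : ∀ i j, ∃ c, f i (b j) = Im b *ᵥ c := by
    intro i j
    apply hAb
    apply hst i
    have h1 := hbA (Pi.single j 1)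
    rwa [Im_mulVec, Finset.sum_eq_single j, Pi.single_eq_same, one_smul] at h1
    · intro k _ hk
      rw [Pi.single_eq_of_ne hk, zero_smul]
    · intro h
      exact absurd (Finset.mem_univ j) h
  have hM : ∀ ω : Ω, MM U hb ≤ MulAction.stabilizer G ω ∨
      ∃ j, (∀ y ∈ MM U hb, x j * y = y * x j) ∧ x j • ω = ω := fun ω =>
    H106.RC.mrule_RC (simple_two U.hF hq) (nc_two U.hF hq) x r hpf.prime hpf.inj hpf.pow hpf.comm (MM U hb)
      (MM_perf U hb (comm_two U.hF hq)) (pi U hb hmn) (pi_surjective U hb hmn) (pi_ker U hb hmn)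
      (fun i => mem_normalizer U hb (hlft i) (hinv i)) hRC ω (fun m _ => hcov _)
  -- root elements of `A` are in `MM`
  have hroot : ∀ e ∈ A, ∀ (he : hermForm n F q e e = 0) (μ : F) (hμ : μ + μ ^ q = 0),
      U.el (transv U.hF e he μ hμ) ∈ MM U hb := by
    intro e he' he μ hμ
    obtain ⟨c, rfl⟩ := hAb e he'
    have hc : hermForm 2 F q c c = 0 := by rw [← herm_Im U.hF hb, he]
    rw [← phi_transv U.hF hb hc he hμ]
    exact ph_mem U hb _
  have hcen : ∀ j, (∀ y ∈ MM U hb, x j * y = y * x j) → CenA U A (x j) := fun j hj e he' he μ hμ =>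
    hj _ (hroot e he' he μ hμ)
  obtain ⟨e, heA, he0, he⟩ := exists_sing_mem U.hF hA hA2
  obtain ⟨μ, hμ0, hμ⟩ := exists_trace_zero_ne (F := F) (q := q) U.hF
  have hne := U.el_transv_ne he he0 hμ hμ0
  by_cases hex : ∃ j, CenA U A (x j)
  · obtain ⟨j, hj⟩ := hex
    obtain ⟨c, hc⟩ := fix_of_comm (hu := he) (hμ := hμ) (hlft j) he0 hμ0 (hj e heA he μ hμ)
    refine U.root_one (hlft j) he0 he hc (hJ j hj) hμ hμ0 (fun ω => ?_)
    rcases hM ω with h | ⟨k, hk, h⟩
    · exact Or.inl (h (hroot e heA he μ hμ))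
    · right
      rw [hJ1 j k hj (hcen k hk)]
      exact h
  · push Not at hex
    refine hne (U.env.single fun ω => ?_)
    rcases hM ω with h | ⟨k, hk, -⟩
    · exact h (hroot e heA he μ hμ)
    · exact absurd (hcen k hk) (hex k)

/-- a linear element with `CenA` is a scalar on `A` -/
theorem scal_of_cen (U : UEnv G Ω N F n q) {x : G} {f : (Fin n → F) → (Fin n → F)}
    (h : U.Lft x f) (hl : Lin f) {A : Submodule F (Fin n → F)} (hA : NDeg q A) (hA2 : finrank F A = 2)
    (hc : CenA U A x) : ScalOn f A := by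
  obtain ⟨b, hb, hbA, hAb⟩ := exists_basis U.hF hA hA2
  obtain ⟨μ, hμ0, hμ⟩ := exists_trace_zero_ne (F := F) (q := q) U.hF
  have hF := U.hF
  -- singular vectors of `A` are eigenvectors
  have hsing : ∀ e ∈ A, hermForm n F q e e = 0 → ∃ c : F, f e = c • e := by
    intro e he' he
    by_cases he0 : e = 0
    · exact ⟨0, by rw [he0, f_zero h, smul_zero]⟩
    · exact fix_of_comm (hu := he) (hμ := hμ) h he0 hμ0 (hc e he' he μ hμ)
  obtain ⟨t, ht, htn⟩ := exists_three (F := F) (q := q) hF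
  have hb0 : ∀ i, b i ∈ A := by
    intro i
    have h1 := hbA (Pi.single i 1)
    rwa [Im_mulVec, Finset.sum_eq_single i, Pi.single_eq_same, one_smul] at h1
    · intro k _ hk
      rw [Pi.single_eq_of_ne hk, zero_smul]
    · intro h
      exact absurd (Finset.mem_univ i) h
  obtain ⟨v, hv⟩ : ∃ v : Fin 3 → (Fin n → F), ∀ i, v i = b 0 + t i • b 1 := ⟨_, fun i => rfl⟩
  have hvA : ∀ i, v i ∈ A := fun i => by rw [hv]; exact A.add_mem (hb0 0) (A.smul_mem _ (hb0 1))
  have h01 : hermForm n F q (b 0) (b 1) = 0 := by rw [hb]; simp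
  have h10 : hermForm n F q (b 1) (b 0) = 0 := by rw [hb]; simp
  have h00 : hermForm n F q (b 0) (b 0) = 1 := by rw [hb]; simp
  have h11 : hermForm n F q (b 1) (b 1) = 1 := by rw [hb]; simp
  have hvs : ∀ i, hermForm n F q (v i) (v i) = 0 := by
    intro i
    rw [hv, herm_add_left, herm_add_right hF, herm_add_right hF, herm_smul_left, herm_smul_left, herm_smul_right,
      herm_smul_right, h01, h10, h00, h11]
    linear_combination htn i
  have hev : ∀ i, ∃ c : F, f (v i) = c • v i := fun i => hsing _ (hvA i) (hvs i)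
  choose c hc' using hev
  -- the independence of `b 0, b 1`
  have hind : ∀ a a' : F, a • b 0 + a' • b 1 = 0 → a = 0 ∧ a' = 0 := by
    intro a a' haa
    have e0 := congrArg (fun w => hermForm n F q w (b 0)) haa
    have e1 := congrArg (fun w => hermForm n F q w (b 1)) haa
    simp only [herm_add_left, herm_smul_left, herm_zero_left, h00, h10, h01, h11] at e0 e1
    exact ⟨by linear_combination e0, by linear_combination e1⟩
  have hkey : ∀ i, f (b 0) + t i • f (b 1) = c i • b 0 + (c i * t i) • b 1 := by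
    intro i
    have h1 := hc' i
    rw [hv, Ind.map_add h, hl, smul_add, smul_smul] at h1
    exact h1
  have hne01 : t 0 - t 1 ≠ 0 := sub_ne_zero.2 fun h => absurd (ht h) (by decide)
  have hne02 : t 0 - t 2 ≠ 0 := sub_ne_zero.2 fun h => absurd (ht h) (by decide)
  have hne12 : t 1 - t 2 ≠ 0 := sub_ne_zero.2 fun h => absurd (ht h) (by decide)
  -- `f (b 1)` from two of the equations
  have hd : ∀ i j, (t i - t j) • f (b 1) = (c i - c j) • b 0 + (c i * t i - c j * t j) • b 1 := by
    intro i j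
    have e1 := hkey i
    have e2 := hkey j
    have e3 : (t i - t j) • f (b 1) = (f (b 0) + t i • f (b 1)) - (f (b 0) + t j • f (b 1)) := by
      rw [sub_smul]; abel
    rw [e3, e1, e2, sub_smul, sub_smul]
    abel
  have hcmp : ((t 0 - t 2) * (c 0 - c 1) - (t 0 - t 1) * (c 0 - c 2)) • b 0 +
      ((t 0 - t 2) * (c 0 * t 0 - c 1 * t 1) - (t 0 - t 1) * (c 0 * t 0 - c 2 * t 2)) • b 1 = 0 := by
    have e1 := congrArg (fun w => (t 0 - t 2) • w) (hd 0 1)
    have e2 := congrArg (fun w => (t 0 - t 1) • w) (hd 0 2)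
    rw [smul_smul, smul_add, smul_smul, smul_smul] at e1 e2
    rw [mul_comm (t 0 - t 1) (t 0 - t 2)] at e2
    have e3 := e1.symm.trans e2
    rw [sub_smul, sub_smul]
    have e4 := sub_eq_zero.2 e3
    rw [← e4]
    abel
  obtain ⟨g1, g2⟩ := hind _ _ hcmp
  -- hence `c 0 = c 1 = c 2`
  have hc01 : c 0 = c 1 := by
    have e : (t 0 - t 1) * ((t 0 - t 2) * ((t 1 - t 2) * (c 0 - c 1))) = 0 := by
      linear_combination (t 0 - t 1) * (g2 - t 2 * g1)
    rcases mul_eq_zero.1 e with h1 | h1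
    · exact absurd h1 hne01
    · rcases mul_eq_zero.1 h1 with h1 | h1
      · exact absurd h1 hne02
      · rcases mul_eq_zero.1 h1 with h1 | h1
        · exact absurd h1 hne12
        · exact sub_eq_zero.1 h1
  have hb1 : f (b 1) = c 0 • b 1 := by
    have e := hd 0 1
    rw [← hc01, sub_self, zero_smul, zero_add, ← mul_sub, mul_comm, mul_smul] at e
    exact smul_right_injective _ hne01 e
  have hb0' : f (b 0) = c 0 • b 0 := by
    have e := hkey 0
    rw [hb1, smul_smul, mul_comm (t 0) (c 0)] at e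
    exact add_right_cancel e
  refine ⟨c 0, fun w hw => ?_⟩
  obtain ⟨d, rfl⟩ := hAb w hw
  rw [Im_mulVec, Fin.sum_univ_two, Ind.map_add h, hl, hl, hb1, hb0', smul_add, smul_comm (c 0), smul_comm (c 0)]

/-- the field automorphism of an element with `CenA` -/
theorem rho_of_cen (U : UEnv G Ω N F n q) {x : G} {f : (Fin n → F) → (Fin n → F)}
    (h : U.Lft x f) {ρ : F ≃+* F} (hs : ∀ (c : F) (v : Fin n → F), f (c • v) = ρ c • f v)
    (hh : ∀ u v, hermForm n F q (f u) (f v) = ρ (hermForm n F q u v)) {A : Submodule F (Fin n → F)} (hA : NDeg q A)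
    (hA2 : finrank F A = 2) (hc : CenA U A x) :
    ∃ c : F, c ≠ 0 ∧ ∀ μ : F, μ + μ ^ q = 0 → c * ρ μ = μ := by
  obtain ⟨e, heA, he0, he⟩ := exists_sing_mem U.hF hA hA2
  obtain ⟨μ, hμ0, hμ⟩ := exists_trace_zero_ne (F := F) (q := q) U.hF
  obtain ⟨c, hce⟩ := fix_of_comm (hu := he) (hμ := hμ) h he0 hμ0 (hc e heA he μ hμ)
  refine ⟨c * c ^ q, ?_, fun ν hν => rho_of_comm (hu := he) (hμ := hν) h hs hh he0 hce (hc e heA he ν hν)⟩
  intro h0
  have h1 := rho_of_comm (hu := he) (hμ := hμ) h hs hh he0 hce (hc e heA he μ hμ)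
  rw [h0, zero_mul] at h1
  exact hμ0 h1.symm

end plane

end Cfsg.Agent.H322.RC
end

-- part: H322/RC/Graph
section
/-!
# S3510, family E, box E11b: a graph involution, `n = 3`, `q ≥ 4` even (helper322)

`f₂` a `q`-semilinear lift with `f₂² = 1`; `h(v, f₂ v)` is the square of a linear functional `h(v, u₀)`; the vector `u₀`
is fixed by all the lifts of the family, `h(u₀, u₀) = 1`, and the plane `A = u₀^⊥` is used.
-/

set_option autoImplicit false

namespace Cfsg.Agent.H322.RC

open Matrix Cfsg Module Cfsg.Agent.LieClassical.HermBasic Cfsg.Agent.LieClassical.HermSiegel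
  Cfsg.Agent.LieClassical.HermGen Cfsg.Agent.LieClassical.SUBasic Cfsg.Agent.ClassicalGeometry.PSUAutBasic
  Cfsg.Agent.ClassicalGeometry.PSUAutCount Cfsg.Agent.LieClassical.FieldTransfer Cfsg.Agent.ClassicalGeometry
open Cfsg.Agent.H380.RC
open Cfsg.Agent.CpAutU.Fld Cfsg.Agent.CpAut.Psl Cfsg.Agent.CpAut.Descent

section field

variable {F : Type*} [Field F] [Fintype F] {q : ℕ}

theorem one_of_sq (h2 : (2 : F) = 0) {c : F} (hc : c * c = 1) : c = 1 := by
  have h3 : (c - 1) ^ 2 = 0 := by linear_combination hc - (c - 1) * h2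
  exact sub_eq_zero.1 ((pow_eq_zero_iff two_ne_zero).1 h3)

theorem sq_inj (h2 : (2 : F) = 0) {a b : F} (h : a ^ 2 = b ^ 2) : a = b := by
  have h3 : (a - b) ^ 2 = 0 := by linear_combination h - (a * b - b ^ 2) * h2
  exact sub_eq_zero.1 ((pow_eq_zero_iff two_ne_zero).1 h3)

/-- the involutory field automorphism -/
theorem rho_eq_pow (hF : Fintype.card F = q ^ 2) {ρ : F ≃+* F} (h : ∀ a, ρ (ρ a) = a) (hne : ∃ a, ρ a ≠ a) (a : F) :
    ρ a = a ^ q := by
  classical
  have hord : orderOf ρ = 2 := by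
    apply orderOf_eq_prime
    · ext a
      rw [sq]
      exact h a
    · rintro rfl
      obtain ⟨a, ha⟩ := hne
      exact ha rfl
  have hcard := card_fixf hord
  rw [hF] at hcard
  have hc : Nat.card ↥(fixf ρ) = q := (Nat.pow_left_injective (n := 2) two_ne_zero hcard).symm
  have hfix : ∀ b : F, b ^ q = b → ρ b = b := by
    have h1 := card_fixed hF
    letI : Fintype ↥(fixf ρ) := Fintype.ofFinite _
    let φ : ↥(fixf ρ) → {x : F // x ^ q = x} := fun b => ⟨b, by
      have := pow_card b.2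
      rwa [hc] at this⟩
    have hφi : Function.Injective φ := fun b b' hb => Subtype.ext (congrArg (fun z : {x : F // x ^ q = x} => (z : F)) hb)
    have hφ : Function.Bijective φ := by
      rw [Fintype.bijective_iff_injective_and_card]
      refine ⟨hφi, ?_⟩
      rw [← Nat.card_eq_fintype_card, ← Nat.card_eq_fintype_card, hc, h1]
    intro b hb
    obtain ⟨b', hb'⟩ := hφ.2 ⟨b, hb⟩
    have h3 : (b' : F) = b := congrArg Subtype.val hb'
    rw [← h3]
    exact mem_fixf.1 b'.2
  have hfix' : ∀ b : F, ρ b = b → b ^ q = b := by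
    intro b hb
    have := pow_card (mem_fixf.2 hb)
    rwa [hc] at this
  have e1 : (a + ρ a) ^ q = a + ρ a := hfix' _ (by rw [map_add, h, add_comm])
  have e2 : (a * ρ a) ^ q = a * ρ a := hfix' _ (by rw [map_mul, h, mul_comm])
  rw [add_pow_q hF] at e1
  rw [mul_pow] at e2
  have e3 : (a ^ q - a) * (a ^ q - ρ a) = 0 := by
    linear_combination (a ^ q) * e1 - e2
  rcases mul_eq_zero.1 e3 with h1 | h1
  · have h3 := sub_eq_zero.1 h1
    rw [hfix a h3, h3]
  · exact (sub_eq_zero.1 h1).symm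

end field

section lin

variable {F : Type*} [Field F] [Fintype F] {n q : ℕ}

/-- the hyperplane of a vector -/
def perp (hF : Fintype.card F = q ^ 2) (u : Fin n → F) : Submodule F (Fin n → F) where
  carrier := {v | hermForm n F q v u = 0}
  add_mem' := by
    intro v w hv hw
    change hermForm n F q (v + w) u = 0
    rw [herm_add_left, show hermForm n F q v u = 0 from hv, show hermForm n F q w u = 0 from hw, add_zero]
  zero_mem' := herm_zero_left u
  smul_mem' := by
    intro c v hv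
    change hermForm n F q (c • v) u = 0
    rw [herm_smul_left, show hermForm n F q v u = 0 from hv, mul_zero]

theorem mem_perp (hF : Fintype.card F = q ^ 2) {u v : Fin n → F} : v ∈ perp hF u ↔ hermForm n F q v u = 0 := Iff.rfl

theorem finrank_perp (hF : Fintype.card F = q ^ 2) {u : Fin n → F} (hu : u ≠ 0) : finrank F (perp hF u) + 1 = n := by
  let L : (Fin n → F) →ₗ[F] F :=
    { toFun := fun v => hermForm n F q v u
      map_add' := fun v w => herm_add_left v w u
      map_smul' := fun c v => herm_smul_left c v u }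
  have h1 := L.finrank_range_add_finrank_ker
  have h2 : LinearMap.ker L = perp hF u := by
    ext v
    rfl
  have h3 : finrank F (LinearMap.range L) = 1 := by
    have h4 : LinearMap.range L = ⊤ := by
      rw [LinearMap.range_eq_top]
      intro c
      obtain ⟨v, hv⟩ := exists_herm_ne_zero hF hu
      have hv' : hermForm n F q v u ≠ 0 := fun h0 => hv (herm_eq_zero_swap hF h0)
      refine ⟨(c * (hermForm n F q v u)⁻¹) • v, ?_⟩
      change hermForm n F q _ u = c
      rw [herm_smul_left, mul_assoc, inv_mul_cancel₀ hv', mul_one]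
    rw [h4, finrank_top, finrank_self]
  rw [h2, h3, finrank_fin_fun] at h1
  omega

theorem ndeg_perp (hF : Fintype.card F = q ^ 2) {u : Fin n → F} (hu : hermForm n F q u u ≠ 0) :
    NDeg q (perp hF u) := by
  intro v hv h
  apply herm_nondeg hF
  intro w
  obtain ⟨c, hc⟩ : ∃ c, c = hermForm n F q w u * (hermForm n F q u u)⁻¹ := ⟨_, rfl⟩
  have h1 : w - c • u ∈ perp hF u := by
    rw [mem_perp, herm_sub_left, herm_smul_left, hc, mul_assoc, inv_mul_cancel₀ hu, mul_one, sub_self]
  have h2 := h _ h1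
  rw [herm_sub_right hF, herm_smul_right, show hermForm n F q v u = 0 from hv, mul_zero, sub_zero] at h2
  exact h2

end lin

section sqrt

variable {F : Type*} [Field F] [Fintype F] {n q : ℕ}

/-- the vector `u₀` -/
theorem exists_u (hF : Fintype.card F = q ^ 2) (h2 : (2 : F) = 0) {T : (Fin n → F) → (Fin n → F)}
    (hadd : ∀ v w, T (v + w) = T v + T w) (hs : ∀ (c : F) v, T (c • v) = c ^ q • T v)
    (hh : ∀ v w, hermForm n F q (T v) (T w) = (hermForm n F q v w) ^ q) (hTT : ∀ v, T (T v) = v) :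
    ∃ u : Fin n → F, ∀ v, (hermForm n F q v u) ^ 2 = hermForm n F q v (T v) := by
  have hchar : CharP F 2 := CharTwo.of_one_ne_zero_of_two_eq_zero one_ne_zero h2
  have hsym : ∀ v w, hermForm n F q w (T v) = hermForm n F q v (T w) := by
    intro v w
    rw [← hTT w, ← pow_q_inj hF, ← herm_swap hF, hTT, ← hh v, herm_swap hF (T (T w)), hTT, ← herm_swap hF]
  let R := frobeniusEquiv F 2
  have hR : ∀ a : F, (R.symm a) ^ 2 = a := fun a => frobeniusEquiv_symm_pow_p F 2 a
  let L : (Fin n → F) →ₗ[F] F :=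
    { toFun := fun v => R.symm (hermForm n F q v (T v))
      map_add' := fun v w => by
        rw [hadd, herm_add_left, herm_add_right hF, herm_add_right hF, hsym v w]
        have e : hermForm n F q v (T v) + hermForm n F q v (T w) + (hermForm n F q v (T w) + hermForm n F q w (T w)) =
            hermForm n F q v (T v) + hermForm n F q w (T w) := by
          linear_combination hermForm n F q v (T w) * h2
        rw [e, map_add]
      map_smul' := fun c v => by
        rw [hs, herm_smul_left, herm_smul_right, pow_q_pow_q hF, RingHom.id_apply, smul_eq_mul]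
        apply sq_inj h2
        rw [hR, mul_pow, hR]
        ring }
  obtain ⟨u, hu⟩ := exists_rep hF L
  exact ⟨u, fun v => by rw [hu]; exact hR _⟩

/-- `u₀` is not singular -/
theorem herm_u (hF : Fintype.card F = q ^ 2) (hn : n = 3) (h2 : (2 : F) = 0) {T : (Fin n → F) → (Fin n → F)}
    (hadd : ∀ v w, T (v + w) = T v + T w) (hs : ∀ (c : F) v, T (c • v) = c ^ q • T v)
    (hh : ∀ v w, hermForm n F q (T v) (T w) = (hermForm n F q v w) ^ q) (hTT : ∀ v, T (T v) = v)
    {u : Fin n → F} (hu : ∀ v, (hermForm n F q v u) ^ 2 = hermForm n F q v (T v)) (hTu : T u = u) :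
    hermForm n F q u u ≠ 0 := by
  have hsym : ∀ v w, hermForm n F q w (T v) = hermForm n F q v (T w) := by
    intro v w
    rw [← hTT w, ← pow_q_inj hF, ← herm_swap hF, hTT, ← hh v, herm_swap hF (T (T w)), hTT, ← herm_swap hF]
  intro huu
  by_cases hu0 : u = 0
  · -- an alternating nondegenerate form in dimension 3
    have halt : ∀ v, hermForm n F q v (T v) = 0 := by
      intro v
      rw [← hu v, hu0, herm_zero_right hF]
      ring
    obtain ⟨a, ha⟩ : ∃ a : Fin n → F, a ≠ 0 := by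
      refine ⟨fun _ => 1, fun h => one_ne_zero (congrFun h ⟨0, by omega⟩)⟩
    obtain ⟨b', hb'⟩ := exists_herm_ne_zero hF ha
    obtain ⟨b, hb⟩ : ∃ b, hermForm n F q a (T b) = 1 := by
      refine ⟨(hermForm n F q a b')⁻¹ • T b', ?_⟩
      rw [hs, hTT, herm_smul_right, pow_q_pow_q hF, inv_mul_cancel₀ hb']
    obtain ⟨c, hc0, hca, hcb⟩ : ∃ c : Fin n → F, c ≠ 0 ∧ hermForm n F q c (T a) = 0 ∧ hermForm n F q c (T b) = 0 := by
      by_contra hcon
      push Not at hcon
      let L : (Fin n → F) →ₗ[F] (Fin 2 → F) :=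
        { toFun := fun v => ![hermForm n F q v (T a), hermForm n F q v (T b)]
          map_add' := fun v w => by
            ext i
            fin_cases i
            · exact herm_add_left v w _
            · exact herm_add_left v w _
          map_smul' := fun c v => by
            ext i
            fin_cases i
            · exact herm_smul_left c v _
            · exact herm_smul_left c v _ }
      have hinj : Function.Injective L := by
        rw [← LinearMap.ker_eq_bot, LinearMap.ker_eq_bot']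
        intro v hv
        by_contra hv0
        exact hcon v hv0 (congrFun hv 0) (congrFun hv 1)
      have := LinearMap.finrank_le_finrank_of_injective hinj
      rw [finrank_fin_fun, finrank_fin_fun] at this
      omega
    have hba : hermForm n F q b (T a) = 1 := by rw [hsym, hb]
    have hac : hermForm n F q a (T c) = 0 := by rw [hsym, hca]
    have hbc : hermForm n F q b (T c) = 0 := by rw [hsym, hcb]
    have hli : LinearIndependent F ![a, b, c] := by
      rw [Fintype.linearIndependent_iff]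
      intro g hg
      rw [Fin.sum_univ_three] at hg
      change g 0 • a + g 1 • b + g 2 • c = 0 at hg
      have e0 := congrArg (fun w => hermForm n F q w (T b)) hg
      have e1 := congrArg (fun w => hermForm n F q w (T a)) hg
      simp only [herm_add_left, herm_smul_left, herm_zero_left, halt, hb, hba, hca, hcb] at e0 e1
      have g0 : g 0 = 0 := by linear_combination e0
      have g1 : g 1 = 0 := by linear_combination e1
      rw [g0, g1, zero_smul, zero_smul, zero_add, zero_add] at hg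
      have g2 := (smul_eq_zero.1 hg).resolve_right hc0
      intro i
      fin_cases i
      · exact g0
      · exact g1
      · exact g2
    have hspan := hli.span_eq_top_of_card_eq_finrank (by rw [finrank_fin_fun, Fintype.card_fin, hn])
    have hall : ∀ v, hermForm n F q v (T c) = 0 := by
      intro v
      have hv : v ∈ Submodule.span F (Set.range ![a, b, c]) := by rw [hspan]; trivial
      refine Submodule.span_induction (p := fun v _ => hermForm n F q v (T c) = 0) ?_ ?_ ?_ ?_ hv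
      · rintro _ ⟨i, rfl⟩
        fin_cases i
        · exact hac
        · exact hbc
        · exact halt c
      · exact herm_zero_left _
      · intro v w _ _ h1 h3
        rw [herm_add_left, h1, h3, add_zero]
      · intro d v _ h1
        rw [herm_smul_left, h1, mul_zero]
    have hTc : T c = 0 := by
      apply herm_nondeg hF
      intro v
      exact herm_eq_zero_swap hF (hall v)
    apply hc0
    rw [← hTT c, hTc]
    have := hs 0 0
    rwa [zero_smul, zero_pow_q hF, zero_smul] at this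
  · -- `u` singular
    obtain ⟨w, hw1, hw2⟩ : ∃ w : Fin n → F, hermForm n F q w u = 0 ∧ ∀ a : F, w ≠ a • u := by
      by_contra hcon
      push Not at hcon
      have h1 := finrank_perp hF hu0
      have h3 : perp hF u ≤ Submodule.span F {u} := by
        intro w hw
        obtain ⟨a, ha⟩ := hcon w hw
        rw [Submodule.mem_span_singleton]
        exact ⟨a, ha.symm⟩
      have h4 := Submodule.finrank_mono h3
      rw [finrank_span_singleton hu0] at h4
      omega
    have hTw : ∀ a : F, T w ≠ a • u := by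
      intro a ha
      apply hw2 (a ^ q)
      rw [← hTT w, ha, hs, hTu]
    obtain ⟨z, hz1, hz2⟩ := exists_perp_eq hF hTw 1
    have hli : LinearIndependent F ![u, w] := by
      rw [LinearIndependent.pair_iff]
      intro s t hst
      have ht : t = 0 := by
        by_contra ht
        apply hw2 (-(t⁻¹ * s))
        have e : t⁻¹ • (s • u + t • w) = 0 := by rw [hst, smul_zero]
        rw [smul_add, smul_smul, smul_smul, inv_mul_cancel₀ ht, one_smul] at e
        rw [neg_smul]
        exact eq_neg_of_add_eq_zero_right e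
      rw [ht, zero_smul, add_zero] at hst
      exact ⟨(smul_eq_zero.1 hst).resolve_right hu0, ht⟩
    have hsp : Submodule.span F (Set.range ![u, w]) = perp hF u := by
      apply Submodule.eq_of_le_of_finrank_le
      · rw [Submodule.span_le]
        rintro _ ⟨i, rfl⟩
        fin_cases i
        · exact huu
        · exact hw1
      · rw [finrank_span_eq_card hli, Fintype.card_fin]
        have := finrank_perp hF hu0
        omega
    have hz : z ∈ Submodule.span F (Set.range ![u, w]) := by rw [hsp]; exact hz1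
    have hzz : hermForm n F q z (T w) = 0 := by
      refine Submodule.span_induction (p := fun v _ => hermForm n F q v (T w) = 0) ?_ ?_ ?_ ?_ hz
      · rintro _ ⟨i, rfl⟩
        fin_cases i
        · change hermForm n F q u (T w) = 0
          rw [hsym, hTu]
          exact hw1
        · change hermForm n F q w (T w) = 0
          rw [← hu w, hw1]
          ring
      · exact herm_zero_left _
      · intro v w _ _ h1 h3
        rw [herm_add_left, h1, h3, add_zero]
      · intro d v _ h1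
        rw [herm_smul_left, h1, mul_zero]
    rw [hz2] at hzz
    exact one_ne_zero hzz

end sqrt

section iter

variable {F : Type*} [Field F] {n : ℕ}

theorem iter_smul {f : (Fin n → F) → (Fin n → F)} {ρ : F ≃+* F} (hs : ∀ (c : F) (v : Fin n → F), f (c • v) = ρ c • f v)
    (m : ℕ) (c : F) (v : Fin n → F) : f^[m] (c • v) = (ρ ^ m) c • f^[m] v := by
  induction m generalizing c v with
  | zero => rfl
  | succ m ih =>
    rw [Function.iterate_succ_apply, hs, ih, Function.iterate_succ_apply]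
    rfl

/-- the field automorphism of a semilinear map of finite order -/
theorem rho_pow {f : (Fin n → F) → (Fin n → F)} {ρ : F ≃+* F} (hs : ∀ (c : F) (v : Fin n → F), f (c • v) = ρ c • f v)
    {m : ℕ} (hm : ∀ v, f^[m] v = v) {v₀ : Fin n → F} (hv₀ : v₀ ≠ 0) (c : F) : (ρ ^ m) c = c := by
  have h1 := iter_smul hs m c v₀
  rw [hm, hm] at h1
  have h3 : ((ρ ^ m) c - c) • v₀ = 0 := by rw [sub_smul, ← h1, sub_self]
  exact sub_eq_zero.1 ((smul_eq_zero.1 h3).resolve_right hv₀)

theorem lin_of_rho {f : (Fin n → F) → (Fin n → F)} {ρ : F ≃+* F} (hs : ∀ (c : F) (v : Fin n → F), f (c • v) = ρ c • f v)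
    (h : ∀ c, ρ c = c) : Lin f := fun c v => by rw [hs, h]

end iter

section graph

variable {G Ω : Type} [Group G] [Finite G] [Finite Ω] [Nonempty Ω] [MulAction G Ω] {N : Subgroup G} {F : Type} [Field F]
  [Fintype F] {n q : ℕ}

/-- **No cover with a graph involution, `n = 3`, `q ≥ 4` even.** -/
theorem graph_case (U : UEnv G Ω N F n q) (hn : n = 3) (h2 : (2 : F) = 0) (hq : 4 ≤ q) {ι : Type} [Finite ι]
    {x : ι → G} {f : ι → (Fin n → F) → (Fin n → F)} {r : ι → ℕ} (hfam : UFam U x f r) (hcov : H106.RC.Cov Ω x)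
    (hRC : H106.RC.RC (PSU 2 F q)) {i₂ : ι} (hnl : ¬ Lin (f i₂)) (hr2 : r i₂ = 2) : False := by
  classical
  have hF := U.hF
  obtain ⟨v₀, hv₀⟩ := exists_ne U
  obtain ⟨ρ, hs, hh⟩ := Ind.exists_rho (hfam.lft i₂)
  obtain ⟨c, hc⟩ := ((hfam.lft i₂).pow 2).eq_one_iff.1 (by rw [← hr2]; exact hfam.pf.pow i₂)
  have hcc := norm_of_scalar U ((hfam.lft i₂).pow 2) hc
  have hc0 : c ≠ 0 := by
    rintro rfl
    rw [zero_mul] at hcc
    exact zero_ne_one hcc
  have hc' : ∀ v, f i₂ (f i₂ v) = c • v := hc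
  have hρ2 : ∀ a, ρ (ρ a) = a := by
    intro a
    have h1 := hc' (a • v₀)
    rw [hs, hs, hc', smul_smul, smul_smul] at h1
    have h3 : ((ρ (ρ a) - a) * c) • v₀ = 0 := by
      rw [sub_mul, sub_smul, h1, mul_comm, sub_self]
    have h4 := (smul_eq_zero.1 h3).resolve_right hv₀
    exact sub_eq_zero.1 ((mul_eq_zero.1 h4).resolve_right hc0)
  have hρne : ∃ a, ρ a ≠ a := by
    by_contra hcon
    push Not at hcon
    exact hnl (lin_of_rho hs hcon)
  have hρq := rho_eq_pow hF hρ2 hρne
  have hf0 : ∀ j, ∀ v, v ≠ 0 → f j v ≠ 0 := by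
    intro j v hv h0
    rw [← f_zero (hfam.lft j)] at h0
    exact hv (Ind.injective (hfam.lft j) h0)
  have hcq : c ^ q = c := by
    have h1 : f i₂ (f i₂ (f i₂ v₀)) = c • f i₂ v₀ := hc' _
    rw [hc' v₀, hs, hρq] at h1
    have h3 : (c ^ q - c) • f i₂ v₀ = 0 := by rw [sub_smul, h1, sub_self]
    exact sub_eq_zero.1 ((smul_eq_zero.1 h3).resolve_right (hf0 _ _ hv₀))
  have hc1 : c = 1 := one_of_sq h2 (by rw [hcq] at hcc; exact hcc)
  have hTT : ∀ v, f i₂ (f i₂ v) = v := fun v => by rw [hc', hc1, one_smul]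
  have hs' : ∀ (c : F) v, f i₂ (c • v) = c ^ q • f i₂ v := fun c v => by rw [hs, hρq]
  have hh' : ∀ v w, hermForm n F q (f i₂ v) (f i₂ w) = (hermForm n F q v w) ^ q := fun v w => by rw [hh, hρq]
  obtain ⟨u, hu⟩ := exists_u hF h2 (Ind.map_add (hfam.lft i₂)) hs' hh' hTT
  -- `u` is fixed by all the lifts
  have hfix : ∀ j, f j u = u := by
    intro j
    obtain ⟨σ, hsj, hhj⟩ := Ind.exists_rho (hfam.lft j)
    have h1 : ∀ v, hermForm n F q (f j v) (f j u) = hermForm n F q (f j v) u := by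
      intro v
      apply sq_inj h2
      rw [hhj, ← map_pow, hu v, ← hhj, hfam.comm j i₂, hu]
    have h3 : f j u - u = 0 := by
      apply herm_nondeg hF
      intro w
      apply herm_eq_zero_swap hF
      obtain ⟨v, rfl⟩ := Ind.surjective (hfam.lft j) w
      rw [herm_sub_right hF, h1, sub_self]
    exact sub_eq_zero.1 h3
  have huu := herm_u hF hn h2 (Ind.map_add (hfam.lft i₂)) hs' hh' hTT hu (hfix i₂)
  have hu0 : u ≠ 0 := by
    rintro rfl
    exact huu (herm_zero_left _)
  have hA := ndeg_perp hF huu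
  have hA2 : finrank F (perp hF u) = 2 := by
    have := finrank_perp hF hu0
    omega
  have hst : ∀ j, Stab (f j) (perp hF u) := by
    intro j v hv
    obtain ⟨σ, hsj, hhj⟩ := Ind.exists_rho (hfam.lft j)
    rw [mem_perp, ← hfix j, hhj, show hermForm n F q v u = 0 from hv, map_zero]
  -- linear members do not centralise
  have hJ : ∀ j, CenA U (perp hF u) (x j) → ¬ Lin (f j) := by
    intro j hj hl
    obtain ⟨d, hd⟩ := scal_of_cen U (hfam.lft j) hl hA hA2 hj
    obtain ⟨e, heA, he0, he⟩ := exists_sing_mem hF hA hA2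
    have hdq : d ^ q = d := by
      have h1 := hfam.comm j i₂ e
      rw [hd _ (hst i₂ e heA), hd e heA, hs'] at h1
      have h3 : (d ^ q - d) • f i₂ e = 0 := by rw [sub_smul, h1, sub_self]
      exact sub_eq_zero.1 ((smul_eq_zero.1 h3).resolve_right (hf0 _ _ he0))
    obtain ⟨w, hwA, hw⟩ : ∃ w ∈ perp hF u, hermForm n F q e w ≠ 0 := by
      by_contra hcon
      push Not at hcon
      exact he0 (hA e heA hcon)
    have hdd : d * d = 1 := by
      have h1 := lin_iso (hfam.lft j) hl e w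
      rw [hd e heA, hd w hwA, herm_smul_left, herm_smul_right, hdq] at h1
      have h3 : (d * d - 1) * hermForm n F q e w = 0 := by linear_combination h1
      exact sub_eq_zero.1 ((mul_eq_zero.1 h3).resolve_right hw)
    have hd1 := one_of_sq h2 hdd
    apply hfam.pf.ne j
    rw [(hfam.lft j).eq_one_iff]
    refine ⟨1, fun v => ?_⟩
    rw [one_smul]
    obtain ⟨a, ha⟩ : ∃ a, a = hermForm n F q v u * (hermForm n F q u u)⁻¹ := ⟨_, rfl⟩
    have h1 : v - a • u ∈ perp hF u := by
      rw [mem_perp, herm_sub_left, herm_smul_left, ha, mul_assoc, inv_mul_cancel₀ huu, mul_one, sub_self]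
    have h3 : v = (v - a • u) + a • u := by abel
    conv_lhs => rw [h3]
    rw [Ind.map_add (hfam.lft j), hl, hfix, hd _ h1, hd1, one_smul]
    abel
  refine plane U hq hfam.pf hfam.lft hcov hA hA2 hst hRC hJ ?_
  have key : ∀ j, CenA U (perp hF u) (x j) → j = i₂ := by
    intro j hj
    by_contra hji
    apply hJ j hj
    obtain ⟨σ, hsj, hhj⟩ := Ind.exists_rho (hfam.lft j)
    obtain ⟨d, hd0, hd⟩ := rho_of_cen U (hfam.lft j) hsj hhj hA hA2 hj
    have hd1 : d = 1 := by
      have h1 := hd 1 (by rw [one_pow]; linear_combination h2)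
      rwa [map_one, mul_one] at h1
    have hσfix : ∀ a : F, a ^ q = a → σ a = a := by
      intro a ha
      have h1 := hd a (by rw [ha]; linear_combination a * h2)
      rwa [hd1, one_mul] at h1
    have hσ2 : ∀ a, σ (σ a) = a := by
      intro a
      have e1 := hσfix (a + a ^ q) (trace_pow_q hF a)
      have e2 := hσfix (a * a ^ q) (norm_pow_q hF a)
      rw [map_add, map_pow] at e1
      rw [map_mul, map_pow] at e2
      have e3 : (σ a - a) * (σ a - a ^ q) = 0 := by
        linear_combination (σ a) * e1 - e2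
      rcases mul_eq_zero.1 e3 with h1 | h1
      · rw [sub_eq_zero.1 h1, sub_eq_zero.1 h1]
      · rw [sub_eq_zero.1 h1, map_pow, sub_eq_zero.1 h1, pow_q_pow_q hF]
    obtain ⟨k, hk⟩ := hfam.ord j
    have hodd : Odd (r j ^ k) := by
      apply Odd.pow
      apply (hfam.pf.prime j).odd_of_ne_two
      intro h
      exact hji (hfam.pf.inj (h.trans hr2.symm))
    obtain ⟨m, hm⟩ := hodd
    have hσm : ∀ a, (σ ^ (r j ^ k)) a = a := rho_pow hsj hk hv₀
    refine lin_of_rho hsj fun a => ?_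
    have h3 := hσm a
    have h4 : ∀ m : ℕ, ∀ a, (σ ^ (2 * m)) a = a := by
      intro m
      induction m with
      | zero => intro a; rfl
      | succ m ih =>
        intro a
        rw [mul_add, pow_add, RingAut.mul_apply, ih]
        exact hσ2 a
    rw [hm, pow_add, pow_one, RingAut.mul_apply, h4] at h3
    exact h3
  intro i j hi hj
  rw [key i hi, key j hj]

end graph

end Cfsg.Agent.H322.RC
end

-- part: H322/RC/Desc
section
/-!
# S3510, family E, box E11b: a field automorphism with fixed field of order four, `n = 3` (helper322)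

* `four` : a linear isometry of `F^3` which commutes with the standard field automorphism with fixed field of order
  four has order dividing `648`;
* `sing_pair` : two different singular points of `F^3` are not orthogonal;
* `caseField_two` : the box.
-/

set_option autoImplicit false

namespace Cfsg.Agent.H322.RC

open Matrix Cfsg Module Cfsg.Agent.LieClassical.HermBasic Cfsg.Agent.LieClassical.HermSiegel
  Cfsg.Agent.LieClassical.HermGen Cfsg.Agent.LieClassical.SUBasic Cfsg.Agent.ClassicalGeometry.PSUAutBasic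
  Cfsg.Agent.ClassicalGeometry.PSUAutCount Cfsg.Agent.LieClassical.FieldTransfer Cfsg.Agent.ClassicalGeometry
open Cfsg.Agent.H380.RC
open Cfsg.Agent.CpAutU.Fld Cfsg.Agent.CpAut.Psl Cfsg.Agent.CpAut.Descent

section four

variable {F : Type*} [Field F] [Fintype F] {q : ℕ}

theorem four {ρ : F ≃+* F} {ℓ : ℕ} (hodd : Odd ℓ) (hs : Nat.card ↥(fixf ρ) = 2 ^ 2) (hq : q = 2 ^ ℓ)
    {g : (Fin 3 → F) → (Fin 3 → F)} (hadd : ∀ v w, g (v + w) = g v + g w) (hlin : Lin g)
    (hh : ∀ v w, hermForm 3 F q (g v) (g w) = hermForm 3 F q v w)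
    (hcomm : ∀ a : Fin 3 → F, g (fun i => ρ (a i)) = fun i => ρ (g a i)) {m : ℕ} (hm : m = 648)
    (v : Fin 3 → F) : g^[m] v = v := by
  classical
  letI : Fintype ↥(fixf ρ) := Fintype.ofFinite _
  have hF0 : Fintype.card ↥(fixf ρ) = 2 ^ 2 := by rw [← Nat.card_eq_fintype_card, hs]
  have hpow : ∀ a : F, a ∈ fixf ρ → a ^ q = a ^ 2 := fun a ha => pow_q hodd hs hq ha
  have hg0 : g 0 = 0 := by
    have := hadd 0 0
    rw [add_zero] at this
    simpa using this
  have hent : ∀ i j, g (Pi.single j 1) i ∈ fixf ρ := by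
    intro i j
    rw [mem_fixf]
    have h1 := congrFun (hcomm (Pi.single j 1)) i
    rw [CpAutU.Desc.single_map] at h1
    exact h1.symm
  let B0 : Matrix (Fin 3) (Fin 3) ↥(fixf ρ) := Matrix.of fun i j => ⟨g (Pi.single j 1) i, hent i j⟩
  have hexp : ∀ a : Fin 3 → F, a = a 0 • (Pi.single 0 1 : Fin 3 → F) + a 1 • (Pi.single 1 1 : Fin 3 → F) +
      a 2 • (Pi.single 2 1 : Fin 3 → F) := by
    intro a
    funext i
    fin_cases i <;> simp
  have hgexp : ∀ a : Fin 3 → F, g a = a 0 • g (Pi.single 0 1) + a 1 • g (Pi.single 1 1) + a 2 • g (Pi.single 2 1) := by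
    intro a
    conv_lhs => rw [hexp a]
    rw [hadd, hadd, hlin, hlin, hlin]
  have hB : ∀ a : Fin 3 → ↥(fixf ρ), g (fun i => (a i : F)) = fun i => ((B0 *ᵥ a) i : F) := by
    intro a
    rw [hgexp]
    funext i
    have : ((B0 *ᵥ a) i : F) = ((B0 i 0 * a 0 + B0 i 1 * a 1 + B0 i 2 * a 2 : ↥(fixf ρ)) : F) := by
      rw [Matrix.mulVec, dotProduct, Fin.sum_univ_three]
    rw [this]
    change (a 0 : F) * g (Pi.single 0 1) i + (a 1 : F) * g (Pi.single 1 1) i + (a 2 : F) * g (Pi.single 2 1) i =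
      g (Pi.single 0 1) i * (a 0 : F) + g (Pi.single 1 1) i * (a 1 : F) + g (Pi.single 2 1) i * (a 2 : F)
    ring
  have hform : ∀ a b : Fin 3 → ↥(fixf ρ), ((hermForm 3 ↥(fixf ρ) 2 a b : ↥(fixf ρ)) : F) =
      hermForm 3 F q (fun i => (a i : F)) (fun i => (b i : F)) := by
    intro a b
    rw [herm_def, herm_def, Fin.sum_univ_three, Fin.sum_univ_three]
    rw [hpow _ (b 0).2, hpow _ (b 1).2, hpow _ (b 2).2]
    rfl
  have hiso : ∀ a b, hermForm 3 ↥(fixf ρ) 2 (B0 *ᵥ a) (B0 *ᵥ b) = hermForm 3 ↥(fixf ρ) 2 a b := by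
    intro a b
    apply Subtype.ext
    rw [hform, hform, ← hB, ← hB, hh]
  have hdet : B0.det ≠ 0 := by
    intro h0
    obtain ⟨a, ha0, ha⟩ := Matrix.exists_mulVec_eq_zero_iff.2 h0
    apply ha0
    apply herm_nondeg hF0
    intro b
    rw [← hiso, ha, herm_zero_left]
  let B : GU 3 ↥(fixf ρ) 2 := ⟨GeneralLinearGroup.mkOfDetNeZero B0 hdet, fun u v => hiso u v⟩
  have hgm : gm B = B0 := rfl
  have hcard : Nat.card (GU 3 ↥(fixf ρ) 2) = 648 := by
    rw [S0277.result hF0 3]
    decide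
  have hB648 : B ^ m = 1 := by
    rw [hm, ← hcard]
    exact pow_card_eq_one'
  clear hm
  have hBk : ∀ k : ℕ, ∀ a : Fin 3 → ↥(fixf ρ), g^[k] (fun i => (a i : F)) = fun i => ((gm (B ^ k) *ᵥ a) i : F) := by
    intro k
    induction k with
    | zero =>
      intro a
      rw [pow_zero, gm_one, one_mulVec]
      rfl
    | succ k ih =>
      intro a
      rw [Function.iterate_succ_apply', ih, hB, pow_succ', gm_mul, hgm, mulVec_mulVec]
  have hfix : ∀ j : Fin 3, g^[m] (Pi.single j 1) = Pi.single j 1 := by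
    intro j
    have h1 := hBk m (Pi.single j 1)
    rw [hB648, gm_one, one_mulVec] at h1
    have h2 : (fun i => (((Pi.single j 1 : Fin 3 → ↥(fixf ρ)) i : ↥(fixf ρ)) : F)) = Pi.single j 1 := by
      funext i
      by_cases hij : i = j
      · subst hij
        rw [Pi.single_eq_same, Pi.single_eq_same]
        rfl
      · rw [Pi.single_eq_of_ne hij, Pi.single_eq_of_ne hij]
        rfl
    rwa [h2] at h1
  have hlk : ∀ k : ℕ, (∀ v w, g^[k] (v + w) = g^[k] v + g^[k] w) ∧ ∀ (c : F) v, g^[k] (c • v) = c • g^[k] v := by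
    intro k
    induction k with
    | zero => exact ⟨fun v w => rfl, fun c v => rfl⟩
    | succ k ih =>
      refine ⟨fun v w => ?_, fun c v => ?_⟩
      · rw [Function.iterate_succ_apply', ih.1, hadd, Function.iterate_succ_apply', Function.iterate_succ_apply']
      · rw [Function.iterate_succ_apply', ih.2, hlin, Function.iterate_succ_apply']
  obtain ⟨h1, h2⟩ := hlk m
  conv_lhs => rw [hexp v]
  rw [h1, h1, h2, h2, h2, hfix, hfix, hfix]
  exact (hexp v).symm

end four

section sing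

variable {F : Type*} [Field F] [Fintype F] {n q : ℕ}

/-- two different singular points of `F^3` are not orthogonal -/
theorem sing_pair (hF : Fintype.card F = q ^ 2) (hn : n = 3) {u w : Fin n → F} (hu0 : u ≠ 0)
    (hu : hermForm n F q u u = 0) (hw : hermForm n F q w w = 0) (h : ∀ a : F, w ≠ a • u) :
    hermForm n F q w u ≠ 0 := by
  intro hwu
  obtain ⟨z, hz1, hz2⟩ := exists_perp_eq hF h 1
  have hli : LinearIndependent F ![u, w] := by
    rw [LinearIndependent.pair_iff]
    intro s t hst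
    have ht : t = 0 := by
      by_contra ht
      apply h (-(t⁻¹ * s))
      have e : t⁻¹ • (s • u + t • w) = 0 := by rw [hst, smul_zero]
      rw [smul_add, smul_smul, smul_smul, inv_mul_cancel₀ ht, one_smul] at e
      rw [neg_smul]
      exact eq_neg_of_add_eq_zero_right e
    rw [ht, zero_smul, add_zero] at hst
    exact ⟨(smul_eq_zero.1 hst).resolve_right hu0, ht⟩
  have hsp : Submodule.span F (Set.range ![u, w]) = perp hF u := by
    apply Submodule.eq_of_le_of_finrank_le
    · rw [Submodule.span_le]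
      rintro _ ⟨i, rfl⟩
      fin_cases i
      · exact hu
      · exact hwu
    · rw [finrank_span_eq_card hli, Fintype.card_fin]
      have := finrank_perp hF hu0
      omega
  have hz : z ∈ Submodule.span F (Set.range ![u, w]) := by rw [hsp]; exact hz1
  have hzz : hermForm n F q z w = 0 := by
    refine Submodule.span_induction (p := fun v _ => hermForm n F q v w = 0) ?_ ?_ ?_ ?_ hz
    · rintro _ ⟨i, rfl⟩
      fin_cases i
      · exact herm_eq_zero_swap hF hwu
      · exact hw
    · exact herm_zero_left _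
    · intro v w _ _ h1 h3
      rw [herm_add_left, h1, h3, add_zero]
    · intro d v _ h1
      rw [herm_smul_left, h1, mul_zero]
  rw [hz2] at hzz
  exact one_ne_zero hzz

end sing

section desc

variable {G Ω : Type*} [Group G] [MulAction G Ω] {N : Subgroup G} {F : Type*} [Field F] [Fintype F] {n q : ℕ}

/-- **Standard form of a field automorphism of odd prime order.** -/
theorem exists_std (U : UEnv G Ω N F n q) {x : G} {f : (Fin n → F) → (Fin n → F)} (h : U.Lft x f) (hnl : ¬ Lin f)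
    {ℓ : ℕ} (hℓ : ℓ.Prime) (hℓ2 : ℓ ≠ 2) (hx : x ^ ℓ = 1) :
    ∃ (ρ : F ≃+* F) (P P' : (Fin n → F) → (Fin n → F)) (c : F), orderOf ρ = ℓ ∧ c * c ^ q = 1 ∧
      (∀ v w, P (v + w) = P v + P w) ∧ (∀ (a : F) v, P (a • v) = a • P v) ∧ (∀ v, P (P' v) = v) ∧ (∀ v, P' (P v) = v) ∧
      (∀ v w, hermForm n F q (P v) (P w) = hermForm n F q v w) ∧ ∀ a : Fin n → F, P (fun i => ρ (a i)) = c • f (P a) := by
  obtain ⟨A, ρ, rfl, h1⟩ := id h
  have hρ1 : ρ ≠ 1 := by
    rintro rfl
    exact hnl fun a v => sl_smul A 1 a v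
  have hpow : toAut A ρ ^ ℓ = 1 := by rw [← h1, ← map_pow, hx, map_one]
  obtain ⟨hord, M, hM⟩ := Cfsg.Agent.CpAutU.Desc.exists_conj U.hF U.hn hℓ hℓ2 hpow hρ1
  have hi1 : Ind (sl M (1 : F ≃+* F)) (toAut M 1) := ⟨M, 1, rfl, rfl⟩
  have hi2 : Ind (sl (1 : GU n F q) ρ) (toAut (1 : GU n F q) ρ) := ⟨1, ρ, rfl, rfl⟩
  obtain ⟨P', hP', hPP', hP'P⟩ := hi1.bij
  have hT : U.Lft x (fun v => sl M (1 : F ≃+* F) (sl (1 : GU n F q) ρ (P' v))) := by
    have h3 := hi1.comp (hi2.comp hP')
    rw [← mul_assoc, ← hM, ← h1] at h3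
    exact h3
  obtain ⟨c, hc, hcT⟩ := h.unique hT
  refine ⟨ρ, sl M (1 : F ≃+* F), P', c, hord, hc, sl_add M 1, sl_smul M 1, hPP', hP'P, fun v w => herm_sl M 1 v w,
    fun a => ?_⟩
  rw [← hcT]
  change _ = sl M (1 : F ≃+* F) (sl (1 : GU n F q) ρ (P' (sl M (1 : F ≃+* F) a)))
  rw [hP'P]
  congr 1
  rw [sl_def, gm_one, one_mulVec]

end desc

section main

variable {G Ω : Type} [Group G] [Finite G] [Finite Ω] [Nonempty Ω] [MulAction G Ω] {N : Subgroup G} {F : Type} [Field F]
  [Fintype F] {n q : ℕ}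

/-- an element of odd order with `CenA` is linear (characteristic two) -/
theorem lin_of_cen (U : UEnv G Ω N F n q) (h2 : (2 : F) = 0) {x : G} {f : (Fin n → F) → (Fin n → F)} (h : U.Lft x f)
    {m : ℕ} (hm : Odd m) (hfm : ∀ v, f^[m] v = v) {A : Submodule F (Fin n → F)} (hA : NDeg q A)
    (hA2 : finrank F A = 2) (hc : CenA U A x) : Lin f := by
  have hF := U.hF
  obtain ⟨v₀, hv₀⟩ := exists_ne U
  obtain ⟨σ, hsj, hhj⟩ := Ind.exists_rho h
  obtain ⟨d, hd0, hd⟩ := rho_of_cen U h hsj hhj hA hA2 hc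
  have hd1 : d = 1 := by
    have h1 := hd 1 (by rw [one_pow]; linear_combination h2)
    rwa [map_one, mul_one] at h1
  have hσfix : ∀ a : F, a ^ q = a → σ a = a := by
    intro a ha
    have h1 := hd a (by rw [ha]; linear_combination a * h2)
    rwa [hd1, one_mul] at h1
  have hσ2 : ∀ a, σ (σ a) = a := by
    intro a
    have e1 := hσfix (a + a ^ q) (trace_pow_q hF a)
    have e2 := hσfix (a * a ^ q) (norm_pow_q hF a)
    rw [map_add, map_pow] at e1
    rw [map_mul, map_pow] at e2
    have e3 : (σ a - a) * (σ a - a ^ q) = 0 := by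
      linear_combination (σ a) * e1 - e2
    rcases mul_eq_zero.1 e3 with h1 | h1
    · rw [sub_eq_zero.1 h1, sub_eq_zero.1 h1]
    · rw [sub_eq_zero.1 h1, map_pow, sub_eq_zero.1 h1, pow_q_pow_q hF]
  obtain ⟨k, hk⟩ := hm
  have hσm : ∀ a, (σ ^ m) a = a := rho_pow hsj hfm hv₀
  refine lin_of_rho hsj fun a => ?_
  have h3 := hσm a
  have h4 : ∀ k : ℕ, ∀ a, (σ ^ (2 * k)) a = a := by
    intro k
    induction k with
    | zero => intro a; rfl
    | succ k ih =>
      intro a
      rw [mul_add, pow_add, RingAut.mul_apply, ih]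
      exact hσ2 a
  rw [hk, pow_add, pow_one, RingAut.mul_apply, h4] at h3
  exact h3

/-- **The case of a field automorphism `x i₁` with fixed field of order four and one linear member `x s`.** -/
theorem two_members (U : UEnv G Ω N F n q) (hn : n = 3) (h2 : (2 : F) = 0) (hq : 4 ≤ q) {ι : Type} [Finite ι]
    {x : ι → G} {f : ι → (Fin n → F) → (Fin n → F)} {r : ι → ℕ} (hfam : UFam U x f r) (hcov : H106.RC.Cov Ω x)
    (hRC : H106.RC.RC (PSU 2 F q)) {i₁ s : ι} (his : s ≠ i₁) (hall : ∀ i, i = i₁ ∨ i = s) (hnl : ¬ Lin (f i₁))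
    (hr1 : r i₁ ≠ 2) (hr3 : r s = 3) (hls : Lin (f s)) {T : (Fin n → F) → (Fin n → F)} {c : F} (hc0 : c ≠ 0)
    (hT : ∀ v, T v = c • f i₁ v) (hTf : ∀ v, f s (T v) = T (f s v)) {ρ : F ≃+* F}
    (hTh : ∀ v w, hermForm n F q (T v) (T w) = ρ (hermForm n F q v w)) (hρ4 : ∀ a, ρ a = a → a ≠ 0 → a * a ^ q = 1)
    {e₀ : Fin n → F} (he00 : e₀ ≠ 0) (he0 : hermForm n F q e₀ e₀ = 0) (hTe : T e₀ = e₀) : False := by
  classical
  have hF := U.hF
  have hcop : ∀ i, (r i).Coprime q := by
    intro i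
    apply coprime_of_two U h2 (hfam.pf.prime i)
    rcases hall i with rfl | rfl
    · exact hr1
    · rw [hr3]; norm_num
  have hf1 : ∀ v, f i₁ v = c⁻¹ • T v := fun v => by rw [hT, smul_smul, inv_mul_cancel₀ hc0, one_smul]
  -- the point rule
  have hmove : ∀ a : F, f s e₀ ≠ a • e₀ := by
    intro a ha
    refine U.point hfam.pf.prime hcop hfam.pf.pow hfam.pf.ne hfam.pf.comm hfam.lft hcov he00 he0 (fun i => ?_)
    rcases hall i with rfl | rfl
    · exact ⟨c⁻¹, by rw [hf1, hTe]⟩
    · exact ⟨a, ha⟩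
  obtain ⟨e₁, he₁⟩ : ∃ e₁, e₁ = f s e₀ := ⟨_, rfl⟩
  have hiso := lin_iso (hfam.lft s) hls
  have he1 : hermForm n F q e₁ e₁ = 0 := by rw [he₁, hiso, he0]
  have hTe1 : T e₁ = e₁ := by rw [he₁, ← hTf, hTe]
  have hm' : ∀ a : F, e₁ ≠ a • e₀ := fun a => by rw [he₁]; exact hmove a
  have he10 : e₁ ≠ 0 := fun h => hm' 0 (by rw [h, zero_smul])
  have hβ0 := sing_pair hF hn he00 he0 he1 hm'
  obtain ⟨β, hβ⟩ : ∃ β, β = hermForm n F q e₁ e₀ := ⟨_, rfl⟩
  rw [← hβ] at hβ0
  have hα : hermForm n F q e₀ e₁ = β ^ q := by rw [hβ, ← herm_swap hF]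
  have hββ : β * β ^ q = 1 := by
    apply hρ4 β _ hβ0
    rw [hβ, ← hTh, hTe, hTe1]
  have hV2 : ∀ a : F, a + a = 0 := fun a => by linear_combination a * h2
  -- the plane
  obtain ⟨A, hAdef⟩ : ∃ A : Submodule F (Fin n → F), A = Submodule.span F (Set.range ![e₀, e₁]) := ⟨_, rfl⟩
  have hmemA : ∀ v, v ∈ A ↔ ∃ a b : F, v = a • e₀ + b • e₁ := by
    intro v
    rw [hAdef]
    constructor
    · intro hv
      refine Submodule.span_induction (p := fun v _ => ∃ a b : F, v = a • e₀ + b • e₁) ?_ ?_ ?_ ?_ hv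
      · rintro _ ⟨i, rfl⟩
        fin_cases i
        · exact ⟨1, 0, by simp⟩
        · exact ⟨0, 1, by simp⟩
      · exact ⟨0, 0, by simp⟩
      · rintro _ _ _ _ ⟨a, b, rfl⟩ ⟨a', b', rfl⟩
        exact ⟨a + a', b + b', by rw [add_smul, add_smul]; abel⟩
      · rintro d _ _ ⟨a, b, rfl⟩
        exact ⟨d * a, d * b, by rw [smul_add, smul_smul, smul_smul]⟩
    · rintro ⟨a, b, rfl⟩
      exact Submodule.add_mem _ (Submodule.smul_mem _ _ (Submodule.subset_span ⟨0, rfl⟩))
        (Submodule.smul_mem _ _ (Submodule.subset_span ⟨1, rfl⟩))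
  have hA : NDeg q A := by
    intro v hv hv'
    obtain ⟨a, b, rfl⟩ := (hmemA v).1 hv
    have h0 := hv' e₀ ((hmemA _).2 ⟨1, 0, by simp⟩)
    have h1 := hv' e₁ ((hmemA _).2 ⟨0, 1, by simp⟩)
    rw [herm_add_left, herm_smul_left, herm_smul_left, he0, ← hβ] at h0
    rw [herm_add_left, herm_smul_left, herm_smul_left, he1, hα] at h1
    have hb : b = 0 := by
      have : b * β = 0 := by linear_combination h0
      exact (mul_eq_zero.1 this).resolve_right hβ0
    have ha : a = 0 := by
      have : a * β ^ q = 0 := by linear_combination h1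
      exact (mul_eq_zero.1 this).resolve_right (pow_ne_zero _ hβ0)
    rw [ha, hb, zero_smul, zero_smul, add_zero]
  have hA2 : finrank F A = 2 := by
    have hli : LinearIndependent F ![e₀, e₁] := by
      rw [LinearIndependent.pair_iff]
      intro a b hab
      have h0 := congrArg (fun w => hermForm n F q w e₀) hab
      have h1 := congrArg (fun w => hermForm n F q w e₁) hab
      simp only [herm_add_left, herm_smul_left, herm_zero_left, he0, he1, hα, ← hβ] at h0 h1
      constructor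
      · have : a * β ^ q = 0 := by linear_combination h1
        exact (mul_eq_zero.1 this).resolve_right (pow_ne_zero _ hβ0)
      · have : b * β = 0 := by linear_combination h0
        exact (mul_eq_zero.1 this).resolve_right hβ0
    rw [hAdef, finrank_span_eq_card hli, Fintype.card_fin]
  -- the root elements
  have h11 : (1 : F) + 1 ^ q = 0 := by rw [one_pow]; linear_combination h2
  obtain ⟨t₀, ht₀⟩ : ∃ t₀, t₀ = transv hF e₀ he0 1 h11 := ⟨_, rfl⟩
  obtain ⟨t₁, ht₁⟩ : ∃ t₁, t₁ = transv hF e₁ he1 1 h11 := ⟨_, rfl⟩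
  have ha0 : ∀ v, act t₀ v = v + hermForm n F q v e₀ • e₀ := fun v => by rw [ht₀, act_transv, one_mul]
  have ha1 : ∀ v, act t₁ v = v + hermForm n F q v e₁ • e₁ := fun v => by rw [ht₁, act_transv, one_mul]
  have htt : t₁ * t₁ = 1 := by
    apply ext_act
    intro v
    rw [act_mul, ha1, ha1, act_one, herm_add_left, herm_smul_left, he1, mul_zero, add_zero, add_assoc, ← add_smul, hV2,
      zero_smul, add_zero]
  have hts : x s * U.el t₀ * (x s)⁻¹ = U.el t₁ := by
    apply (hfam.lft s).conj_el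
    intro v
    have h3 : hermForm n F q (f s v) e₁ = hermForm n F q v e₀ := by rw [he₁, hiso]
    rw [ha0, ha1, Ind.map_add (hfam.lft s), hls, ← he₁, h3]
  have hti : U.el t₀ * x i₁ = x i₁ * U.el t₀ := by
    have h3 : x i₁ * U.el t₀ * (x i₁)⁻¹ = U.el t₀ := by
      obtain ⟨σ, hs1, hh1⟩ := Ind.exists_rho (hfam.lft i₁)
      apply (hfam.lft i₁).conj_el
      intro v
      have hTadd : ∀ v w, T (v + w) = T v + T w := fun v w => by
        rw [hT, hT, hT, Ind.map_add (hfam.lft i₁), smul_add]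
      have hTs : ∀ (a : F) v, T (a • v) = σ a • T v := fun a v => by rw [hT, hT, hs1, smul_comm]
      have hTh' : ∀ v, σ (hermForm n F q v e₀) = hermForm n F q (T v) e₀ := by
        intro v
        have hcc : c * c ^ q = 1 := by
          obtain ⟨w, hw⟩ := exists_herm_ne_zero hF he00
          have h3 := hTh e₁ e₀
          rw [hTe, hTe1, ← hβ] at h3
          have h4 := hh1 e₁ e₀
          rw [hf1, hf1, hTe, hTe1, herm_smul_left, herm_smul_right, ← hβ] at h4
          -- `c⁻¹ (c⁻¹)^q β = σ β`; both have norm one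
          have h5 : (c⁻¹ * (c⁻¹) ^ q) * β = σ β := by rw [← h4]; ring
          have h6 : (c⁻¹ * (c⁻¹) ^ q) ^ 2 = 1 := by
            have h7 : σ β * (σ β) ^ q = 1 := by rw [← map_pow, ← map_mul, hββ, map_one]
            rw [← h5, mul_pow, norm_pow_q hF] at h7
            linear_combination h7 - (c⁻¹ * (c⁻¹) ^ q) ^ 2 * hββ
          have h8 := sq_inj h2 (h6.trans (one_pow 2).symm)
          rw [inv_pow, ← mul_inv] at h8
          exact inv_eq_one.1 h8
        have h3 := hh1 v e₀
        rw [hf1, hf1 e₀, hTe, herm_smul_left, herm_smul_right] at h3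
        rw [← h3, inv_pow]
        have hcq : c ^ q ≠ 0 := pow_ne_zero _ hc0
        field_simp
        rw [hcc, one_mul]
      rw [ha0, ha0, hf1, hf1 v, hTadd, hTs, hTe, hTh', smul_add, herm_smul_left, smul_smul]
    rw [mul_inv_eq_iff_eq_mul] at h3
    exact h3.symm
  -- the new member
  obtain ⟨y, hy⟩ : ∃ y, y = U.el t₀ * x s * (U.el t₀)⁻¹ * (x s)⁻¹ := ⟨_, rfl⟩
  have hy1 : y = U.el (t₀ * t₁) := by
    have h3 : y = U.el t₀ * (x s * U.el t₀ * (x s)⁻¹)⁻¹ := by rw [hy]; group
    rw [h3, hts, ← map_inv, ← map_mul, inv_eq_of_mul_eq_one_left htt]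
  have hcov' := hcov.mv_comm s (c := U.el t₀) (fun j hj => by
    rcases hall j with rfl | rfl
    · exact hti
    · exact absurd rfl hj)
  rw [← hy] at hcov'
  obtain ⟨Y, hY⟩ : ∃ Y, Y = act (t₀ * t₁) := ⟨_, rfl⟩
  have hYL : U.Lft y Y := by rw [hy1, hY]; exact U.lft_el _
  have hYv : ∀ v, Y v = v + (hermForm n F q v e₀ + hermForm n F q v e₁ * β) • e₀ + hermForm n F q v e₁ • e₁ := by
    intro v
    rw [hY, act_mul, ha1, ha0, herm_add_left, herm_smul_left, ← hβ]
    abel
  have hYlin : Lin Y := by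
    intro a v
    rw [hYv, hYv, herm_smul_left, herm_smul_left, smul_add, smul_add, smul_smul, smul_smul]
    congr 3
    ring
  have hY0 : ∀ v, hermForm n F q (Y v) e₀ = hermForm n F q v e₀ + hermForm n F q v e₁ * β := by
    intro v
    rw [hYv, herm_add_left, herm_add_left, herm_smul_left, herm_smul_left, he0, ← hβ]
    linear_combination (0 : F)
  have hY1 : ∀ v, hermForm n F q (Y v) e₁ = hermForm n F q v e₀ * β ^ q := by
    intro v
    rw [hYv, herm_add_left, herm_add_left, herm_smul_left, herm_smul_left, he1, hα]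
    linear_combination hermForm n F q v e₁ * hββ + hermForm n F q v e₁ * h2
  have hYYY : ∀ v, Y (Y (Y v)) = v := by
    intro v
    obtain ⟨a, ha⟩ : ∃ a, a = hermForm n F q v e₀ := ⟨_, rfl⟩
    obtain ⟨b, hb⟩ : ∃ b, b = hermForm n F q v e₁ := ⟨_, rfl⟩
    have e1 : Y v = v + (a + b * β) • e₀ + b • e₁ := by rw [hYv, ha, hb]
    have e2 : Y (Y v) = Y v + ((a + b * β) + (a * β ^ q) * β) • e₀ + (a * β ^ q) • e₁ := by
      rw [hYv (Y v), hY0, hY1, ← ha, ← hb]
    have e3 : Y (Y (Y v)) = Y (Y v) + (((a + b * β) + (a * β ^ q) * β) + ((a + b * β) * β ^ q) * β) • e₀ +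
        ((a + b * β) * β ^ q) • e₁ := by
      rw [hYv (Y (Y v)), hY0 (Y v), hY1 (Y v), hY0 v, hY1 v, ← ha, ← hb]
    rw [e3, e2, e1]
    have c0 : (a + b * β) + ((a + b * β) + (a * β ^ q) * β) +
        (((a + b * β) + (a * β ^ q) * β) + ((a + b * β) * β ^ q) * β) = 0 := by
      linear_combination (2 * a + (a + b * β)) * hββ + (3 * a + 2 * b * β) * h2
    have c1 : b + a * β ^ q + (a + b * β) * β ^ q = 0 := by
      linear_combination b * hββ + (a * β ^ q + b) * h2
    have e4 : v + (a + b * β) • e₀ + b • e₁ + ((a + b * β) + (a * β ^ q) * β) • e₀ + (a * β ^ q) • e₁ +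
        (((a + b * β) + (a * β ^ q) * β) + ((a + b * β) * β ^ q) * β) • e₀ + ((a + b * β) * β ^ q) • e₁ =
        v + ((a + b * β) + ((a + b * β) + (a * β ^ q) * β) +
        (((a + b * β) + (a * β ^ q) * β) + ((a + b * β) * β ^ q) * β)) • e₀ +
        (b + a * β ^ q + (a + b * β) * β ^ q) • e₁ := by
      simp only [add_smul]
      abel
    rw [e4, c0, c1, zero_smul, zero_smul, add_zero, add_zero]
  have hYe : ∀ a : F, Y e₀ ≠ a • e₀ := by
    intro a ha
    have h3 : Y e₀ = (β ^ q) • e₁ := by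
      rw [hYv, he0, hα, zero_add, show β ^ q * β = 1 by rw [mul_comm]; exact hββ, one_smul]
      have : e₀ + e₀ = 0 := by
        rw [← two_smul F, h2, zero_smul]
      rw [this, zero_add]
    rw [h3] at ha
    apply hm' ((β ^ q)⁻¹ * a)
    rw [mul_smul, ← ha, smul_smul, inv_mul_cancel₀ (pow_ne_zero _ hβ0), one_smul]
  have hyne : y ≠ 1 := by
    intro h1
    obtain ⟨a, ha⟩ := hYL.eq_one_iff.1 h1
    exact hYe a (ha e₀)
  have hy3 : y ^ 3 = 1 := by
    rw [(hYL.pow 3).eq_one_iff]
    refine ⟨1, fun v => ?_⟩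
    rw [one_smul]
    exact hYYY v
  have hyi : y * x i₁ = x i₁ * y := by
    have h3 : x s * x i₁ = x i₁ * x s := hfam.pf.comm s i₁
    have h4 : Commute (U.el t₀) (x i₁) := hti
    have h5 : Commute (x s) (x i₁) := h3
    rw [hy]
    exact ((h4.mul_left h5).mul_left h4.inv_left).mul_left h5.inv_left
  -- the new family
  have hx's : Function.update x s y s = y := Function.update_self _ _ _
  have hx'i : Function.update x s y i₁ = x i₁ := Function.update_of_ne his.symm _ _
  have hf's : Function.update f s Y s = Y := Function.update_self _ _ _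
  have hf'i : Function.update f s Y i₁ = f i₁ := Function.update_of_ne his.symm _ _
  have hpf : H106.RC.PF (Function.update x s y) r := by
    refine ⟨hfam.pf.prime, hfam.pf.inj, fun i => ?_, fun i => ?_, fun i j => ?_⟩
    · rcases hall i with rfl | rfl
      · rw [hx'i]; exact hfam.pf.pow _
      · rw [hx's, hr3]; exact hy3
    · rcases hall i with rfl | rfl
      · rw [hx'i]; exact hfam.pf.ne _
      · rw [hx's]; exact hyne
    · rcases hall i with rfl | rfl <;> rcases hall j with rfl | rfl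
      · rfl
      · rw [hx'i, hx's]; exact hyi.symm
      · rw [hx'i, hx's]; exact hyi
      · rfl
  have hlft : ∀ i, U.Lft (Function.update x s y i) (Function.update f s Y i) := by
    intro i
    rcases hall i with rfl | rfl
    · rw [hx'i, hf'i]; exact hfam.lft _
    · rw [hx's, hf's]; exact hYL
  have hst : ∀ i, Stab (Function.update f s Y i) A := by
    intro i v hv
    obtain ⟨a, b, rfl⟩ := (hmemA v).1 hv
    rcases hall i with rfl | rfl
    · rw [hf'i]
      obtain ⟨σ, hs1, -⟩ := Ind.exists_rho (hfam.lft i)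
      rw [Ind.map_add (hfam.lft i), hs1, hs1, hf1, hf1, hTe, hTe1]
      exact (hmemA _).2 ⟨σ a * c⁻¹, σ b * c⁻¹, by rw [smul_smul, smul_smul]⟩
    · rw [hf's, hYv]
      refine A.add_mem (A.add_mem hv ?_) ?_
      · exact A.smul_mem _ ((hmemA _).2 ⟨1, 0, by simp⟩)
      · exact A.smul_mem _ ((hmemA _).2 ⟨0, 1, by simp⟩)
  have hno : ∀ j, ¬ CenA U A (Function.update x s y j) := by
    intro j hj
    rcases hall j with rfl | rfl
    · rw [hx'i] at hj
      obtain ⟨k, hk⟩ := hfam.ord j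
      exact hnl (lin_of_cen U h2 (hfam.lft j) (((hfam.pf.prime j).odd_of_ne_two hr1).pow) hk hA hA2 hj)
    · rw [hx's] at hj
      obtain ⟨d, hd⟩ := scal_of_cen U hYL hYlin hA hA2 hj
      exact hYe d (hd e₀ ((hmemA _).2 ⟨1, 0, by simp⟩))
  exact plane U hq hpf hlft hcov' hA hA2 hst hRC (fun j hj => absurd hj (hno j)) (fun i j hi => absurd hi (hno i))

/-- **Box E11b.** -/
theorem caseField_two : NoC fun {_ _ _ _ _ F _ _ n q} _ {ι} _ f r => n = 3 ∧
    (∃ i : ι, ¬ Lin (f i) ∧ r i ≠ 2 ∧ q = 2 ^ r i) ∧ H106.RC.IH (Nat.card (PSU n F q)) := by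
  intro G Ω _ _ _ _ _ N F _ _ n q U ι _ x f r hfam hcov ⟨hn, ⟨i₁, hnl, hr1, hq⟩, hIH⟩
  classical
  subst hn
  have hF := U.hF
  obtain ⟨v₀, hv₀⟩ := exists_ne U
  have hℓ := hfam.pf.prime i₁
  have hℓ3 : 3 ≤ r i₁ := by
    have := hℓ.two_le
    omega
  have hℓodd : Odd (r i₁) := hℓ.odd_of_ne_two hr1
  have hq8 : 8 ≤ q := by
    rw [hq]
    calc 8 = 2 ^ 3 := by norm_num
      _ ≤ 2 ^ r i₁ := Nat.pow_le_pow_right (by norm_num) hℓ3
  have h2 : (2 : F) = 0 := by
    obtain ⟨p, k, hp, hchar, hk, hk0⟩ := exists_prime_pow hF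
    have h1 : p ∣ 2 ^ r i₁ := by
      rw [← hq, hk]
      exact dvd_pow_self p hk0.ne'
    have h3 : p = 2 := (Nat.prime_dvd_prime_iff_eq hp Nat.prime_two).1 (hp.dvd_of_dvd_pow h1)
    subst h3
    exact_mod_cast CharP.cast_eq_zero F 2
  -- `RC (PSU 2 F q)`
  have hRC : H106.RC.RC (PSU 2 F q) := by
    have h1 := (H906.RC.small_stmt hF le_rfl U.h32 hIH).2.2.2.2.2.1
    refine H452.RC.rc_two hF fun K _ _ hK => h1 K hK (by omega) (by omega) (by omega) ?_
    intro h9
    rw [h9] at hq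
    have : 2 ∣ 9 := by
      rw [hq]
      exact dvd_pow_self 2 (by omega)
    omega
  -- no members of order two
  have hodd : ∀ j, r j ≠ 2 := by
    intro j hj
    by_cases hl : Lin (f j)
    · exact no_lin_two U rfl h2 hfam hcov hl hj
    · exact graph_case U rfl h2 (by omega) hfam hcov hRC hl hj
  -- the other members are linear
  have hlin : ∀ j, j ≠ i₁ → Lin (f j) := by
    intro j hj
    obtain ⟨σ, hs, -⟩ := Ind.exists_rho (hfam.lft j)
    obtain ⟨k, hk⟩ := hfam.ord j
    have h1 : orderOf σ ∣ r j ^ k := by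
      apply orderOf_dvd_of_pow_eq_one
      exact RingEquiv.ext fun a => rho_pow hs hk hv₀ a
    obtain ⟨t, -, ht⟩ := (Nat.dvd_prime_pow (hfam.pf.prime j)).1 h1
    have hcard := card_fixf (σ := σ) rfl
    have h3 : orderOf σ ∣ 2 * r i₁ := by
      have hpos : 0 < orderOf σ := by
        rw [ht]
        exact pow_pos (hfam.pf.prime j).pos _
      have h4 : (2 : ℕ) ^ (2 * r i₁) = Nat.card ↥(fixf σ) ^ orderOf σ := by
        rw [← hcard, hF, hq, ← pow_mul, mul_comm]
      have h5 : Nat.card ↥(fixf σ) ∣ 2 ^ (2 * r i₁) := by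
        rw [h4]
        exact dvd_pow_self _ hpos.ne'
      obtain ⟨a, -, ha⟩ := (Nat.dvd_prime_pow Nat.prime_two).1 h5
      rw [ha, ← pow_mul] at h4
      have h6 := Nat.pow_right_injective (le_refl 2) h4
      exact ⟨a, by rw [h6]; ring⟩
    have h4 : t = 0 := by
      by_contra ht0
      have h5 : r j ∣ 2 * r i₁ := by
        refine dvd_trans ?_ h3
        rw [ht]
        exact dvd_pow_self _ ht0
      rcases (hfam.pf.prime j).dvd_mul.1 h5 with h6 | h6
      · exact hodd j ((Nat.prime_dvd_prime_iff_eq (hfam.pf.prime j) Nat.prime_two).1 h6)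
      · exact hj (hfam.pf.inj ((Nat.prime_dvd_prime_iff_eq (hfam.pf.prime j) hℓ).1 h6))
    rw [h4, pow_zero, orderOf_eq_one_iff] at ht
    exact lin_of_rho hs fun a => by rw [ht]; rfl
  -- the standard form of `x i₁`
  obtain ⟨ρ, P, P', c, hord, hcc, hPadd, hPsmul, hPP', hP'P, hPh, hPT⟩ :=
    exists_std U (hfam.lft i₁) hnl hℓ hr1 (hfam.pf.pow i₁)
  have hc0 : c ≠ 0 := by
    rintro rfl
    rw [zero_mul] at hcc
    exact zero_ne_one hcc
  have hfix4 : Nat.card ↥(fixf ρ) = 2 ^ 2 := by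
    have h1 := card_fixf hord
    rw [hF, hq] at h1
    have h3 : (2 ^ 2) ^ r i₁ = Nat.card ↥(fixf ρ) ^ r i₁ := by
      rw [← h1, ← pow_mul, ← pow_mul, mul_comm]
    exact (Nat.pow_left_injective hℓ.ne_zero h3).symm
  have hP0 : ∀ v, P v = 0 → v = 0 := by
    intro v hv
    have h0 : P 0 = 0 := by
      have := hPsmul 0 0
      rwa [zero_smul, zero_smul] at this
    calc v = P' (P v) := (hP'P v).symm
      _ = P' (P 0) := by rw [hv, h0]
      _ = 0 := hP'P 0
  obtain ⟨T, hT⟩ : ∃ T : (Fin 3 → F) → (Fin 3 → F), ∀ v, T v = c • f i₁ v := ⟨_, fun v => rfl⟩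
  have hTP : ∀ a : Fin 3 → F, T (P a) = P (fun i => ρ (a i)) := fun a => by rw [hT, hPT]
  have hTf : ∀ j, j ≠ i₁ → ∀ v, f j (T v) = T (f j v) := by
    intro j hj v
    rw [hT, hT, hlin j hj, hfam.comm j i₁]
  have hP'add : ∀ v w, P' (v + w) = P' v + P' w := by
    intro v w
    nth_rewrite 1 [← hPP' v, ← hPP' w]
    rw [← hPadd, hP'P]
  have hP'smul : ∀ (a : F) v, P' (a • v) = a • P' v := by
    intro a v
    nth_rewrite 1 [← hPP' v]
    rw [← hPsmul, hP'P]
  -- the linear members have order three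
  have hthree : ∀ j, j ≠ i₁ → r j = 3 := by
    intro j hj
    by_contra hj3
    obtain ⟨k, hk⟩ := hfam.ord j
    obtain ⟨g, hg⟩ : ∃ g : (Fin 3 → F) → (Fin 3 → F), ∀ a, g a = P' (f j (P a)) := ⟨_, fun a => rfl⟩
    have hPg : ∀ a, P (g a) = f j (P a) := fun a => by rw [hg, hPP']
    have hgk : ∀ m a, P (g^[m] a) = (f j)^[m] (P a) := by
      intro m
      induction m with
      | zero => intro a; rfl
      | succ m ih => intro a; rw [Function.iterate_succ_apply, ih, hPg, Function.iterate_succ_apply]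
    obtain ⟨m, hm⟩ : ∃ m, m = 648 := ⟨_, rfl⟩
    have h648 : ∀ a, g^[m] a = a := by
      refine four hℓodd hfix4 hq (fun v w => ?_) (fun d v => ?_) (fun v w => ?_) (fun a => ?_) hm
      · rw [hg, hPadd, Ind.map_add (hfam.lft j), hP'add, hg, hg]
      · rw [hg, hPsmul, hlin j hj, hP'smul, hg]
      · rw [← hPh, hPg, hPg, lin_iso (hfam.lft j) (hlin j hj), hPh]
      · rw [hg, ← hTP, hTf j hj, ← hPg, hTP, hP'P]
    have hfm : ∀ v, (f j)^[m] v = v := by
      intro v
      rw [← hPP' v, ← hgk, h648]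
    have hcop : Nat.Coprime (r j ^ k) m := by
      apply Nat.Coprime.pow_left
      rw [hm, (hfam.pf.prime j).coprime_iff_not_dvd]
      intro hd
      have h5 : r j ∣ 2 ^ 3 * 3 ^ 4 := by
        have : 2 ^ 3 * 3 ^ 4 = 648 := by norm_num
        rw [this]; exact hd
      rcases (hfam.pf.prime j).dvd_mul.1 h5 with h6 | h6
      · exact hodd j ((Nat.prime_dvd_prime_iff_eq (hfam.pf.prime j) Nat.prime_two).1 ((hfam.pf.prime j).dvd_of_dvd_pow h6))
      · exact hj3 ((Nat.prime_dvd_prime_iff_eq (hfam.pf.prime j) Nat.prime_three).1 ((hfam.pf.prime j).dvd_of_dvd_pow h6))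
    have hx1 : x j = 1 := by
      have e1 : x j ^ (r j ^ k) = 1 := ((hfam.lft j).pow _).eq_one_iff.2 ⟨1, fun v => by rw [hk, one_smul]⟩
      have e2 : x j ^ m = 1 := ((hfam.lft j).pow _).eq_one_iff.2 ⟨1, fun v => by rw [hfm, one_smul]⟩
      have e3 := Nat.dvd_gcd (orderOf_dvd_of_pow_eq_one e1) (orderOf_dvd_of_pow_eq_one e2)
      rw [hcop.gcd_eq_one, Nat.dvd_one, orderOf_eq_one_iff] at e3
      exact e3
    exact hfam.pf.ne j hx1
  obtain ⟨s, hs⟩ := H106.RC.Cov.two U.env hcov hfam.pf.ne i₁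
  have hall : ∀ i, i = i₁ ∨ i = s := by
    intro i
    by_cases hi : i = i₁
    · exact Or.inl hi
    · exact Or.inr (hfam.pf.inj ((hthree i hi).trans (hthree s hs).symm))
  -- the singular vector
  obtain ⟨a₀, ha₀⟩ : ∃ a₀ : Fin 3 → F, a₀ = ![1, 1, 0] := ⟨_, rfl⟩
  have ha₀0 : a₀ ≠ 0 := by
    intro h
    rw [ha₀] at h
    exact one_ne_zero (congrFun h 0)
  have ha₀s : hermForm 3 F q a₀ a₀ = 0 := by
    rw [herm_def, Fin.sum_univ_three, ha₀]
    simp [zero_pow (show q ≠ 0 by omega)]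
    linear_combination h2
  refine two_members U rfl h2 (by omega) hfam hcov hRC hs hall hnl hr1 (hthree s hs) (hlin s hs) hc0 hT
    (hTf s hs) (ρ := ρ) (fun v w => ?_) (fun a ha ha0 => ?_) (e₀ := P a₀) (fun h => ha₀0 (hP0 _ h)) (by rw [hPh, ha₀s]) ?_
  · rw [← hPP' v, ← hPP' w, hTP, hTP, hPh, hPh]
    rw [herm_def, herm_def, map_sum]
    refine Finset.sum_congr rfl fun i _ => ?_
    rw [map_mul, map_pow]
  · have h1 : a ^ 4 = a := by
      have h3 := pow_card (mem_fixf.2 ha)
      rw [hfix4] at h3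
      exact h3
    have h3 : a ^ q = a ^ 2 := pow_q hℓodd hfix4 hq (mem_fixf.2 ha)
    rw [h3]
    have h4 : a * (a * a ^ 2 - 1) = 0 := by linear_combination h1
    exact sub_eq_zero.1 ((mul_eq_zero.1 h4).resolve_left ha0)
  · rw [hTP]
    congr 1
    funext i
    rw [ha₀]
    fin_cases i <;> simp

end main

end Cfsg.Agent.H322.RC
end

private theorem dce_1bae386580a8 : _root_.True := by
  try have : _root_.True := by simp only [_root_.Cfsg.Agent.H322.RC.perp.congr_simp]
  exact _root_.True.intro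
end

-- part: H409/RC/Irr
section
prune_inst 0xc03060001940120000180514800004400200040020400800000105020c80040044024020b8302411488000c440300000000000a00040000004000400011c01800080100400000000000008000000000000000000000000000000000000000000000000000
set_option linter.all false
open scoped Cfsg.Agent.FastGrp

-- part: H409/RC/Str1
section
/-!
# S3510, family E, box E8 (1): commutative `*`-closed algebras of endomorphisms (helper409)
-/

set_option autoImplicit false
set_option linter.unusedSectionVars false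

namespace Cfsg.Agent.H409.RC

open Cfsg Module Cfsg.Agent.LieClassical.HermBasic Cfsg.Agent.ClassicalGeometry.HermOrtho Cfsg.Agent.H380.RC

section alg

variable {F : Type} [Field F] [Fintype F] {n q : ℕ}

/-- `b` is adjoint to `a` -/
def Adj (q : ℕ) (a b : Module.End F (Fin n → F)) : Prop :=
  ∀ v w, hermForm n F q (a v) w = hermForm n F q v (b w)

theorem Adj.symm (hF : Fintype.card F = q ^ 2) {a b : Module.End F (Fin n → F)} (h : Adj q a b) : Adj q b a := by
  intro v w
  rw [herm_swap hF w (b v), ← h, ← herm_swap hF]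

theorem Adj.unique (hF : Fintype.card F = q ^ 2) {a b b' : Module.End F (Fin n → F)} (h : Adj q a b)
    (h' : Adj q a b') : b = b' := by
  apply LinearMap.ext
  intro w
  rw [← sub_eq_zero]
  apply herm_nondeg hF
  intro v
  apply herm_eq_zero_swap hF
  rw [herm_sub_right hF, ← h, ← h', sub_self]

theorem Adj.mul {a a' b b' : Module.End F (Fin n → F)} (h : Adj q a a') (h' : Adj q b b') :
    Adj q (a * b) (b' * a') := by
  intro v w
  rw [Module.End.mul_apply, Module.End.mul_apply, h, h']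

theorem Adj.add (hF : Fintype.card F = q ^ 2) {a a' b b' : Module.End F (Fin n → F)} (h : Adj q a a')
    (h' : Adj q b b') : Adj q (a + b) (a' + b') := by
  intro v w
  rw [LinearMap.add_apply, LinearMap.add_apply, herm_add_left, herm_add_right hF, h, h']

theorem Adj.sub (hF : Fintype.card F = q ^ 2) {a a' b b' : Module.End F (Fin n → F)} (h : Adj q a a')
    (h' : Adj q b b') : Adj q (a - b) (a' - b') := by
  intro v w
  rw [LinearMap.sub_apply, LinearMap.sub_apply, herm_sub_left, herm_sub_right hF, h, h']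

theorem Adj.one : Adj q (1 : Module.End F (Fin n → F)) 1 := fun _ _ => rfl

theorem Adj.alg (hF : Fintype.card F = q ^ 2) (c : F) :
    Adj q (algebraMap F (Module.End F (Fin n → F)) c) (algebraMap F (Module.End F (Fin n → F)) (c ^ q)) := by
  intro v w
  rw [Module.algebraMap_end_apply, Module.algebraMap_end_apply, herm_smul_left, herm_smul_right,
    pow_q_pow_q hF]

theorem osmos {A : Type*} [Ring A] (a b : A) : (1 - a) * (1 - b) = 1 - a - b + a * b := by
  rw [sub_mul, one_mul, mul_sub, mul_one]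
  abel

/-- a commutative `*`-closed algebra of endomorphisms, all elements satisfy `a ^ N = a` -/
structure CSt (q : ℕ) (R : Subalgebra F (Module.End F (Fin n → F))) : Prop where
  comm : ∀ a ∈ R, ∀ b ∈ R, a * b = b * a
  star : ∀ a ∈ R, ∃ b ∈ R, Adj q a b
  red : ∃ N : ℕ, 2 ≤ N ∧ ∀ a ∈ R, a ^ N = a

variable {R : Subalgebra F (Module.End F (Fin n → F))}

/-- the three cases -/
theorem tri_alg (hF : Fintype.card F = q ^ 2) (h : CSt q R) :
    (∃ s ∈ R, s * s = s ∧ s ≠ 0 ∧ s ≠ 1 ∧ Adj q s s) ∨ (∃ e ∈ R, e * e = e ∧ Adj q e (1 - e)) ∨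
      ∀ a ∈ R, a ≠ 0 → ∃ b ∈ R, a * b = 1 := by
  by_cases hinv : ∀ a ∈ R, a ≠ 0 → ∃ b ∈ R, a * b = 1
  · exact Or.inr (Or.inr hinv)
  push Not at hinv
  obtain ⟨a, haR, ha0, hab⟩ := hinv
  obtain ⟨N, hN, hpow⟩ := h.red
  obtain ⟨M, rfl⟩ : ∃ M, N = M + 2 := ⟨N - 2, by omega⟩
  have hred : a ^ (M + 2) = a := hpow a haR
  obtain ⟨e, he⟩ : ∃ e, e = a ^ (M + 1) := ⟨_, rfl⟩
  have heR : e ∈ R := by
    rw [he]
    exact pow_mem haR _
  have hee : e * e = e := by
    rw [he, ← pow_add]
    have h1 : M + 1 + (M + 1) = (M + 2) + M := by ring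
    rw [h1, pow_add, hred, pow_succ']
  have he0 : e ≠ 0 := by
    intro h0
    apply ha0
    rw [← hred, pow_succ, ← he, h0, zero_mul]
  have he1 : e ≠ 1 := by
    intro h1
    apply hab (a ^ M) (pow_mem haR _)
    rw [← pow_succ', ← he, h1]
  obtain ⟨e', he'R, hadj⟩ := h.star e heR
  have hcom : e * e' = e' * e := h.comm e heR e' he'R
  have hee' : e' * e' = e' := by
    apply Adj.unique hF (a := e)
    · have := hadj.mul hadj
      rwa [hee] at this
    · exact hadj
  by_cases hs : e * e' = 0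
  · by_cases ht : (1 - e) * (1 - e') = 0
    · right
      left
      refine ⟨e, heR, hee, ?_⟩
      have h1 : e' = 1 - e := by
        have h2 : (1 - e) * (1 - e') = 1 - e - e' + e * e' := osmos e e'
        rw [ht, hs, add_zero] at h2
        exact (sub_eq_zero.1 h2.symm).symm
      rw [← h1]
      exact hadj
    · left
      have h1e : (1 - e) * (1 - e) = 1 - e := by
        have : (1 - e) * (1 - e) = 1 - e - e + e * e := osmos e e
        rw [this, hee]
        abel
      have h1e' : (1 - e') * (1 - e') = 1 - e' := by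
        have : (1 - e') * (1 - e') = 1 - e' - e' + e' * e' := osmos e' e'
        rw [this, hee']
        abel
      have hcom1 : (1 - e) * (1 - e') = (1 - e') * (1 - e) := by
        rw [osmos, osmos, hcom]
        abel
      refine ⟨(1 - e) * (1 - e'), R.mul_mem (R.sub_mem R.one_mem heR) (R.sub_mem R.one_mem he'R), ?_, ht, ?_, ?_⟩
      · calc (1 - e) * (1 - e') * ((1 - e) * (1 - e')) = (1 - e) * ((1 - e') * (1 - e)) * (1 - e') := by
              simp only [mul_assoc]
          _ = (1 - e) * ((1 - e) * (1 - e')) * (1 - e') := by rw [hcom1]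
          _ = ((1 - e) * (1 - e)) * ((1 - e') * (1 - e')) := by simp only [mul_assoc]
          _ = _ := by rw [h1e, h1e']
      · intro h1
        apply he0
        have h2 : e * ((1 - e) * (1 - e')) = 0 := by
          rw [← mul_assoc, mul_sub e 1 e, mul_one, hee, sub_self, zero_mul]
        rw [h1, mul_one] at h2
        exact h2
      · have h2 : Adj q ((1 - e) * (1 - e')) ((1 - e) * (1 - e')) :=
          (Adj.one.sub hF hadj).mul (Adj.one.sub hF (hadj.symm hF))
        exact h2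
  · left
    refine ⟨e * e', R.mul_mem heR he'R, ?_, hs, ?_, ?_⟩
    · calc e * e' * (e * e') = e * (e' * e) * e' := by simp only [mul_assoc]
        _ = e * (e * e') * e' := by rw [← hcom]
        _ = (e * e) * (e' * e') := by simp only [mul_assoc]
        _ = _ := by rw [hee, hee']
    · intro h1
      apply he1
      have h2 : e * (e * e') = e * e' := by rw [← mul_assoc, hee]
      rw [h1, mul_one] at h2
      exact h2
    · exact hadj.mul (hadj.symm hF)

/-- the field -/
theorem mkField (hn : 0 < n) (hcomm : ∀ a ∈ R, ∀ b ∈ R, a * b = b * a)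
    (hinj : ∀ a ∈ R, a ≠ 0 → Function.Injective a) (hstar : ∀ a ∈ R, ∃ b ∈ R, Adj q a b) :
    ∃ (K : Type) (_ : Field K) (_ : Fintype K) (_ : Algebra F K) (_ : Module K (Fin n → F))
      (_ : IsScalarTower F K (Fin n → F)),
      (∀ a : K, ∃ b : K, ∀ v w : Fin n → F, hermForm n F q (a • v) w = hermForm n F q v (b • w)) ∧
      (∀ k : K, ∃ a ∈ R, ∀ v : Fin n → F, k • v = a v) ∧ (∀ a ∈ R, ∃ k : K, ∀ v : Fin n → F, a v = k • v) := by
  classical
  have hfin : Finite R := Finite.of_injective (fun (a : R) (v : Fin n → F) => (a : Module.End F (Fin n → F)) v) (by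
    intro a b hab
    exact Subtype.ext (LinearMap.ext fun v => congrFun hab v))
  have hfield : IsField R := by
    refine ⟨⟨0, 1, ?_⟩, fun a b => Subtype.ext (hcomm a a.2 b b.2), ?_⟩
    · intro h
      have h1 : (0 : Module.End F (Fin n → F)) = 1 := congrArg Subtype.val h
      have h2 := LinearMap.congr_fun h1 (Pi.single ⟨0, hn⟩ 1)
      have h3 := congrFun h2 ⟨0, hn⟩
      rw [Module.End.one_apply, Pi.single_eq_same] at h3
      exact zero_ne_one h3
    · intro a ha
      have ha' : (a : Module.End F (Fin n → F)) ≠ 0 := fun h => ha (Subtype.ext h)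
      have hinj' : Function.Injective (fun b : R => a * b) := by
        intro b c hbc
        apply Subtype.ext
        apply LinearMap.ext
        intro u
        apply hinj a a.2 ha'
        exact congrArg (fun f : R => (f : Module.End F (Fin n → F)) u) hbc
      obtain ⟨b, hb⟩ := Finite.surjective_of_injective hinj' 1
      exact ⟨b, hb⟩
  let _ : Field R := hfield.toField
  have : Fintype R := Fintype.ofFinite R
  refine ⟨R, inferInstance, this, inferInstance, inferInstance, ⟨fun _ _ _ => rfl⟩, ?_, ?_, ?_⟩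
  · intro a
    obtain ⟨b, hbR, hb⟩ := hstar a a.2
    exact ⟨⟨b, hbR⟩, hb⟩
  · intro k
    exact ⟨k, k.2, fun _ => rfl⟩
  · intro a ha
    exact ⟨⟨a, ha⟩, fun _ => rfl⟩

end alg

end Cfsg.Agent.H409.RC
end

-- part: H409/RC/Str2
section
/-!
# S3510, family E, box E8 (2): the algebra of a commuting family (helper409)
-/

set_option autoImplicit false
set_option linter.unusedSectionVars false

namespace Cfsg.Agent.H409.RC

open Cfsg Module Cfsg.Agent.LieClassical.HermBasic Cfsg.Agent.ClassicalGeometry.HermOrtho Cfsg.Agent.H380.RC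

section adj

variable {F : Type} [Field F] [Fintype F] {n q : ℕ}

theorem comm_adjoin {S : Set (Module.End F (Fin n → F))} {b : Module.End F (Fin n → F)} (hb : ∀ s ∈ S, Commute b s)
    {a : Module.End F (Fin n → F)} (ha : a ∈ Algebra.adjoin F S) : Commute b a := by
  induction ha using Algebra.adjoin_induction with
  | mem y hy => exact hb y hy
  | algebraMap r => exact (Algebra.commutes r b).symm
  | add a b _ _ ha hb => exact ha.add_right hb
  | mul a b _ _ ha hb => exact ha.mul_right hb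

theorem cst_adjoin (hF : Fintype.card F = q ^ 2) (hn : 0 < n) {S : Set (Module.End F (Fin n → F))}
    (hcomm : ∀ a ∈ S, ∀ b ∈ S, Commute a b) (hiso : ∀ a ∈ S, ∀ v w, hermForm n F q (a v) (a w) = hermForm n F q v w)
    {M : ℕ} (hM : M.Coprime q) (hord : ∀ a ∈ S, a ^ M = 1) : CSt q (Algebra.adjoin F S) := by
  have hq : 2 ≤ q := two_le hF
  have hM0 : 0 < M := by
    rcases Nat.eq_zero_or_pos M with h | h
    · subst h
      rw [Nat.coprime_zero_left] at hM
      omega
    · exact h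
  have hc : ∀ a ∈ Algebra.adjoin F S, ∀ b ∈ Algebra.adjoin F S, Commute a b := fun a ha b hb =>
    comm_adjoin (fun s hs => (comm_adjoin (fun t ht => hcomm s hs t ht) ha).symm) hb
  refine ⟨fun a ha b hb => (hc a ha b hb).eq, ?_, ?_⟩
  · intro a ha
    induction ha using Algebra.adjoin_induction with
    | mem y hy =>
      refine ⟨y ^ (M - 1), pow_mem (Algebra.subset_adjoin hy) _, ?_⟩
      intro v w
      have h1 : w = y ((y ^ (M - 1)) w) := by
        have h2 : y * y ^ (M - 1) = 1 := by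
          rw [← pow_succ', show M - 1 + 1 = M by omega]
          exact hord y hy
        have h3 := LinearMap.congr_fun h2 w
        exact h3.symm
      conv_lhs => rw [h1]
      exact hiso y hy _ _
    | algebraMap r => exact ⟨_, Subalgebra.algebraMap_mem _ _, Adj.alg hF r⟩
    | add a b _ _ ha hb =>
      obtain ⟨a', ha', h1⟩ := ha
      obtain ⟨b', hb', h2⟩ := hb
      exact ⟨a' + b', add_mem ha' hb', h1.add hF h2⟩
    | mul a b _ _ ha hb =>
      obtain ⟨a', ha', h1⟩ := ha
      obtain ⟨b', hb', h2⟩ := hb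
      exact ⟨b' * a', mul_mem hb' ha', h1.mul h2⟩
  · obtain ⟨p, k, hp, hchar, hk, hk0⟩ := exists_prime_pow hF
    have : Fact p.Prime := ⟨hp⟩
    have : Nonempty (Fin n) := ⟨⟨0, hn⟩⟩
    have hinj : Function.Injective (algebraMap F (Module.End F (Fin n → F))) := (algebraMap F _).injective
    have hcE : CharP (Module.End F (Fin n → F)) p := charP_of_injective_algebraMap hinj p
    have hN : (q ^ 2) ^ M.totient = p ^ (k * 2 * M.totient) := by
      rw [hk, ← pow_mul, ← pow_mul, mul_assoc]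
    have hmod : (q ^ 2) ^ M.totient ≡ 1 [MOD M] := Nat.ModEq.pow_totient (Nat.Coprime.pow_left 2 hM.symm)
    have hφ : 0 < M.totient := Nat.totient_pos.2 hM0
    have h2N : 2 ≤ (q ^ 2) ^ M.totient := by
      calc 2 ≤ q := hq
        _ ≤ q ^ (2 * M.totient) := Nat.le_self_pow (by omega) q
        _ = _ := by rw [pow_mul]
    refine ⟨(q ^ 2) ^ M.totient, h2N, ?_⟩
    intro a ha
    induction ha using Algebra.adjoin_induction with
    | mem y hy =>
      obtain ⟨t, ht⟩ := (Nat.modEq_iff_dvd' (by omega)).1 hmod.symm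
      have h3 : (q ^ 2) ^ M.totient = M * t + 1 := by omega
      rw [h3, pow_succ, pow_mul, hord y hy, one_pow, one_mul]
    | algebraMap r =>
      rw [← map_pow, ← hF, FiniteField.pow_card_pow]
    | add a b ha' hb' ha hb =>
      rw [hN, add_pow_char_pow_of_commute _ _ (hc a ha' b hb'), ← hN, ha, hb]
    | mul a b ha' hb' ha hb =>
      rw [(hc a ha' b hb').mul_pow, ha, hb]

/-- commuting linear isometries of order prime to `q` -/
structure Fam (q : ℕ) {ι : Type} (f : ι → (Fin n → F) → (Fin n → F)) : Prop where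
  lin : ∀ i, Lin (f i)
  add : ∀ i v w, f i (v + w) = f i v + f i w
  herm : ∀ i v w, hermForm n F q (f i v) (f i w) = hermForm n F q v w
  comm : ∀ i j v, f i (f j v) = f j (f i v)
  ord : ∀ i, ∃ m : ℕ, m.Coprime q ∧ ∀ v, (f i)^[m] v = v

variable {ι : Type} {f : ι → (Fin n → F) → (Fin n → F)}

/-- the linear maps -/
def Fam.g (h : Fam q f) (i : ι) : Module.End F (Fin n → F) where
  toFun := f i
  map_add' := h.add i
  map_smul' := h.lin i

theorem Fam.g_pow (h : Fam q f) (i : ι) (m : ℕ) (v : Fin n → F) : (h.g i ^ m) v = (f i)^[m] v := by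
  rw [Module.End.pow_apply]
  rfl

theorem Fam.exists_M [Finite ι] (h : Fam q f) : ∃ M : ℕ, M.Coprime q ∧ ∀ i, h.g i ^ M = 1 := by
  classical
  have := Fintype.ofFinite ι
  choose m hm hmf using h.ord
  refine ⟨∏ i, m i, Nat.Coprime.prod_left fun i _ => hm i, fun i => ?_⟩
  have h1 : h.g i ^ m i = 1 := by
    apply LinearMap.ext
    intro v
    rw [h.g_pow, hmf, Module.End.one_apply]
  obtain ⟨t, ht⟩ := Finset.dvd_prod_of_mem m (Finset.mem_univ i)
  rw [ht, pow_mul, h1, one_pow]

theorem Fam.cst [Finite ι] (hF : Fintype.card F = q ^ 2) (hn : 0 < n) (h : Fam q f) :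
    CSt q (Algebra.adjoin F (Set.range h.g)) := by
  obtain ⟨M, hM, hMi⟩ := h.exists_M
  apply cst_adjoin hF hn _ _ hM
  · rintro _ ⟨i, rfl⟩
    exact hMi i
  · rintro _ ⟨i, rfl⟩ _ ⟨j, rfl⟩
    apply LinearMap.ext
    intro v
    exact h.comm i j v
  · rintro _ ⟨i, rfl⟩ v w
    exact h.herm i v w

/-- restriction of the index set -/
theorem Fam.single (h : Fam q f) (i : ι) : Fam q (fun _ : Unit => f i) :=
  ⟨fun _ => h.lin i, fun _ => h.add i, fun _ => h.herm i, fun _ _ _ => rfl, fun _ => h.ord i⟩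

theorem stab_range {s g : Module.End F (Fin n → F)} (h : s * g = g * s) :
    ∀ v ∈ LinearMap.range s, g v ∈ LinearMap.range s := by
  rintro _ ⟨v, rfl⟩
  exact ⟨g v, LinearMap.congr_fun h v⟩

theorem stab_ker {s g : Module.End F (Fin n → F)} (h : s * g = g * s) :
    ∀ v ∈ LinearMap.ker s, g v ∈ LinearMap.ker s := by
  intro v hv
  rw [LinearMap.mem_ker] at hv ⊢
  have h1 : s (g v) = g (s v) := LinearMap.congr_fun h v
  rw [h1, hv, map_zero]

/-- a field of endomorphisms -/
def FieldCase (q : ℕ) (f : ι → (Fin n → F) → (Fin n → F)) : Prop :=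
  ∃ (K : Type) (_ : Field K) (_ : Fintype K) (_ : Algebra F K) (_ : Module K (Fin n → F))
    (_ : IsScalarTower F K (Fin n → F)),
    (∀ a : K, ∃ b : K, ∀ v w : Fin n → F, hermForm n F q (a • v) w = hermForm n F q v (b • w)) ∧
    (∀ (i : ι) (a : K) (v : Fin n → F), f i (a • v) = a • f i v) ∧ (∀ i, ∃ a : K, ∀ v, f i v = a • v) ∧
    (∀ i, ScalOn (f i) ⊤ ∨ (∀ A : Submodule F (Fin n → F), Stab (f i) A → A = ⊥ ∨ A = ⊤) ∨
      ∃ (K' : Type) (_ : Field K') (_ : Fintype K') (_ : Algebra F K') (_ : Module K' (Fin n → F))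
        (_ : IsScalarTower F K' (Fin n → F)),
        (∀ a : K', ∃ b : K', ∀ v w : Fin n → F, hermForm n F q (a • v) w = hermForm n F q v (b • w)) ∧
        (∀ (i : ι) (a : K') (v : Fin n → F), f i (a • v) = a • f i v) ∧ 1 < Module.finrank F K' ∧
        1 < Module.finrank K' (Fin n → F))

theorem adjoin_stab {S : Set (Module.End F (Fin n → F))} {A : Submodule F (Fin n → F)}
    (hA : ∀ s ∈ S, ∀ v ∈ A, s v ∈ A) {a : Module.End F (Fin n → F)} (ha : a ∈ Algebra.adjoin F S) :
    ∀ v ∈ A, a v ∈ A := by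
  induction ha using Algebra.adjoin_induction with
  | mem y hy => exact hA y hy
  | algebraMap c => intro u hu; exact A.smul_mem c hu
  | add a b _ _ ha hb => intro u hu; exact A.add_mem (ha u hu) (hb u hu)
  | mul a b _ _ ha hb => intro u hu; exact ha _ (hb u hu)

theorem Fam.field [Finite ι] (hF : Fintype.card F = q ^ 2) (hn : 0 < n) (h : Fam q f)
    (hinv : ∀ a ∈ Algebra.adjoin F (Set.range h.g), a ≠ 0 → ∃ b ∈ Algebra.adjoin F (Set.range h.g), a * b = 1) :
    FieldCase q f := by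
  have hR := h.cst hF hn
  have hinj : ∀ a ∈ Algebra.adjoin F (Set.range h.g), a ≠ 0 → Function.Injective a := by
    intro a ha ha0
    obtain ⟨b, hb, hab⟩ := hinv a ha ha0
    rw [hR.comm a ha b hb] at hab
    intro v w hvw
    have h1 : (b * a) v = (b * a) w := by
      rw [Module.End.mul_apply, Module.End.mul_apply, hvw]
    rwa [hab] at h1
  obtain ⟨K, i1, i2, i3, i4, i5, hst, hKR, hRK⟩ := mkField hn hR.comm hinj hR.star
  have hgR : ∀ i, h.g i ∈ Algebra.adjoin F (Set.range h.g) := fun i => Algebra.subset_adjoin ⟨i, rfl⟩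
  refine ⟨K, i1, i2, i3, i4, i5, hst, ?_, fun i => hRK _ (hgR i), ?_⟩
  · intro i a v
    obtain ⟨b, hb, hab⟩ := hKR a
    rw [hab, hab]
    exact LinearMap.congr_fun (hR.comm _ (hgR i) _ hb) v
  · intro i
    obtain ⟨M, hM, hMi⟩ := h.exists_M
    have hRi : CSt q (Algebra.adjoin F {h.g i}) := by
      apply cst_adjoin hF hn _ _ hM
      · intro a ha
        rw [Set.mem_singleton_iff] at ha
        rw [ha]
        exact hMi i
      · intro a ha b hb
        rw [Set.mem_singleton_iff] at ha hb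
        rw [ha, hb]
      · intro a ha v w
        rw [Set.mem_singleton_iff] at ha
        rw [ha]
        exact h.herm i v w
    have hle : Algebra.adjoin F {h.g i} ≤ Algebra.adjoin F (Set.range h.g) := by
      apply Algebra.adjoin_mono
      rintro _ rfl
      exact ⟨i, rfl⟩
    obtain ⟨K', j1, j2, j3, j4, j5, hst', hKR', hRK'⟩ := mkField hn hRi.comm (fun a ha => hinj a (hle ha)) hRi.star
    have hfd : FiniteDimensional F K' := Module.Finite.of_finite
    have hfdV : FiniteDimensional K' (Fin n → F) := Module.Finite.of_finite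
    obtain ⟨k, hk⟩ := hRK' _ (Algebra.subset_adjoin (Set.mem_singleton (h.g i)))
    have : Nonempty (Fin n) := ⟨⟨0, hn⟩⟩
    by_cases h1 : finrank F K' = 1
    · left
      obtain ⟨c, hc⟩ := (finrank_eq_one_iff_of_nonzero' (1 : K') one_ne_zero).1 h1 k
      refine ⟨c, fun v _ => ?_⟩
      have h2 : f i v = k • v := hk v
      rw [h2, ← hc, smul_assoc, one_smul]
    right
    by_cases h2 : finrank K' (Fin n → F) = 1
    · left
      intro A hA
      by_contra hcon
      push Not at hcon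
      obtain ⟨v₀, hv₀, hv0⟩ := A.ne_bot_iff.1 hcon.1
      apply hcon.2
      rw [Submodule.eq_top_iff']
      intro w
      obtain ⟨c, rfl⟩ := (finrank_eq_one_iff_of_nonzero' v₀ hv0).1 h2 w
      obtain ⟨b, hb, hcb⟩ := hKR' c
      rw [hcb]
      refine adjoin_stab ?_ hb v₀ hv₀
      rintro _ rfl v hv
      exact hA v hv
    right
    refine ⟨K', j1, j2, j3, j4, j5, hst', ?_, ?_, ?_⟩
    · intro j a v
      obtain ⟨b, hb, hab⟩ := hKR' a
      rw [hab, hab]
      exact LinearMap.congr_fun (hR.comm _ (hgR j) _ (hle hb)) v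
    · have := finrank_pos (R := F) (M := K')
      omega
    · have := finrank_pos (R := K') (M := Fin n → F)
      omega

/-- the trichotomy for a commuting family -/
theorem Fam.tri [Finite ι] (hF : Fintype.card F = q ^ 2) (hn : 0 < n) (h : Fam q f) :
    (∃ A : Submodule F (Fin n → F), NDeg q A ∧ A ≠ ⊥ ∧ A ≠ ⊤ ∧ ∀ i, Stab (f i) A) ∨
    (∃ W W' : Submodule F (Fin n → F), TS q W ∧ TS q W' ∧ IsCompl W W' ∧ ∀ i, Stab (f i) W ∧ Stab (f i) W') ∨
    FieldCase q f := by
  have hR := h.cst hF hn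
  have hgR : ∀ i, h.g i ∈ Algebra.adjoin F (Set.range h.g) := fun i => Algebra.subset_adjoin ⟨i, rfl⟩
  rcases tri_alg hF hR with ⟨s, hs, hss, hs0, hs1, hadj⟩ | ⟨e, he, hee, hadj⟩ | hinv
  · left
    refine ⟨LinearMap.range s, ?_, ?_, ?_, fun i => stab_range (hR.comm s hs _ (hgR i))⟩
    · rintro _ ⟨v, rfl⟩ hw
      apply herm_nondeg hF
      intro w
      have h1 : s (s v) = s v := LinearMap.congr_fun hss v
      rw [← h1, hadj]
      exact hw _ ⟨w, rfl⟩
    · intro h0
      exact hs0 (LinearMap.range_eq_bot.1 h0)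
    · intro h1
      apply hs1
      apply LinearMap.ext
      intro v
      obtain ⟨w, rfl⟩ := LinearMap.range_eq_top.1 h1 v
      exact LinearMap.congr_fun hss w
  · right
    left
    have h0 : e * (1 - e) = 0 := by rw [mul_sub, mul_one, hee, sub_self]
    refine ⟨LinearMap.range e, LinearMap.ker e, ?_, ?_, ?_, fun i => ⟨stab_range (hR.comm e he _ (hgR i)),
      stab_ker (hR.comm e he _ (hgR i))⟩⟩
    · rintro _ ⟨v, rfl⟩ _ ⟨w, rfl⟩
      rw [hadj]
      have h1 : (1 - e) (e w) = 0 := by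
        have h2 : (1 - e) * e = 0 := by rw [sub_mul, one_mul, hee, sub_self]
        exact LinearMap.congr_fun h2 w
      rw [h1, herm_zero_right hF]
    · intro v hv w hw
      rw [LinearMap.mem_ker] at hv hw
      have h1 : w = (1 - e) w := by
        rw [LinearMap.sub_apply, hw, Module.End.one_apply, sub_zero]
      rw [h1, ← hadj, hv, herm_zero_left]
    · constructor
      · rw [Submodule.disjoint_def]
        rintro _ ⟨v, rfl⟩ hv
        rw [LinearMap.mem_ker] at hv
        have h1 : e (e v) = e v := LinearMap.congr_fun hee v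
        rw [← h1, hv]
      · rw [codisjoint_iff, Submodule.eq_top_iff']
        intro v
        have h1 : v = e v + (v - e v) := by abel
        rw [h1]
        apply Submodule.add_mem_sup
        · exact ⟨v, rfl⟩
        · rw [LinearMap.mem_ker, map_sub]
          have h2 : e (e v) = e v := LinearMap.congr_fun hee v
          rw [h2, sub_self]
  · right
    right
    exact h.field hF hn hinv

end adj

end Cfsg.Agent.H409.RC
end

-- part: H409/RC/Str3
section
/-!
# S3510, family E, box E8 (3): invariant nondegenerate subspaces (helper409)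
-/

set_option autoImplicit false
set_option linter.unusedSectionVars false

namespace Cfsg.Agent.H409.RC

open Cfsg Module Cfsg.Agent.LieClassical.HermBasic Cfsg.Agent.ClassicalGeometry.HermOrtho Cfsg.Agent.H380.RC

section geo

variable {F : Type} [Field F] [Fintype F] {n q : ℕ} {ι : Type} {f : ι → (Fin n → F) → (Fin n → F)}

/-- the common singular eigenvector -/
def S1 (q : ℕ) (f : ι → (Fin n → F) → (Fin n → F)) : Prop :=
  ∃ e : Fin n → F, e ≠ 0 ∧ hermForm n F q e e = 0 ∧ ∀ i, ∃ c : F, f i e = c • e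

theorem Fam.zero (h : Fam q f) (i : ι) : f i 0 = 0 := (h.g i).map_zero

/-- a totally singular subspace with totally singular complement is not everything -/
theorem TS.ne_bot (hF : Fintype.card F = q ^ 2) (hn : 0 < n) {W W' : Submodule F (Fin n → F)} (hW' : TS q W')
    (hc : IsCompl W W') : W ≠ ⊥ := by
  rintro rfl
  have h1 : W' = ⊤ := by
    have := hc.sup_eq_top
    rwa [bot_sup_eq] at this
  subst h1
  have h2 : (Pi.single ⟨0, hn⟩ 1 : Fin n → F) = 0 := by
    apply herm_nondeg hF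
    intro v
    exact hW' _ (Submodule.mem_top) _ (Submodule.mem_top)
  have h3 := congrFun h2 ⟨0, hn⟩
  rw [Pi.single_eq_same] at h3
  exact one_ne_zero h3

/-- passing to an invariant nondegenerate subspace -/
theorem Fam.sub (hF : Fintype.card F = q ^ 2) (h : Fam q f) {A : Submodule F (Fin n → F)} (hA : NDeg q A) {a : ℕ}
    (ha : finrank F A = a) (hs : ∀ i, Stab (f i) A) :
    ∃ (φ : (Fin a → F) →ₗ[F] (Fin n → F)) (f' : ι → (Fin a → F) → (Fin a → F)), Fam q f' ∧
      Function.Injective φ ∧ LinearMap.range φ = A ∧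
      (∀ c d, hermForm n F q (φ c) (φ d) = hermForm a F q c d) ∧ ∀ i c, φ (f' i c) = f i (φ c) := by
  classical
  obtain ⟨b, hbA, hb⟩ := exists_orthonormal hF A hA ha
  let φ : (Fin a → F) →ₗ[F] (Fin n → F) :=
    { toFun := fun c => ∑ i, c i • b i
      map_add' := fun c d => by simp only [Pi.add_apply, add_smul, Finset.sum_add_distrib]
      map_smul' := fun r c => by
        simp only [Pi.smul_apply, smul_eq_mul, mul_smul, Finset.smul_sum, RingHom.id_apply] }
  have hφ : ∀ c, φ c = ∑ i, c i • b i := fun _ => rfl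
  have hiso : ∀ c d, hermForm n F q (φ c) (φ d) = hermForm a F q c d := by
    intro c d
    rw [hφ d, herm_sum_right hF, herm_def]
    refine Finset.sum_congr rfl fun j _ => ?_
    rw [herm_smul_right, hφ, herm_sum_smul_left hb, mul_comm]
  have hinj : Function.Injective φ := by
    intro c d hcd
    rw [← sub_eq_zero]
    apply herm_nondeg hF
    intro v
    rw [← hiso, map_sub, hcd, sub_self, herm_zero_left]
  have hrange : LinearMap.range φ = A := by
    apply le_antisymm
    · rintro _ ⟨c, rfl⟩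
      rw [hφ]
      exact A.sum_mem fun i _ => A.smul_mem _ (hbA i)
    · intro v hv
      exact ⟨fun i => hermForm n F q v (b i),
        (eq_sum_of_orthonormal A (by rw [ha, Fintype.card_fin]) hbA hb hv).symm⟩
  have hex : ∀ i c, ∃ c', φ c' = f i (φ c) := by
    intro i c
    have h1 : f i (φ c) ∈ LinearMap.range φ := by
      rw [hrange]
      apply hs
      rw [← hrange]
      exact ⟨c, rfl⟩
    exact h1
  choose f' hf' using hex
  refine ⟨φ, f', ?_, hinj, hrange, hiso, hf'⟩
  have hiter : ∀ i k c, φ ((f' i)^[k] c) = (f i)^[k] (φ c) := by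
    intro i k c
    induction k with
    | zero => rfl
    | succ k ih => rw [Function.iterate_succ_apply', Function.iterate_succ_apply', hf', ih]
  refine ⟨fun i c v => ?_, fun i v w => ?_, fun i v w => ?_, fun i j v => ?_, fun i => ?_⟩
  · apply hinj
    rw [hf', map_smul, map_smul, h.lin, hf']
  · apply hinj
    rw [hf', map_add, map_add, h.add, hf', hf']
  · rw [← hiso, hf', hf', h.herm, hiso]
  · apply hinj
    rw [hf', hf', hf', hf', h.comm]
  · obtain ⟨m, hm, hmf⟩ := h.ord i
    refine ⟨m, hm, fun v => ?_⟩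
    apply hinj
    rw [hiter, hmf]

theorem S1.up {a : ℕ} {f' : ι → (Fin a → F) → (Fin a → F)} {φ : (Fin a → F) →ₗ[F] (Fin n → F)}
    (hinj : Function.Injective φ) (hiso : ∀ c d, hermForm n F q (φ c) (φ d) = hermForm a F q c d)
    (hφ : ∀ i c, φ (f' i c) = f i (φ c)) (h : S1 q f') : S1 q f := by
  obtain ⟨e, he0, hee, hi⟩ := h
  refine ⟨φ e, ?_, ?_, ?_⟩
  · intro h0
    apply he0
    apply hinj
    rw [h0, map_zero]
  · rw [hiso, hee]
  · intro i
    obtain ⟨c, hc⟩ := hi i
    exact ⟨c, by rw [← hφ, hc, map_smul]⟩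

end geo

end Cfsg.Agent.H409.RC
end

-- part: H409/RC/Str
section
/-!
# S3510, family E, box E8: `StrStmt` (helper409)
-/

set_option autoImplicit false
set_option linter.unusedSectionVars false

namespace Cfsg.Agent.H409.RC

open Cfsg Module Cfsg.Agent.LieClassical.HermBasic Cfsg.Agent.ClassicalGeometry.HermOrtho Cfsg.Agent.H380.RC

section main

variable {F : Type} [Field F] [Fintype F] {n q : ℕ} {ι : Type} {f : ι → (Fin n → F) → (Fin n → F)}

end main

end Cfsg.Agent.H409.RC
end

-- part: H409/RC/Irr1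
section
/-!
# S3510, family E, box E7 (1): irreducible linear isometries (helper409)
-/

set_option autoImplicit false
set_option linter.unusedSectionVars false

namespace Cfsg.Agent.H409.RC

open Cfsg Module Cfsg.Agent.LieClassical.HermBasic Cfsg.Agent.ClassicalGeometry.HermOrtho Cfsg.Agent.H380.RC

section field

variable {F : Type} [Field F] [Fintype F] {n q : ℕ} {ι : Type} {f : ι → (Fin n → F) → (Fin n → F)}

/-- every member is irreducible : `V` is one-dimensional over a field, the members are elements of norm one -/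
theorem irr_field [Finite ι] (i₀ : ι) (hF : Fintype.card F = q ^ 2) (hn : 0 < n) (h : Fam q f)
    (hirr : ∀ (i : ι) (A : Submodule F (Fin n → F)), Stab (f i) A → A = ⊥ ∨ A = ⊤) :
    ∃ (K : Type) (_ : Field K) (_ : Fintype K) (_ : Algebra F K) (_ : Module K (Fin n → F))
      (_ : IsScalarTower F K (Fin n → F)), Odd n ∧ Fintype.card K = (q ^ n) ^ 2 ∧
      (∀ i, ∃ a : K, a ^ (q ^ n + 1) = 1 ∧ ∀ v, f i v = a • v) ∧
      (∀ (i : ι) (b : (Fin n → F) → (Fin n → F)), Lin b → (∀ v w, b (v + w) = b v + b w) →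
        (∀ v w, hermForm n F q (b v) (b w) = hermForm n F q v w) → (∀ v, b (f i v) = f i (b v)) →
        ∃ a : K, a ^ (q ^ n + 1) = 1 ∧ ∀ v, b v = a • v) := by
  classical
  have hne : Nonempty (Fin n) := ⟨⟨0, hn⟩⟩
  rcases h.tri hF hn with ⟨A, -, hb, ht, hs⟩ | ⟨W, W', hW, hW', hc, hs⟩ | hf
  · rcases hirr i₀ A (hs i₀) with h1 | h1
    · exact absurd h1 hb
    · exact absurd h1 ht
  · exfalso
    have h1 := TS.ne_bot hF hn hW' hc
    have h2 := TS.ne_bot hF hn hW hc.symm
    rcases hirr i₀ W (hs i₀).1 with h3 | h3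
    · exact h1 h3
    · apply h2
      have := hc.inf_eq_bot
      rwa [h3, top_inf_eq] at this
  obtain ⟨K, i1, i2, i3, i4, i5, hst, hcm, hel, -⟩ := hf
  obtain ⟨l, m, hnm, hl, hcK, hlK, ψ, hψ⟩ := H398.RC.kstruct hF hn hst
  have hmV : finrank K (Fin n → F) = m := by
    rw [← ψ.finrank_eq, finrank_fin_fun]
  obtain ⟨v₀, hv₀⟩ := exists_ne (0 : Fin n → F)
  have hspan : ∀ w : Fin n → F, ∃ c : K, c • v₀ = w := by
    intro w
    have h1 : (Submodule.span K {v₀}).restrictScalars F = ⊤ := by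
      rcases hirr i₀ ((Submodule.span K {v₀}).restrictScalars F) (by
        intro v hv
        obtain ⟨a, ha⟩ := hel i₀
        rw [ha]
        exact (Submodule.span K {v₀}).smul_mem a hv) with h2 | h2
      · exfalso
        have h3 : v₀ ∈ (Submodule.span K {v₀}).restrictScalars F := Submodule.mem_span_singleton_self v₀
        rw [h2] at h3
        exact hv₀ h3
      · exact h2
    have h2 : w ∈ (Submodule.span K {v₀}).restrictScalars F := by rw [h1]; trivial
    exact Submodule.mem_span_singleton.1 h2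
  have hm1 : m = 1 := by
    rw [← hmV]
    exact (finrank_eq_one_iff_of_nonzero' v₀ hv₀).2 hspan
  subst hm1
  rw [one_mul] at hnm
  subst hnm
  obtain ⟨σ, hadj, halg, hinv⟩ := H398.RC.exists_adj hF hn hst
  obtain ⟨c₀, hc₀⟩ := exists_not_fixed hF
  obtain ⟨Q, hQ, hσQ⟩ := H398.RC.inv_eq_pow σ hinv
    ⟨algebraMap F K c₀, fun h1 => hc₀ ((algebraMap F K).injective (by rw [← halg, h1]))⟩
  have hQn : Q = q ^ n := by
    have h1 : Q ^ 2 = (q ^ n) ^ 2 := by rw [← hQ, hcK]
    exact Nat.pow_left_injective (by norm_num : 2 ≠ 0) h1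
  have hnorm : ∀ a : K, (∀ v w : Fin n → F, hermForm n F q (a • v) (a • w) = hermForm n F q v w) →
      a ^ (q ^ n + 1) = 1 := by
    intro a ha
    apply H398.RC.smul_unique hF hn (F := F)
    intro v w
    rw [one_smul, ← hQn, pow_succ, ← hσQ, mul_smul, ← hadj, ha]
  refine ⟨K, i1, i2, i3, i4, i5, hl, hcK, ?_, ?_⟩
  · intro i
    obtain ⟨a, ha⟩ := hel i
    refine ⟨a, hnorm a fun v w => ?_, ha⟩
    rw [← ha, ← ha, h.herm]
  · intro i b hbl hba hbh hbc
    obtain ⟨a, ha⟩ := hspan (b v₀)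
    have hab : ∀ v, b v = a • v := by
      let A : Submodule F (Fin n → F) :=
        { carrier := {v | b v = a • v}
          add_mem' := fun {v w} hv hw => by
            change b (v + w) = a • (v + w)
            rw [hba, smul_add]
            exact congrArg₂ _ hv hw
          zero_mem' := by
            change b 0 = a • 0
            have := hba 0 0
            rw [add_zero] at this
            rw [smul_zero]
            simpa using this
          smul_mem' := fun c v hv => by
            change b (c • v) = a • (c • v)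
            rw [hbl, smul_comm a c v]
            exact congrArg _ hv }
      have hAs : Stab (f i) A := by
        intro v hv
        change b (f i v) = a • f i v
        rw [hbc, ← hcm]
        exact congrArg _ hv
      have hA : A = ⊤ := by
        rcases hirr i A hAs with h2 | h2
        · exfalso
          have h3 : v₀ ∈ A := ha.symm
          rw [h2] at h3
          exact hv₀ h3
        · exact h2
      intro v
      have h4 : v ∈ A := by rw [hA]; trivial
      exact h4
    exact ⟨a, hnorm a fun v w => by rw [← hab, ← hab, hbh], hab⟩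

/-- the degree of an irreducible map with a scalar power -/
theorem le_of_pow_scalar {g : (Fin n → F) → (Fin n → F)} (hn : 0 < n) (hl : Lin g)
    (ha : ∀ v w, g (v + w) = g v + g w) (hirr : ∀ A : Submodule F (Fin n → F), Stab g A → A = ⊥ ∨ A = ⊤) {r : ℕ}
    (hr : 0 < r) {c : F} (hc : ∀ v, g^[r] v = c • v) : n ≤ r := by
  classical
  have hne : Nonempty (Fin n) := ⟨⟨0, hn⟩⟩
  obtain ⟨v₀, hv₀⟩ := exists_ne (0 : Fin n → F)
  let G : Module.End F (Fin n → F) := { toFun := g, map_add' := ha, map_smul' := hl }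
  let A : Submodule F (Fin n → F) := Submodule.span F (Set.range fun k : Fin r => g^[k] v₀)
  have hA : A = ⊤ := by
    rcases hirr A (by
      intro v hv
      have h1 : A ≤ A.comap G := by
        rw [Submodule.span_le]
        rintro _ ⟨k, rfl⟩
        change G (g^[k] v₀) ∈ A
        change g (g^[k] v₀) ∈ A
        rw [← Function.iterate_succ_apply' g]
        rcases Nat.lt_or_ge (k.1 + 1) r with h2 | h2
        · exact Submodule.subset_span ⟨⟨k.1 + 1, h2⟩, rfl⟩
        · have h3 : k.1.succ = r := by have := k.2; omega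
          rw [h3, hc]
          exact A.smul_mem _ (Submodule.subset_span ⟨⟨0, hr⟩, rfl⟩)
      exact h1 hv) with h2 | h2
    · exfalso
      have h3 : v₀ ∈ A := Submodule.subset_span ⟨⟨0, hr⟩, rfl⟩
      rw [h2] at h3
      exact hv₀ h3
    · exact h2
  have h4 : finrank F A ≤ r := by
    have := finrank_range_le_card (R := F) (fun k : Fin r => g^[k] v₀)
    rwa [Fintype.card_fin] at this
  rw [hA, finrank_top, finrank_fin_fun] at h4
  exact h4

end field

end Cfsg.Agent.H409.RC
end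

-- part: H409/RC/Irr2
section
/-!
# S3510, family E, box E7 (2): the centralizer (helper409)
-/

set_option autoImplicit false
set_option linter.unusedSectionVars false

namespace Cfsg.Agent.H409.RC

open Cfsg Module Cfsg.Agent.LieClassical.HermBasic Cfsg.Agent.ClassicalGeometry.HermOrtho Cfsg.Agent.H380.RC

section grp

variable {G Ω : Type} [Group G] [MulAction G Ω] {N : Subgroup G} {F : Type} [Field F] [Fintype F] {n q : ℕ}

/-- the elements with linear lifts -/
def linH (U : UEnv G Ω N F n q) : Subgroup G where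
  carrier := {y | ∃ b, U.Lft y b ∧ Lin b}
  one_mem' := ⟨_, U.lft_one, fun _ _ => rfl⟩
  mul_mem' := by
    rintro y z ⟨b, hb, hbl⟩ ⟨c, hc, hcl⟩
    exact ⟨_, hb.mul hc, fun r v => by rw [hcl, hbl]⟩
  inv_mem' := by
    rintro y ⟨b, hb, hbl⟩
    obtain ⟨g, hg, h1, h2⟩ := hb.inv
    refine ⟨g, hg, fun c v => ?_⟩
    have h3 : c • v = b (c • g v) := by rw [hbl, h1]
    rw [h3, h2]

theorem le_linH (U : UEnv G Ω N F n q) : N ≤ linH U := by
  intro y hy
  obtain ⟨s, rfl⟩ := U.exists_el hy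
  refine ⟨_, U.lft_el s, fun c v => ?_⟩
  change Matrix.mulVec _ (c • v) = c • Matrix.mulVec _ v
  rw [Matrix.mulVec_smul]

theorem lin_herm (U : UEnv G Ω N F n q) {y : G} {b : (Fin n → F) → (Fin n → F)} (h : U.Lft y b) (hl : Lin b)
    (v w : Fin n → F) : hermForm n F q (b v) (b w) = hermForm n F q v w := by
  obtain ⟨ρ, h1, h2⟩ := h.ind.exists_rho
  rw [h2]
  have hn := U.hn
  have h3 : ∀ c : F, ρ c = c := by
    intro c
    have hv : (Pi.single ⟨0, by omega⟩ 1 : Fin n → F) ≠ 0 := by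
      intro h0
      have h4 := congrFun h0 ⟨0, by omega⟩
      rw [Pi.single_eq_same] at h4
      exact one_ne_zero h4
    have h4 := h1 c (Pi.single ⟨0, by omega⟩ 1)
    rw [hl] at h4
    have h5 : b (Pi.single ⟨0, by omega⟩ 1) ≠ 0 := by
      intro h0
      apply hv
      apply h.ind.injective
      rw [h0, h.ind.map_zero]
    exact (smul_left_injective F h5 h4).symm
  exact h3 _

/-- **the centralizer** of an element with irreducible lift -/
theorem card_cent [Finite G] (U : UEnv G Ω N F n q) {K : Type} [Field K] [Fintype K] [Algebra F K]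
    [Module K (Fin n → F)] [IsScalarTower F K (Fin n → F)] (hcK : Fintype.card K = (q ^ n) ^ 2)
    {x : G} {f : (Fin n → F) → (Fin n → F)} (hx : U.Lft x f) (hf : Lin f)
    (hcom : ∀ b : (Fin n → F) → (Fin n → F), Lin b → (∀ v w, b (v + w) = b v + b w) →
        (∀ v w, hermForm n F q (b v) (b w) = hermForm n F q v w) → (∀ v, b (f v) = f (b v)) →
        ∃ a : K, a ^ (q ^ n + 1) = 1 ∧ ∀ v, b v = a • v)
    {r : ℕ} (hr : r.Prime) (hnr : n ≤ r) (hxr : x ^ r = 1) {t : ℕ} (ht : t * (q + 1) = q ^ n + 1) :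
    Nat.card {y : linH U // (y : G) * x = x * y} ≤ t * (if r = n then n else 1) := by
  classical
  have hn := U.hn
  have hF := U.hF
  -- the possible scalars
  let Λ : Set F := {c | c ^ r = 1 ∧ c ^ n = 1}
  have hΛ : Nat.card Λ ≤ (if r = n then n else 1) := by
    by_cases hrn : r = n
    · rw [if_pos hrn]
      have h1 : Λ ⊆ ((Polynomial.nthRoots n (1 : F)).toFinset : Set F) := by
        intro c hc
        rw [Finset.mem_coe, Multiset.mem_toFinset, Polynomial.mem_nthRoots (by omega)]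
        exact hc.2
      calc Nat.card Λ ≤ Nat.card ((Polynomial.nthRoots n (1 : F)).toFinset : Set F) :=
            Nat.card_mono (Set.toFinite _) h1
        _ = (Polynomial.nthRoots n (1 : F)).toFinset.card := by rw [Nat.card_eq_card_toFinset, Finset.toFinset_coe]
        _ ≤ Multiset.card (Polynomial.nthRoots n (1 : F)) := Multiset.toFinset_card_le _
        _ ≤ n := Polynomial.card_nthRoots n 1
    · rw [if_neg hrn]
      have h1 : Λ ⊆ {1} := by
        rintro c ⟨hc1, hc2⟩
        have hco : Nat.Coprime r n := by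
          rw [Nat.Prime.coprime_iff_not_dvd hr]
          intro hd
          have := Nat.le_of_dvd (by omega) hd
          omega
        have h2 : orderOf c ∣ Nat.gcd r n := Nat.dvd_gcd (orderOf_dvd_of_pow_eq_one hc1) (orderOf_dvd_of_pow_eq_one hc2)
        rw [hco] at h2
        exact orderOf_eq_one_iff.1 (Nat.dvd_one.1 h2)
      calc Nat.card Λ ≤ Nat.card ({1} : Set F) := Nat.card_mono (Set.toFinite _) h1
        _ = 1 := by simp
  -- the lifts
  let Y := {y : linH U // (y : G) * x = x * y}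
  have hY : ∀ y : Y, ∃ b, U.Lft ((y.1 : linH U) : G) b ∧ Lin b := fun y => y.1.2
  choose B hB hBl using hY
  have hc : ∀ y : Y, ∃ c : F, c * c ^ q = 1 ∧ ∀ v, f (B y v) = c • B y (f v) := by
    intro y
    have h1 := (hB y).mul hx
    have h2 := hx.mul (hB y)
    rw [← y.2] at h2
    exact h1.unique h2
  choose c hc1 hc using hc
  have hfne : ∃ v, f v ≠ 0 := by
    refine ⟨Pi.single ⟨0, by omega⟩ 1, fun h0 => ?_⟩
    have h1 := hx.ind.injective (h0.trans hx.ind.map_zero.symm)
    have h2 := congrFun h1 ⟨0, by omega⟩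
    rw [Pi.single_eq_same] at h2
    exact one_ne_zero h2
  have hcr : ∀ y, c y ^ r = 1 := by
    intro y
    obtain ⟨κ, hκ⟩ : ∃ κ : F, ∀ v, f^[r] v = κ • v := by
      have h1 := hx.pow r
      rw [hxr] at h1
      exact h1.eq_one_iff.1 rfl
    have h2 : ∀ k v, f^[k] (B y v) = c y ^ k • B y (f^[k] v) := by
      intro k
      induction k with
      | zero => intro v; rw [Function.iterate_zero, id, id, pow_zero, one_smul]
      | succ k ih =>
        intro v
        rw [Function.iterate_succ_apply, hc, Function.iterate_succ_apply]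
        have h3 : ∀ w, f^[k] (c y • w) = c y • f^[k] w := by
          intro w
          clear ih
          induction k with
          | zero => rfl
          | succ k ih => rw [Function.iterate_succ_apply', ih, hf, Function.iterate_succ_apply']
        rw [h3, ih, smul_smul, pow_succ']
    obtain ⟨v, hv⟩ := hfne
    have hv0 : v ≠ 0 := by
      rintro rfl
      exact hv hx.ind.map_zero
    have h3 := h2 r v
    rw [hκ, hκ, hBl, smul_smul, mul_comm, ← smul_smul] at h3
    have hκ0 : κ ≠ 0 := by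
      rintro rfl
      have h4 := hκ v
      rw [zero_smul] at h4
      have h5 : ∀ k, f^[k] v ≠ 0 := by
        intro k
        induction k with
        | zero => exact hv0
        | succ k ih =>
          rw [Function.iterate_succ_apply']
          intro h6
          exact ih (hx.ind.injective (h6.trans hx.ind.map_zero.symm))
      exact h5 r h4
    have hb0 : B y v ≠ 0 := by
      intro h4
      exact hv0 ((hB y).ind.injective (h4.trans (hB y).ind.map_zero.symm))
    have h4 : (1 : F) • B y v = c y ^ r • B y v := by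
      rw [one_smul]
      exact smul_right_injective _ hκ0 h3
    exact (smul_left_injective F hb0 h4).symm
  have hcn : ∀ y, c y ^ n = 1 := by
    intro y
    let f' : Module.End F (Fin n → F) := { toFun := f, map_add' := hx.ind.map_add, map_smul' := hf }
    let b' : Module.End F (Fin n → F) := { toFun := B y, map_add' := (hB y).ind.map_add, map_smul' := hBl y }
    have h1 : f' * b' = c y • (b' * f') := by
      apply LinearMap.ext
      intro v
      exact hc y v
    have h2 := congrArg LinearMap.det h1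
    rw [LinearMap.det_smul, map_mul, map_mul, Module.finrank_fin_fun] at h2
    have h3 : LinearMap.det f' ≠ 0 := by
      intro h0
      have h4 := LinearMap.bot_lt_ker_of_det_eq_zero h0
      have h5 : LinearMap.ker f' = ⊥ := LinearMap.ker_eq_bot.2 hx.ind.injective
      rw [h5] at h4
      exact lt_irrefl _ h4
    have h3' : LinearMap.det b' ≠ 0 := by
      intro h0
      have h4 := LinearMap.bot_lt_ker_of_det_eq_zero h0
      have h5 : LinearMap.ker b' = ⊥ := LinearMap.ker_eq_bot.2 (hB y).ind.injective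
      rw [h5] at h4
      exact lt_irrefl _ h4
    have h6 : LinearMap.det b' * LinearMap.det f' ≠ 0 := mul_ne_zero h3' h3
    have h7 : c y ^ n * (LinearMap.det b' * LinearMap.det f') = 1 * (LinearMap.det b' * LinearMap.det f') := by
      rw [← h2, one_mul, mul_comm]
    exact mul_right_cancel₀ h6 h7
  have hc0 : ∀ y, c y ≠ 0 := by
    intro y h0
    have := hcn y
    rw [h0, zero_pow (by omega)] at this
    exact zero_ne_one this
  -- representatives
  let y₀ : Y := ⟨1, by rw [OneMemClass.coe_one, one_mul, mul_one]⟩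
  let S : F → Y := fun l => if h : ∃ y, c y = l then h.choose else y₀
  have hS : ∀ y, c (S (c y)) = c y := by
    intro y
    have h1 : ∃ y', c y' = c y := ⟨y, rfl⟩
    change c (if h : ∃ y', c y' = c y then h.choose else y₀) = c y
    rw [dif_pos h1]
    exact h1.choose_spec
  choose g hg hg1 hg2 using fun l : F => (hB (S l)).inv
  have hgl : ∀ l, Lin (g l) := by
    intro l r v
    have h3 : r • v = B (S l) (r • g l v) := by rw [hBl, hg1]
    rw [h3, hg2]
  have key : ∀ (y : Y) (z : {z : F // z * z ^ q = 1}), ∃ a : {a : K // a * a ^ (q ^ n) = 1},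
      ∀ v, z.1 • g (c y) (B y v) = a.1 • v := by
    intro y z
    have h1 := ((hg (c y)).mul (hB y)).scalar z.2
    have hl : Lin (fun v => z.1 • g (c y) (B y v)) := by
      intro r v
      change z.1 • g (c y) (B y (r • v)) = r • (z.1 • g (c y) (B y v))
      rw [hBl, hgl, smul_comm]
    have h2 : ∀ v, z.1 • g (c y) (B y (f v)) = f (z.1 • g (c y) (B y v)) := by
      intro v
      rw [hf]
      congr 1
      -- `g f = c f g`
      have h3 : ∀ u, g (c y) (f u) = c y • f (g (c y) u) := by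
        intro u
        have h4 : u = B (S (c y)) (g (c y) u) := (hg1 (c y) u).symm
        conv_lhs => rw [h4]
        rw [hc, hS, hgl, hg2]
      have h4 : c y • g (c y) (B y (f v)) = c y • f (g (c y) (B y v)) := by
        rw [← h3, ← hgl, ← hc]
      exact smul_right_injective _ (hc0 y) h4
    obtain ⟨a, ha, hav⟩ := hcom _ hl h1.ind.map_add (lin_herm U h1 hl) h2
    exact ⟨⟨a, by rw [← pow_succ', ha]⟩, hav⟩
  choose a ha using key
  let Φ : Y × {z : F // z * z ^ q = 1} → Λ × {a : K // a * a ^ (q ^ n) = 1} := fun p =>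
    (⟨c p.1, hcr p.1, hcn p.1⟩, a p.1 p.2)
  have hΦ : Function.Injective Φ := by
    rintro ⟨y, z⟩ ⟨y', z'⟩ h
    have h1 : c y = c y' := congrArg (fun p => (p.1 : F)) h
    have h2 : a y z = a y' z' := congrArg Prod.snd h
    have h3 : ∀ v, z.1 • B y v = z'.1 • B y' v := by
      intro v
      have h4 : z.1 • g (c y) (B y v) = z'.1 • g (c y') (B y' v) := by rw [ha, ha, h2]
      rw [← h1, ← hgl, ← hgl] at h4
      exact (hg (c y)).ind.injective h4
    have h4 : y = y' := by
      have h5 := (hB y).scalar z.2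
      have h6 := (hB y').scalar z'.2
      have h7 : (fun v => z.1 • B y v) = fun v => z'.1 • B y' v := funext h3
      rw [h7] at h5
      exact Subtype.ext (Subtype.ext (h5.inj h6))
    subst h4
    obtain ⟨v, hv⟩ := hfne
    have h5 : B y v ≠ 0 := by
      intro h6
      apply hv
      rw [(hB y).ind.injective (h6.trans (hB y).ind.map_zero.symm)]
      exact hx.ind.map_zero
    have h6 : z = z' := Subtype.ext (smul_left_injective F h5 (h3 v))
    rw [h6]
  have hcard := Nat.card_le_card_of_injective Φ hΦ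
  rw [Nat.card_prod, Nat.card_prod, card_norm_eq_one hF, card_norm_eq_one hcK, ← ht] at hcard
  have h1 : Nat.card Y * (q + 1) ≤ (Nat.card Λ * t) * (q + 1) := by
    calc Nat.card Y * (q + 1) ≤ Nat.card Λ * (t * (q + 1)) := hcard
      _ = _ := by ring
  have h2 : Nat.card Y ≤ Nat.card Λ * t := Nat.le_of_mul_le_mul_right h1 (by omega)
  calc Nat.card Y ≤ Nat.card Λ * t := h2
    _ ≤ (if r = n then n else 1) * t := Nat.mul_le_mul_right _ hΛ
    _ = _ := by ring

end grp

end Cfsg.Agent.H409.RC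
end

-- part: H398/RC/IrrNum
section
/-!
# S3510, row E, box E7: the numerical lemma with one more unit (helper398, after helper406)
-/

set_option autoImplicit false

namespace Cfsg.Agent.H398.RC

theorem num_one {ι : Type*} [Fintype ι] {n t : ℕ} (hn : 3 ≤ n) (_ho : Odd n) (r : ι → ℕ) (hp : ∀ i, (r i).Prime)
    (hinj : Function.Injective r) (hr : ∀ i, n ≤ r i) (hk : 2 ≤ Fintype.card ι) (ht : ∏ i, r i ≤ t) :
    ∑ i, (1 + Real.sqrt ((t * (if r i = n then n else 1) : ℕ) : ℝ)) + 1 < (t : ℝ) := by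
  classical
  have hT2 : Real.sqrt t * Real.sqrt t = t := Real.mul_self_sqrt (Nat.cast_nonneg t)
  have hT0 : 0 ≤ Real.sqrt (t : ℝ) := Real.sqrt_nonneg _
  have h5 : ∀ i, r i ≠ n → 5 ≤ r i := by
    intro i hi
    have h1 := hr i
    have h2 : r i ≠ 4 := by
      intro h4
      have := hp i
      rw [h4] at this
      exact absurd this (by norm_num)
    omega
  by_cases hS : ∃ i₀, r i₀ = n
  · obtain ⟨i₀, hi₀⟩ := hS
    have hne : ∀ i ∈ Finset.univ.erase i₀, r i ≠ n := by
      intro i hi h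
      exact (Finset.ne_of_mem_erase hi) (hinj (h.trans hi₀.symm))
    obtain ⟨j, hj, hj1⟩ : ∃ j, (Finset.univ.erase i₀).card = j ∧ 1 ≤ j := by
      refine ⟨_, rfl, ?_⟩
      rw [Finset.card_erase_of_mem (Finset.mem_univ _), Finset.card_univ]
      omega
    have hprod : n * 5 ^ j ≤ t := by
      refine le_trans ?_ ht
      rw [← Finset.mul_prod_erase Finset.univ r (Finset.mem_univ i₀), hi₀, ← hj]
      exact Nat.mul_le_mul_left _ (Finset.pow_card_le_prod _ _ _ fun i hi => h5 i (hne i hi))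
    have hs0 : 0 ≤ Real.sqrt (n : ℝ) := Real.sqrt_nonneg _
    have hs2 : Real.sqrt n * Real.sqrt n = n := Real.mul_self_sqrt (Nat.cast_nonneg n)
    have hs : (1.7 : ℝ) ≤ Real.sqrt n := by
      apply Real.le_sqrt_of_sq_le
      have : (3 : ℝ) ≤ n := by exact_mod_cast hn
      norm_num only [_root_.ge_iff_le]
      linarith only [this]
    have hT : Real.sqrt n * (2.2 : ℝ) ^ j ≤ Real.sqrt t := by
      apply Real.le_sqrt_of_sq_le
      have e1 : (Real.sqrt n * (2.2 : ℝ) ^ j) ^ 2 = n * (4.84 : ℝ) ^ j := by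
        rw [mul_pow, pow_two (Real.sqrt _), hs2, ← pow_mul, mul_comm j 2, pow_mul]
        norm_num
      rw [e1]
      have e2 : (4.84 : ℝ) ^ j ≤ 5 ^ j := pow_le_pow_left₀ (by norm_num) (by norm_num) j
      have e3 : ((n * 5 ^ j : ℕ) : ℝ) ≤ t := by exact_mod_cast hprod
      push_cast at e3
      exact (mul_le_mul_of_nonneg_left e2 (Nat.cast_nonneg n)).trans e3
    have hB : 1 + (j : ℝ) * 1.2 ≤ (2.2 : ℝ) ^ j := by
      have := one_add_mul_le_pow (a := (1.2 : ℝ)) (by norm_num) j
      norm_num only [_root_.ge_iff_le] at this ⊢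
      exact this
    have hjR : (1 : ℝ) ≤ j := by exact_mod_cast hj1
    set s := Real.sqrt (n : ℝ) with hsd
    set T := Real.sqrt (t : ℝ) with hTd
    have hT1 : s * (1 + (j : ℝ) * 1.2) ≤ T := (mul_le_mul_of_nonneg_left hB hs0).trans hT
    have hT3 : s + 2.04 * j ≤ T := by nlinarith only [hs, hT1]
    have hT4 : 3.74 ≤ T := by linarith only [hjR, hs, hT3]
    have hsum : ∑ i, (1 + Real.sqrt ((t * (if r i = n then n else 1) : ℕ) : ℝ)) = (1 + T * s) + j * (1 + T) := by
      rw [← Finset.add_sum_erase Finset.univ _ (Finset.mem_univ i₀), if_pos hi₀]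
      congr 1
      · rw [Nat.cast_mul, Real.sqrt_mul (Nat.cast_nonneg t)]
      · rw [Finset.sum_congr rfl (g := fun _ => 1 + T) fun i hi => by rw [if_neg (hne i hi), mul_one], Finset.sum_const, hj,
          nsmul_eq_mul]
    rw [hsum, ← hT2]
    nlinarith only [hjR, hs, hT3]
  · push Not at hS
    obtain ⟨k, hkd⟩ : ∃ k, Fintype.card ι = k := ⟨_, rfl⟩
    rw [hkd] at hk
    have hprod : 5 ^ k ≤ t := by
      refine le_trans ?_ ht
      rw [← hkd, ← Finset.card_univ]
      exact Finset.pow_card_le_prod _ _ _ fun i _ => h5 i (hS i)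
    have hT : (2.2 : ℝ) ^ k ≤ Real.sqrt t := by
      apply Real.le_sqrt_of_sq_le
      have e1 : ((2.2 : ℝ) ^ k) ^ 2 = (4.84 : ℝ) ^ k := by
        rw [← pow_mul, mul_comm k 2, pow_mul]
        norm_num
      rw [e1]
      have e2 : (4.84 : ℝ) ^ k ≤ 5 ^ k := pow_le_pow_left₀ (by norm_num) (by norm_num) k
      have e3 : ((5 ^ k : ℕ) : ℝ) ≤ t := by exact_mod_cast hprod
      push_cast at e3
      exact e2.trans e3
    have hB : 1 + (k : ℝ) * 1.2 ≤ (2.2 : ℝ) ^ k := by
      have := one_add_mul_le_pow (a := (1.2 : ℝ)) (by norm_num) k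
      norm_num only [_root_.ge_iff_le] at this ⊢
      exact this
    have hkR : (2 : ℝ) ≤ k := by exact_mod_cast hk
    set T := Real.sqrt (t : ℝ) with hTd
    have hT1 : 1 + (k : ℝ) * 1.2 ≤ T := hB.trans hT
    have hsum : ∑ i, (1 + Real.sqrt ((t * (if r i = n then n else 1) : ℕ) : ℝ)) = k * (1 + T) := by
      rw [Finset.sum_congr rfl (g := fun _ => 1 + T) fun i _ => by rw [if_neg (hS i), mul_one], Finset.sum_const,
        Finset.card_univ, hkd, nsmul_eq_mul]
    rw [hsum, ← hT2]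
    nlinarith only [hB, hkR, hT]

/-- the form needed by `H368.RC.not_cov_env` -/
theorem num_cb {ι : Type*} [Fintype ι] {n d t : ℕ} (hn : 3 ≤ n) (ho : Odd n) (htd : d + 1 = t) (r : ι → ℕ)
    (hp : ∀ i, (r i).Prime) (hinj : Function.Injective r) (hr : ∀ i, n ≤ r i) (hk : 2 ≤ Fintype.card ι)
    (ht : ∏ i, r i ≤ t) :
    ∑ i, (1 / ((d : ℝ) + 1) + √((t * (if r i = n then n else 1) : ℕ) : ℝ) / d) < 1 := by
  have h1 := num_one hn ho r hp hinj hr hk ht
  have h2 : 0 ≤ ∑ i, (1 + Real.sqrt ((t * (if r i = n then n else 1) : ℕ) : ℝ)) :=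
    Finset.sum_nonneg fun i _ => add_nonneg zero_le_one (Real.sqrt_nonneg _)
  have h3 : ((d : ℝ) + 1) = t := by exact_mod_cast htd
  have hd : (0 : ℝ) < d := by linarith only [h1, h2, h3]
  have h4 : ∑ i, (1 / ((d : ℝ) + 1) + √((t * (if r i = n then n else 1) : ℕ) : ℝ) / d) ≤
      ∑ i, (1 + Real.sqrt ((t * (if r i = n then n else 1) : ℕ) : ℝ)) / d := by
    refine Finset.sum_le_sum fun i _ => ?_
    rw [add_div]
    have h5 : 1 / ((d : ℝ) + 1) ≤ 1 / d := one_div_le_one_div_of_le hd (by linarith only [])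
    linarith only [h5]
  refine lt_of_le_of_lt h4 ?_
  rw [← Finset.sum_div, div_lt_one hd]
  linarith only [h1, h3]

end Cfsg.Agent.H398.RC
end

-- part: H409/RC/Irr
section
/-!
# S3510, family E, box E7: `IrrStmt` (helper409)
-/

set_option autoImplicit false
set_option linter.unusedSectionVars false

namespace Cfsg.Agent.H409.RC

open Cfsg Module Cfsg.Agent.LieClassical.HermBasic Cfsg.Agent.ClassicalGeometry.HermOrtho Cfsg.Agent.H380.RC

section num

variable {F : Type} [Field F] [Fintype F] {n q : ℕ} {K : Type} [Field K] [Fintype K] [Algebra F K]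

/-- roots of unity of order dividing `q + 1` are in `F` -/
theorem mem_of_pow (hF : Fintype.card F = q ^ 2) {z : K} (hz : z ^ (q + 1) = 1) : ∃ c : F, algebraMap F K c = z := by
  classical
  let A : Finset F := Finset.univ.filter fun c => c * c ^ q = 1
  have hA : A.card = q + 1 := by
    rw [← card_norm_eq_one hF, Nat.card_eq_fintype_card, Fintype.card_subtype]
  let B : Finset K := A.image (algebraMap F K)
  have hB : B.card = q + 1 := by
    rw [Finset.card_image_of_injective _ (algebraMap F K).injective, hA]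
  have hsub : B ⊆ (Polynomial.nthRoots (q + 1) (1 : K)).toFinset := by
    intro y hy
    obtain ⟨c, hc, rfl⟩ := Finset.mem_image.1 hy
    rw [Multiset.mem_toFinset, Polynomial.mem_nthRoots (by omega), ← map_pow, pow_succ',
      (Finset.mem_filter.1 hc).2, map_one]
  have heq : B = (Polynomial.nthRoots (q + 1) (1 : K)).toFinset := by
    apply Finset.eq_of_subset_of_card_le hsub
    rw [hB]
    exact (Multiset.toFinset_card_le _).trans (Polynomial.card_nthRoots _ _)
  have h1 : z ∈ (Polynomial.nthRoots (q + 1) (1 : K)).toFinset := by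
    rw [Multiset.mem_toFinset, Polynomial.mem_nthRoots (by omega)]
    exact hz
  rw [← heq] at h1
  obtain ⟨c, -, hc⟩ := Finset.mem_image.1 h1
  exact ⟨c, hc⟩

theorem mem_of_coprime (hF : Fintype.card F = q ^ 2) {a : K} {t r : ℕ} (ht : t * (q + 1) = q ^ n + 1)
    (ha : a ^ (q ^ n + 1) = 1) {c : F} (hc : a ^ r = algebraMap F K c) (hco : Nat.Coprime r t) :
    ∃ c : F, algebraMap F K c = a := by
  obtain ⟨z, hz⟩ := mem_of_pow (K := K) hF (z := a ^ t) (by rw [← pow_mul, ht, ha])
  have ha0 : a ≠ 0 := by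
    rintro rfl
    rw [zero_pow (by omega)] at ha
    exact zero_ne_one ha
  have h1 := Nat.gcd_eq_gcd_ab r t
  rw [hco] at h1
  refine ⟨c ^ (Nat.gcdA r t) * z ^ (Nat.gcdB r t), ?_⟩
  rw [map_mul, map_zpow₀, map_zpow₀, ← hc, hz, ← zpow_natCast, ← zpow_natCast, ← zpow_mul, ← zpow_mul, ← zpow_add₀ ha0,
    ← h1]
  simp

end num

/-- **Box E7.** -/
theorem irrStmt : IrrStmt := by
  intro G Ω _ _ _ _ _ N F _ _ n q U ι _ x f r hU hcov hP
  obtain ⟨hodd, hlin, hrq, hirr⟩ := hP
  classical
  have hn := U.hn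
  have hF := U.hF
  have hq := two_le hF
  have hfi : Fintype ι := Fintype.ofFinite ι
  obtain ⟨ω⟩ := (inferInstance : Nonempty Ω)
  obtain ⟨i₀, -⟩ := hcov ω
  have hfam : Fam q f := by
    refine ⟨hlin, fun i => (hU.lft i).ind.map_add, fun i => lin_herm U (hU.lft i) (hlin i), hU.comm, fun i => ?_⟩
    obtain ⟨k, hk⟩ := hU.ord i
    exact ⟨_, Nat.Coprime.pow_left k (hrq i), hk⟩
  obtain ⟨K, _, _, _, _, _, -, hcK, hel, hcom⟩ := irr_field i₀ hF (by omega) hfam hirr
  obtain ⟨t, ht'⟩ := Odd.nat_add_dvd_pow_add_pow q 1 hodd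
  have ht : t * (q + 1) = q ^ n + 1 := by
    rw [one_pow] at ht'
    rw [ht', mul_comm]
  have hscal : ∀ i, ∃ κ : F, ∀ v, (f i)^[r i] v = κ • v := by
    intro i
    have h1 := (hU.lft i).pow (r i)
    rw [hU.pf.pow] at h1
    exact h1.eq_one_iff.1 rfl
  have hnr : ∀ i, n ≤ r i := by
    intro i
    obtain ⟨κ, hκ⟩ := hscal i
    exact le_of_pow_scalar (by omega) (hlin i) (hU.lft i).ind.map_add (hirr i) (hU.pf.prime i).pos hκ
  have hne : Nonempty (Fin n) := ⟨⟨0, by omega⟩⟩
  obtain ⟨v₀, hv₀⟩ := exists_ne (0 : Fin n → F)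
  -- the primes divide `t`
  have hrt : ∀ i, r i ∣ t := by
    intro i
    by_contra hnd
    have hco : Nat.Coprime (r i) t := (Nat.Prime.coprime_iff_not_dvd (hU.pf.prime i)).2 hnd
    obtain ⟨κ, hκ⟩ := hscal i
    obtain ⟨a, ha, hav⟩ := hel i
    have hit : ∀ k v, (f i)^[k] v = a ^ k • v := by
      intro k v
      induction k with
      | zero => rw [Function.iterate_zero, id, pow_zero, one_smul]
      | succ k ih => rw [Function.iterate_succ_apply', ih, hav, smul_smul, ← pow_succ']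
    have h1 : a ^ r i = algebraMap F K κ := by
      have h2 := hit (r i) v₀
      rw [hκ, ← algebraMap_smul K κ v₀] at h2
      exact (smul_left_injective K hv₀ h2).symm
    obtain ⟨c, hc⟩ := mem_of_coprime hF ht ha h1 hco
    apply hU.pf.ne i
    refine (hU.lft i).eq_one_iff.2 ⟨c, fun v => ?_⟩
    rw [hav, ← hc, algebraMap_smul]
  have ht0 : 0 < t := by
    rcases Nat.eq_zero_or_pos t with h | h
    · rw [h, zero_mul] at ht
      omega
    · exact h
  have hprod : ∏ i, r i ≤ t := by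
    apply Nat.le_of_dvd ht0
    apply Finset.prod_dvd_of_isRelPrime _ fun i _ => hrt i
    intro i _ j _ hij
    refine Nat.coprime_iff_isRelPrime.1 ?_
    exact (Nat.coprime_primes (hU.pf.prime i) (hU.pf.prime j)).2 fun h => hij (hU.pf.inj h)
  have hcard : 2 ≤ Fintype.card ι := by
    obtain ⟨j, hj⟩ := H106.RC.Cov.two U.env hcov hU.pf.ne i₀
    exact Fintype.one_lt_card_iff.2 ⟨j, i₀, hj⟩
  -- the minimal degree
  obtain ⟨d, hd⟩ : ∃ d, d + 1 = t := ⟨t - 1, by omega⟩
  have hd0 : 0 < d := by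
    rcases Nat.eq_zero_or_pos d with h | h
    · have h1 : r i₀ ≤ 1 := by
        rw [h, zero_add] at hd
        rw [hd]
        exact Nat.le_of_dvd ht0 (hrt i₀)
      have := (hU.pf.prime i₀).two_le
      omega
    · exact h
  have hdeg : Cfsg.Agent.H514.DP.MinDeg (SU n F q) d := by
    have h1 : (q ^ n - q) / (q + 1) = d := by
      have h2 : q ^ n - q = d * (q + 1) := by
        have h3 : (d + 1) * (q + 1) = q ^ n + 1 := by rw [hd, ht]
        have h4 : (d + 1) * (q + 1) = d * (q + 1) + (q + 1) := by ring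
        omega
      rw [h2, Nat.mul_div_cancel _ (by omega)]
    rw [← h1]
    refine S2334.result n q hn hodd hF ?_
    intro h
    rw [Prod.mk.injEq] at h
    exact U.h32 h
  have hdegN : Cfsg.Agent.H514.DP.MinDeg N d := by
    refine H368.RC.minDeg_surj hdeg (U.e.symm.toMonoidHom.comp (Cfsg.Agent.ClassicalGeometry.PSUAutBasic.pr n F q)) ?_
    intro y
    obtain ⟨s, hs⟩ := Cfsg.Agent.ClassicalGeometry.PSUAutBasic.pr_surjective (U.e y)
    refine ⟨s, ?_⟩
    change U.e.symm _ = y
    rw [hs, MulEquiv.symm_apply_apply]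
  refine H368.RC.not_cov_env U.env (le_linH U) hd0 hdegN (x := x) (c := fun i => t * (if r i = n then n else 1))
    (fun i => ⟨_, hU.lft i, hlin i⟩) (fun i => ?_) ?_ hcov
  · exact card_cent U hcK (hU.lft i) (hlin i) (hcom i) (hU.pf.prime i) (hnr i) (hU.pf.pow i) ht
  · exact H398.RC.num_cb hn hodd hd r hU.pf.prime hU.pf.inj hnr hcard hprod

end Cfsg.Agent.H409.RC
end
end

-- part: H377/RowOrth
section
prune_inst 0xc1604400090012000000001670001c428a00040220438c00c54308000f8164234d026e21b5d0241b481080c44039006811000030425000000e000c00411901a080835206b248a00406009f800880000000000000000000000000000000010000000000002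
set_option linter.all false

-- part: H568/Cover
section
/-!
# Central covers and linear groups in the rows of S4329 (helper568)

`π : Γ →* S` surjective with central kernel, `Γ` finite, `ρ : Γ →* GL ι F` injective.
* `lift_prime`, `eq_of_lift` : elements of prime order `l ∤ |ker π|` lift to elements with `Y ^ l = 1`, uniquely;
* `pcent_cover`, `noNorm_cover` : `PCent`, `NoNorm` go down to `S`;
* `pcent_lin`, `pcent_form` : `PCent p x` for `x` of prime order `l`, `p` not the characteristic, from `H568/LinP`;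
* `noNorm_irred` : `NoNorm p x` if `p` is the characteristic and a lift of `x` is irreducible;
* `noNorm_of_pcent` : `PCent p x` and no element of order `p` commutes with `x`.
-/

set_option autoImplicit false
set_option linter.unusedSectionVars false

namespace Cfsg.Agent.H568

open Subgroup Module Matrix

section Cover

variable {Γ S : Type*} [Group Γ] [Finite Γ] [Group S] {π : Γ →* S} (hπ : Function.Surjective π)
  (hker : π.ker ≤ center Γ)

section Lin

variable {F : Type*} [Field F] {ι : Type*} [Fintype ι] [DecidableEq ι] (ρ : Γ →* GL ι F)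
  (hρ : Function.Injective ρ)

end Lin

end Cover

section Irr

variable {F ι : Type*} [Field F] [Finite F] [Fintype ι] [DecidableEq ι] [Nonempty ι] {Γ S : Type*} [Group Γ] [Finite Γ]
  [Group S]

end Irr

end Cfsg.Agent.H568
end

-- part: H377/RowOrth
section
/-!
# General tools for the orthogonal rows of S4329 (helper377)

`Q` a `Good` quadratic form on `ι → F`, `S = E Q / Z`.
-/

set_option autoImplicit false
set_option linter.unusedSectionVars false
set_option linter.style.haveILetI false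

namespace Cfsg.Agent.H377.RowOrth

open QuadraticMap Module Subgroup Matrix
open Cfsg.Agent.LieClassical.OrthCore Cfsg.Agent.LieClassical.OrthTrans
open Cfsg.Agent.ClassicalGeometry.OrthAut1 (center_scalar)
open Cfsg.Agent.ClassicalGeometry.OrthSemi
open Cfsg.Agent.H568 Cfsg.Agent.H377.Fpf

variable {F : Type*} [Field F] {ι : Type*} [Fintype ι] [DecidableEq ι] {Q : QuadraticForm F (ι → F)}

end Cfsg.Agent.H377.RowOrth
end
end
end
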